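import Cfsg.Agent.Lib.Blk89.DegP2A
import Cfsg.Agent.Lib.Blk89.DegP2B
import Cfsg.Agent.Lib.Char.ClassSum
import Cfsg.Agent.Lib.Char.CentralCount
import Cfsg.Agent.Lib.BrauerP.TwoE.Z1

/-!
# Faithful irreducible characters of degree `p - 2`: the structure of `C_G(P)` and `N_G(P)`, and the basic identity

`C_G(P) = P × Z(G)`, elements of `N_G(P) \ C_G(P)` invert `P` and have square in `Z(G)`.  A `p`-singular commutator
`[τ, x]` is a conjugate of an element of `P`, hence the sums `∑ x, Ws θ d [τ, x]` do not depend on `θ`.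
-/

set_option autoImplicit false
set_option linter.style.haveILetI false
set_option linter.unusedSectionVars false

namespace Cfsg.Agent.Lib.Blk89.DegP2C

open Cfsg
open Cfsg.Agent.Lib.Blocks.Local Cfsg.Agent.Lib.Blocks.Central Cfsg.Agent.Lib.Blocks.General
open Cfsg.Agent.Lib.Blocks.Induced
open Cfsg.Agent.Lib.Char.Induced Cfsg.Agent.Lib.Char.Ortho Cfsg.Agent.Lib.Char.Linear
open Cfsg.Agent.Lib.Char.Basic Cfsg.Agent.Lib.Char.GenLattice Cfsg.Agent.Lib.Char.Complete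
open Cfsg.Agent.Lib.Char.Degree
open Cfsg.Agent.Lib.ExcP.Gram Cfsg.Agent.Lib.ExcP.Inst Cfsg.Agent.Lib.ExcP.Dual
open Cfsg.Agent.Lib.ExcP.BlockHA
open Cfsg.Agent.Lib.ModRep.Prime Cfsg.Agent.Lib.ModRep.ThGram Cfsg.Agent.Lib.ModRep.ThIdem
open Cfsg.Agent.Lib.ModRep.ThDeg Cfsg.Agent.Lib.ModRep.Numerics2 Cfsg.Agent.Lib.ModRep.BlockTh
open Cfsg.Agent.Lib.CharDeep.BrauerDeg
open Cfsg.Agent.Lib.D1.CountN
open Cfsg.Agent.Lib.Blk89.DegP2A
open scoped ComplexConjugate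

universe u

section Group

variable {G : Type u} [Group G] {p : ℕ} [hp : Fact p.Prime] {P : Subgroup G}

theorem pow_p_eq_one [Finite G] (hP : Nat.card P = p) {u : G} (hu : u ∈ P) : u ^ p = 1 := by
  have h1 := pow_card_eq_one' (x := (⟨u, hu⟩ : P))
  rw [hP] at h1
  have := congrArg Subtype.val h1
  simpa using this

theorem eq_one_of_sq [Finite G] (hP : Nat.card P = p) (hodd : p ≠ 2) {u : G} (hu : u ∈ P) (h : u * u = 1) : u = 1 := by
  have h1 : orderOf u ∣ 2 := orderOf_dvd_of_pow_eq_one (by rw [pow_two, h])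
  have h2 : orderOf u ∣ p := orderOf_dvd_of_pow_eq_one (pow_p_eq_one hP hu)
  have h3 : Nat.Coprime 2 p := by
    rw [Nat.coprime_primes Nat.prime_two hp.out]
    exact fun h => hodd h.symm
  exact orderOf_eq_one_iff.mp (Nat.eq_one_of_dvd_coprimes h3 h1 h2)

/-- An element of the normalizer outside the centralizer, with square in the centralizer, inverts `P`. -/
theorem inv_of_not_mem [Finite G] (hP : Nat.card P = p) {y : G} (hy : y ∈ Nn P)
    (hyC : y ∉ Cn P) (hyy : y * y ∈ Cn P) : ∀ u ∈ P, y * u * y⁻¹ = u⁻¹ := by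
  obtain ⟨u₀, hu₀, hu₀1⟩ : ∃ u ∈ P, u ≠ 1 := by
    have h : Nontrivial P := by
      apply Finite.one_lt_card_iff_nontrivial.mp
      rw [hP]
      exact hp.out.one_lt
    obtain ⟨x, hx⟩ := exists_ne (1 : P)
    exact ⟨x, x.2, fun h => hx (Subtype.ext h)⟩
  have hz := eq_zpowers_of_mem hP hu₀ hu₀1
  have h1 : y * u₀ * y⁻¹ ∈ P := (Subgroup.mem_normalizer_iff.mp hy u₀).mp hu₀
  rw [hz] at h1
  obtain ⟨r, hr⟩ := Subgroup.mem_zpowers_iff.mp h1
  have hu₀o : orderOf u₀ = p := by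
    rw [← hP, hz, Nat.card_zpowers]
  have hsq : u₀ ^ (r * r - 1) = 1 := by
    have h2 : (y * y) * u₀ * (y * y)⁻¹ = u₀ := by
      have h3 := Subgroup.mem_centralizer_iff.mp hyy u₀ hu₀
      rw [← h3]
      group
    have h3 : (y * y) * u₀ * (y * y)⁻¹ = u₀ ^ (r * r) := by
      have h4 : (y * y) * u₀ * (y * y)⁻¹ = y * (y * u₀ * y⁻¹) * y⁻¹ := by group
      rw [h4, ← hr, ← conj_zpow, zpow_mul, ← hr, ← zpow_mul, zpow_mul]
    rw [h3] at h2
    rw [sub_eq_add_neg, zpow_add, h2]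
    simp
  have hdvd : (p : ℤ) ∣ r * r - 1 := by
    have := orderOf_dvd_iff_zpow_eq_one.mpr hsq
    rwa [hu₀o] at this
  have hfac : (p : ℤ) ∣ (r - 1) * (r + 1) := by
    have : (r - 1) * (r + 1) = r * r - 1 := by ring
    rwa [this]
  have hpZ : Prime (p : ℤ) := Nat.prime_iff_prime_int.mp hp.out
  rcases hpZ.dvd_or_dvd hfac with h | h
  · exfalso
    obtain ⟨k, hk⟩ := h
    apply hyC
    rw [Subgroup.mem_centralizer_iff]
    intro w hw
    rw [hz] at hw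
    obtain ⟨i, rfl⟩ := Subgroup.mem_zpowers_iff.mp hw
    have h2 : u₀ ^ r = u₀ := by
      have h3 : r = (p : ℤ) * k + 1 := by linarith
      rw [h3, zpow_add, zpow_mul, zpow_natCast, pow_p_eq_one hP hu₀]
      simp
    rw [h2] at hr
    have h4 : y * u₀ = u₀ * y := by
      calc y * u₀ = (y * u₀ * y⁻¹) * y := by group
        _ = u₀ * y := by rw [← hr]
    exact ((Commute.zpow_left (show Commute u₀ y from h4.symm) i))
  · obtain ⟨k, hk⟩ := h
    intro w hw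
    rw [hz] at hw
    obtain ⟨i, rfl⟩ := Subgroup.mem_zpowers_iff.mp hw
    rw [← conj_zpow, ← hr, ← zpow_mul]
    have h3 : r = (p : ℤ) * k + -1 := by linarith
    have h4 : u₀ ^ ((p : ℤ) * (k * i)) = 1 := by
      rw [zpow_mul, zpow_natCast, pow_p_eq_one hP hu₀]
      simp
    rw [show r * i = (p : ℤ) * (k * i) + -i by rw [h3]; ring, zpow_add, h4, one_mul, zpow_neg]

/-- An element with square in the centre. -/
theorem sq_center [Finite G] (hP : Nat.card P = p) (hodd : p ≠ 2)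
    (hdec : ∀ c ∈ Cn P, ∃ u ∈ P, ∃ z ∈ Subgroup.center G, c = u * z) {y : G}
    (hinv : ∀ u ∈ P, y * u * y⁻¹ = u⁻¹) (hyy : y * y ∈ Cn P) : y * y ∈ Subgroup.center G := by
  obtain ⟨u, hu, z, hz, h1⟩ := hdec _ hyy
  have hzc : ∀ g : G, g * z = z * g := fun g => (Subgroup.mem_center_iff.mp hz g)
  have h2 : y * (y * y) * y⁻¹ = y * y := by group
  rw [h1] at h2
  have h3 : y * (u * z) * y⁻¹ = u⁻¹ * z := by
    have h4 : y * (u * z) * y⁻¹ = (y * u * y⁻¹) * (y * z * y⁻¹) := by group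
    rw [h4, hinv u hu, hzc y]
    group
  rw [h3] at h2
  have h5 : u⁻¹ = u := mul_right_cancel h2
  have h6 : u * u = 1 := by
    nth_rewrite 1 [← h5]
    simp
  have h7 := eq_one_of_sq hP hodd hu h6
  rw [h1, h7, one_mul]
  exact hz

/-- Central multiples of conjugate elements are conjugate. -/
theorem isConj_mul_central {a b z : G} (h : IsConj a b) (hz : z ∈ Subgroup.center G) : IsConj (a * z) (b * z) := by
  obtain ⟨c, rfl⟩ := isConj_iff.mp h
  rw [isConj_iff]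
  refine ⟨c, ?_⟩
  have hzc : c⁻¹ * z = z * c⁻¹ := (Subgroup.mem_center_iff.mp hz c⁻¹)
  have hzc' : c * z = z * c := (Subgroup.mem_center_iff.mp hz c)
  calc c * (a * z) * c⁻¹ = c * a * (z * c⁻¹) := by group
    _ = c * a * (c⁻¹ * z) := by rw [hzc]
    _ = c * a * c⁻¹ * z := by group

/-- **The key property of commutators.** -/
theorem comm_conj_mem [Finite G] (hP : Nat.card P = p) (hp2 : ¬ p ^ 2 ∣ Nat.card G) (hodd : p ≠ 2)
    (hdec : ∀ c ∈ Cn P, ∃ u ∈ P, ∃ z ∈ Subgroup.center G, c = u * z) {τ : G}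
    (hinv : ∀ u ∈ P, τ * u * τ⁻¹ = u⁻¹) (hττ : τ * τ ∈ Subgroup.center G)
    (hcl : ∀ z ∈ Subgroup.center G, IsConj τ (τ * z) → z = 1)
    (hcl' : ∀ z ∈ Subgroup.center G, IsConj τ⁻¹ (τ⁻¹ * z) → z = 1) {x : G}
    (hg : p ∣ orderOf (τ * (x * τ⁻¹ * x⁻¹))) :
    ∃ s v : G, v ∈ P ∧ τ * (x * τ⁻¹ * x⁻¹) = s * v * s⁻¹ := by
  classical
  let _ : Fintype G := Fintype.ofFinite G
  have hinv' : ∀ u ∈ P, τ⁻¹ * u * τ⁻¹⁻¹ = u⁻¹ := by
    intro u hu
    have h1 := hinv (u⁻¹) (P.inv_mem hu)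
    rw [inv_inv] at h1
    rw [inv_inv]
    calc τ⁻¹ * u * τ = τ⁻¹ * (τ * u⁻¹ * τ⁻¹) * τ := by rw [h1]
      _ = u⁻¹ := by group
  set g := τ * (x * τ⁻¹ * x⁻¹) with hgdef
  set y₁ := x * τ⁻¹ * x⁻¹ with hy₁
  set c := τ * τ with hc
  have hcc : ∀ a : G, a * c = c * a := fun a => Subgroup.mem_center_iff.mp hττ a
  -- `τ` inverts `g`
  have hy₁y₁ : y₁ * y₁ = c⁻¹ := by
    have h1 : y₁ * y₁ = x * (τ⁻¹ * τ⁻¹) * x⁻¹ := by
      rw [hy₁]
      group
    have h2 : τ⁻¹ * τ⁻¹ = c⁻¹ := by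
      rw [hc]
      group
    rw [h1, h2]
    have h3 : x * c⁻¹ = c⁻¹ * x := by
      have h4 : c⁻¹ ∈ Subgroup.center G := Subgroup.inv_mem _ hττ
      exact Subgroup.mem_center_iff.mp h4 x
    rw [h3]
    group
  have hy₁i : y₁⁻¹ = y₁ * c := by
    have h1 : y₁ * c * y₁ = 1 := by
      rw [hcc y₁, mul_assoc, hy₁y₁]
      group
    exact inv_eq_of_mul_eq_one_left h1
  have hτg : τ * g * τ⁻¹ = g⁻¹ := by
    rw [hgdef, mul_inv_rev, hy₁i]
    have h1 : τ * (τ * y₁) * τ⁻¹ = c * y₁ * τ⁻¹ := by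
      rw [hc]
      group
    rw [h1, hcc y₁]
  -- the element of order `p`
  set u := g ^ (orderOf g / p) with hu
  have huo : orderOf u = p := orderOf_pow_div hg
  have hτu : τ * u * τ⁻¹ = u⁻¹ := by
    rw [hu, ← conj_pow, hτg, inv_pow]
  have hu1 : u ≠ 1 := by
    intro h
    rw [h, orderOf_one] at huo
    exact hp.out.one_lt.ne huo
  have hug : u * g = g * u := by
    rw [hu]
    exact (Commute.pow_left (Commute.refl g) _)
  obtain ⟨s, hs⟩ := exists_conj_of_card hP hp2 (D := Subgroup.zpowers u) (by rw [Nat.card_zpowers, huo])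
  have hus : u ∈ P.map (MulAut.conj s).toMonoidHom := by
    rw [hs]
    exact Subgroup.mem_zpowers u
  obtain ⟨v, hv, hvu⟩ := Subgroup.mem_map.mp hus
  have hvu' : s * v * s⁻¹ = u := hvu
  have hv1 : v ≠ 1 := by
    rintro rfl
    apply hu1
    rw [← hvu']
    simp
  -- conjugate everything by `s`
  set τ' := s⁻¹ * τ * s with hτ'
  have hτ'v : τ' * v * τ'⁻¹ = v⁻¹ := by
    have h1 : τ' * v * τ'⁻¹ = s⁻¹ * (τ * (s * v * s⁻¹) * τ⁻¹) * s := by
      rw [hτ']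
      group
    rw [h1, hvu', hτu, ← hvu']
    group
  have hτ'N : τ' ∈ Nn P := mem_normalizer_of_conj_mem hP hv (P.inv_mem hv) (by
    intro h
    apply hv1
    simpa using h) hτ'v
  have hτ'inv : ∀ w ∈ P, τ' * w * τ'⁻¹ = w⁻¹ := by
    intro w hw
    have hz := eq_zpowers_of_mem hP hv hv1
    rw [hz] at hw
    obtain ⟨i, rfl⟩ := Subgroup.mem_zpowers_iff.mp hw
    rw [← conj_zpow, hτ'v, inv_zpow]
  -- `τ⁻¹ τ'` centralizes `P`
  have hcent : τ⁻¹ * τ' ∈ Cn P := by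
    rw [Subgroup.mem_centralizer_iff]
    intro w hw
    have h1 : (τ⁻¹ * τ') * w * (τ⁻¹ * τ')⁻¹ = w := by
      have h2 : (τ⁻¹ * τ') * w * (τ⁻¹ * τ')⁻¹ = τ⁻¹ * (τ' * w * τ'⁻¹) * τ := by group
      rw [h2, hτ'inv w hw]
      have h3 := hinv' (w⁻¹) (P.inv_mem hw)
      rw [inv_inv, inv_inv] at h3
      exact h3
    calc w * (τ⁻¹ * τ') = ((τ⁻¹ * τ') * w * (τ⁻¹ * τ')⁻¹) * (τ⁻¹ * τ') := by rw [h1]
      _ = (τ⁻¹ * τ') * w := by group
  obtain ⟨v₁, hv₁, z₁, hz₁, h1⟩ := hdec _ hcent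
  have hτ'e : τ' = τ * v₁ * z₁ := by
    have : τ' = τ * (τ⁻¹ * τ') := by group
    rw [this, h1]
    group
  have hconj1 : IsConj τ τ' := by
    rw [isConj_iff]
    exact ⟨s⁻¹, by rw [hτ']; group⟩
  have hconj2 : IsConj (τ * v₁ * z₁) (τ * z₁) :=
    isConj_mul_central (Cfsg.Agent.Lib.BrauerP.TwoE.conj_τ_mul hP hodd hinv hv₁).symm hz₁
  have hz₁1 : z₁ = 1 := hcl z₁ hz₁ (hconj1.trans (hτ'e ▸ hconj2))
  -- the element `g`
  set g' := s⁻¹ * g * s with hg'
  have hg'v : g' * v = v * g' := by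
    have h2 : g' * v = s⁻¹ * (g * (s * v * s⁻¹)) * s := by
      rw [hg']
      group
    have h3 : v * g' = s⁻¹ * ((s * v * s⁻¹) * g) * s := by
      rw [hg']
      group
    rw [h2, h3, hvu', hug]
  have hg'C : g' ∈ Cn P := by
    rw [Subgroup.mem_centralizer_iff]
    intro w hw
    have hz := eq_zpowers_of_mem hP hv hv1
    rw [hz] at hw
    obtain ⟨i, rfl⟩ := Subgroup.mem_zpowers_iff.mp hw
    exact (Commute.zpow_left (show Commute v g' from hg'v.symm) i)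
  obtain ⟨v₂, hv₂, z₂, hz₂, h2⟩ := hdec _ hg'C
  -- the conjugate of `y₁`
  have hy' : s⁻¹ * y₁ * s = τ⁻¹ * (v₁ * v₂) * z₂ := by
    have h3 : g = τ * y₁ := rfl
    have h4 : s⁻¹ * y₁ * s = τ'⁻¹ * g' := by
      rw [hτ', hg', h3]
      group
    rw [h4, h2, hτ'e, hz₁1, mul_one]
    have h5 : v₁⁻¹ * τ⁻¹ = τ⁻¹ * v₁ := by
      have h6 := hinv' (v₁) hv₁
      rw [inv_inv] at h6
      have h7 : τ⁻¹ * v₁ = v₁⁻¹ * τ⁻¹ := by
        rw [← h6]
        group
      exact h7.symm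
    calc (τ * v₁)⁻¹ * (v₂ * z₂) = (v₁⁻¹ * τ⁻¹) * (v₂ * z₂) := by group
      _ = (τ⁻¹ * v₁) * (v₂ * z₂) := by rw [h5]
      _ = _ := by group
  have hconj3 : IsConj τ⁻¹ y₁ := by
    rw [isConj_iff]
    exact ⟨x, rfl⟩
  have hconj4 : IsConj y₁ (s⁻¹ * y₁ * s) := by
    rw [isConj_iff]
    exact ⟨s⁻¹, by group⟩
  have hconj5 : IsConj (τ⁻¹ * (v₁ * v₂) * z₂) (τ⁻¹ * z₂) :=
    isConj_mul_central (Cfsg.Agent.Lib.BrauerP.TwoE.conj_τ_mul hP hodd hinv' (P.mul_mem hv₁ hv₂)).symm hz₂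
  have hz₂1 : z₂ = 1 := hcl' z₂ hz₂ (hconj3.trans (hconj4.trans (hy' ▸ hconj5)))
  refine ⟨s, v₂, hv₂, ?_⟩
  have h3 : g = s * g' * s⁻¹ := by
    rw [hg']
    group
  rw [h3, h2, hz₂1, mul_one]

end Group

section Family

variable {G : Type u} [Group G] [Fintype G] {p : ℕ} [hp : Fact p.Prime] {P : Subgroup G}
  [Fintype (Cn P)] [Fintype (Nn P)] [Fintype (DD P p)] [Fintype (IrrCharacter G)] [Fintype (IrrCharacter (Cn P))]
  {M : Ideal AlgInt} {ζ : IrrCharacter G}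

/-- `θ` at `1`. -/
theorem th_one (S : S1 M P p ζ) : (S.θ : Cn P → ℂ) 1 = 1 := by
  rw [← charDegree_natCast (isCharacter_of_isIrrCharacter S.θ.2), S.hdeg]
  simp

/-- The values of `ζ` on the centralizer. -/
theorem val_C (S : S1 M P p ζ) (c : Cn P) :
    open scoped Classical in
    (ζ : G → ℂ) c = (S.θ : Cn P → ℂ) c *
      (1 + ∑ d : DD P p, if S.F.ν d = ζ then (0 : ℂ) else ((d.1 c : ℂˣ) : ℂ)) := by
  classical
  rw [S.hsum c, S.ha, mul_add, mul_one]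
  simp only [Nat.cast_one, one_mul]
  congr 1
  rw [Finset.mul_sum]
  refine Finset.sum_congr rfl fun d _ => ?_
  by_cases h : S.F.ν d = ζ
  · rw [S.hb d h, if_pos h]
    simp
  · rw [S.hb' d h, if_neg h]
    simp [tw, mul_comm]

/-- The number of `d` with `ν d ≠ ζ`. -/
theorem card_ne (S : S1 M P p ζ) (hP : Nat.card P = p) (hp2 : ¬ p ^ 2 ∣ Nat.card G) :
    open scoped Classical in
    (Finset.univ.filter (fun d => ¬ S.F.ν d = ζ)).card + 2 = p - 1 := by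
  classical
  have hcard : Fintype.card (DD P p) = p - 1 := by
    rw [← Nat.card_eq_fintype_card, card_DD hP hp2]
  have h1 := Finset.card_filter_add_card_filter_not (s := (Finset.univ : Finset (DD P p))) (fun d => S.F.ν d = ζ)
  have h2 := card_fib S.F S.d₁
  rw [S.hν, S.he] at h2
  rw [h2, Finset.card_univ, hcard] at h1
  omega

/-- The values of `ζ` on the `p`-regular elements of the centralizer. -/
theorem val_reg (S : S1 M P p ζ) (hP : Nat.card P = p) (hp2 : ¬ p ^ 2 ∣ Nat.card G) {x : Cn P}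
    (hx : ¬ p ∣ orderOf (x : G)) : (ζ : G → ℂ) x = (S.θ : Cn P → ℂ) x * ((p : ℂ) - 2) := by
  classical
  have hp3 : 3 ≤ p := by
    have := card_ne S hP hp2
    omega
  have h1 : ∑ d : DD P p, (if S.F.ν d = ζ then (0 : ℂ) else ((d.1 x : ℂˣ) : ℂ)) =
      ((Finset.univ.filter (fun d => ¬ S.F.ν d = ζ)).card : ℂ) := by
    have h2 : ∀ d : DD P p, (if S.F.ν d = ζ then (0 : ℂ) else ((d.1 x : ℂˣ) : ℂ)) =
        if ¬ S.F.ν d = ζ then (1 : ℂ) else 0 := by
      intro d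
      rw [apply_eq_one_of_not_dvd d.2.1 x hx]
      by_cases h : S.F.ν d = ζ <;> simp [h]
    simp only [h2]
    rw [Finset.sum_boole]
  rw [val_C S x, h1]
  congr 1
  have h3 := card_ne S hP hp2
  have h4 : ((Finset.univ.filter (fun d => ¬ S.F.ν d = ζ)).card : ℂ) + 2 = ((p - 1 : ℕ) : ℂ) := by
    exact_mod_cast h3
  rw [Nat.cast_sub (by omega)] at h4
  push_cast at h4
  linear_combination h4

/-- The homomorphism attached to a linear `θ`. -/
theorem exists_lam {H : Type u} [Group H] [Finite H] {θ : H → ℂ} (hθ : IsCharacter H θ) (h1 : θ 1 = 1) :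
    ∃ lam : H →* ℂˣ, ∀ c, θ c = ((lam c : ℂˣ) : ℂ) := by
  obtain ⟨lam, hlam⟩ := exists_hom_of_deg_one hθ h1
  exact ⟨lam, fun c => congrFun hlam c⟩

theorem norm_hom {H : Type u} [Group H] [Finite H] (lam : H →* ℂˣ) (c : H) : ‖((lam c : ℂˣ) : ℂ)‖ = 1 := by
  have h1 : ((lam c : ℂˣ) : ℂ) ^ (orderOf c) = 1 := by
    rw [← Units.val_pow_eq_pow_val, ← map_pow, pow_orderOf_eq_one, map_one]
    rfl
  exact Complex.norm_eq_one_of_pow_eq_one h1 (orderOf_pos c).ne'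

/-- Regular elements of the centralizer are central. -/
theorem central_of_reg (S : S1 M P p ζ) (hP : Nat.card P = p) (hp2 : ¬ p ^ 2 ∣ Nat.card G)
    (hfaith : ∀ g, (ζ : G → ℂ) g = (ζ : G → ℂ) 1 → g = 1) (hdeg : charDegree (ζ : G → ℂ) + 2 = p)
    {x : Cn P} (hx : ¬ p ∣ orderOf (x : G)) : (x : G) ∈ Subgroup.center G := by
  rw [Subgroup.mem_center_iff]
  intro g
  have hζ := isCharacter_of_isIrrCharacter ζ.2
  refine central_of_norm hζ hfaith ?_ g
  obtain ⟨lam, hlam⟩ := exists_lam (isCharacter_of_isIrrCharacter S.θ.2) (th_one S)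
  rw [val_reg S hP hp2 hx, norm_mul, hlam, norm_hom, one_mul]
  have h2 : (p : ℂ) - 2 = (charDegree (ζ : G → ℂ) : ℂ) := by
    rw [← hdeg]
    push_cast
    ring
  rw [h2]
  simp

/-- The decomposition of the centralizer. -/
theorem hdec (S : S1 M P p ζ) (hP : Nat.card P = p) (hp2 : ¬ p ^ 2 ∣ Nat.card G)
    (hfaith : ∀ g, (ζ : G → ℂ) g = (ζ : G → ℂ) 1 → g = 1) (hdeg : charDegree (ζ : G → ℂ) + 2 = p) :
    ∀ c ∈ Cn P, ∃ u ∈ P, ∃ z ∈ Subgroup.center G, c = u * z := by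
  intro c hc
  obtain ⟨V, -, hV, -, hcomp⟩ := Cfsg.Agent.Lib.ExcP.BlockHA.exists_complement hP hp2
  obtain ⟨⟨a, b⟩, hab⟩ := hcomp.2 ⟨c, hc⟩
  have hab' : ((a : Cn P) : G) * ((b : Cn P) : G) = c := congrArg Subtype.val hab
  refine ⟨_, a.2, _, central_of_reg S hP hp2 hfaith hdeg (x := (b : Cn P)) ?_, hab'.symm⟩
  intro h
  apply hV
  have h1 : orderOf ((b : Cn P) : G) = orderOf b := by
    rw [Subgroup.orderOf_coe, Subgroup.orderOf_coe]
  rw [h1] at h
  exact h.trans (orderOf_dvd_natCard b)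

/-- The centre meets `P` trivially. -/
theorem center_inf (hP : Nat.card P = p) (hnn : ¬ P.Normal) {u : G} (hu : u ∈ P) (huz : u ∈ Subgroup.center G) :
    u = 1 := by
  by_contra hne
  apply hnn
  have hz := eq_zpowers_of_mem hP hu hne
  constructor
  intro x hx g
  rw [hz] at hx
  obtain ⟨i, rfl⟩ := Subgroup.mem_zpowers_iff.mp hx
  have h1 : g * u ^ i * g⁻¹ = u ^ i := by
    have h2 : Commute g (u ^ i) := Commute.zpow_right (show Commute g u from Subgroup.mem_center_iff.mp huz g) i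
    rw [h2.eq]
    group
  rw [h1, hz]
  exact Subgroup.zpow_mem_zpowers _ _

/-- `p` does not divide the orders of central elements. -/
theorem not_dvd_center (hP : Nat.card P = p) (hp2 : ¬ p ^ 2 ∣ Nat.card G) (hnn : ¬ P.Normal) {z : G}
    (hz : z ∈ Subgroup.center G) : ¬ p ∣ orderOf z := by
  intro h
  have h1 : orderOf (z ^ (orderOf z / p)) = p := orderOf_pow_div h
  have hzC : z ^ (orderOf z / p) ∈ Cn P := by
    rw [Subgroup.mem_centralizer_iff]
    intro w _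
    exact Subgroup.mem_center_iff.mp (Subgroup.pow_mem _ hz _) w
  have h2 := mem_of_orderOf_eq hP hp2 hzC h1
  have h3 := center_inf hP hnn h2 (Subgroup.pow_mem _ hz _)
  rw [h3, orderOf_one] at h1
  exact hp.out.one_lt.ne h1

theorem center_le_C : Subgroup.center G ≤ Cn P := by
  intro z hz
  rw [Subgroup.mem_centralizer_iff]
  intro w _
  exact Subgroup.mem_center_iff.mp hz w

/-- The central character of `ζ`. -/
theorem val_center (S : S1 M P p ζ) (hP : Nat.card P = p) (hp2 : ¬ p ^ 2 ∣ Nat.card G) (hnn : ¬ P.Normal)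
    (hdeg : charDegree (ζ : G → ℂ) + 2 = p) {z : G} (hz : z ∈ Subgroup.center G) :
    (ζ : G → ℂ) z = (S.θ : Cn P → ℂ) ⟨z, center_le_C hz⟩ * (ζ : G → ℂ) 1 := by
  have h1 := val_reg S hP hp2 (x := ⟨z, center_le_C hz⟩) (not_dvd_center hP hp2 hnn hz)
  have h2 : (p : ℂ) - 2 = (ζ : G → ℂ) 1 := by
    rw [← charDegree_natCast (isCharacter_of_isIrrCharacter ζ.2), ← hdeg]
    push_cast
    ring
  rw [← h2]
  exact h1

/-- `θ` is faithful on the centre. -/
theorem th_faith (S : S1 M P p ζ) (hP : Nat.card P = p) (hp2 : ¬ p ^ 2 ∣ Nat.card G) (hnn : ¬ P.Normal)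
    (hfaith : ∀ g, (ζ : G → ℂ) g = (ζ : G → ℂ) 1 → g = 1) (hdeg : charDegree (ζ : G → ℂ) + 2 = p) {z : G}
    (hz : z ∈ Subgroup.center G) (h : (S.θ : Cn P → ℂ) ⟨z, center_le_C hz⟩ = 1) : z = 1 := by
  apply hfaith
  rw [val_center S hP hp2 hnn hdeg hz, h, one_mul]

/-- Elements of the normalizer have square in the centralizer. -/
theorem mul_self_mem (hf : Nat.card (Nn P) = 2 * Nat.card (Cn P)) {y : G} (hy : y ∈ Nn P) : y * y ∈ Cn P := by
  have hCN : Cn P ≤ Nn P := Subgroup.centralizer_le_normalizer _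
  have h1 := Subgroup.card_mul_index ((Cn P).subgroupOf (Nn P))
  have h2 : Nat.card ((Cn P).subgroupOf (Nn P)) = Nat.card (Cn P) :=
    Nat.card_congr (Subgroup.subgroupOfEquivOfLe hCN).toEquiv
  rw [h2, hf] at h1
  have h3 : ((Cn P).subgroupOf (Nn P)).index = 2 := by
    have h4 : Nat.card (Cn P) * ((Cn P).subgroupOf (Nn P)).index = Nat.card (Cn P) * 2 := by
      rw [h1, mul_comm]
    exact Nat.eq_of_mul_eq_mul_left Nat.card_pos h4
  have h4 := Subgroup.mul_self_mem_of_index_two h3 (⟨y, hy⟩ : Nn P)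
  exact h4

/-- There are elements in the normalizer outside the centralizer. -/
theorem exists_out (hf : Nat.card (Nn P) = 2 * Nat.card (Cn P)) : ∃ y ∈ Nn P, y ∉ Cn P := by
  by_contra hcon
  push Not at hcon
  have h1 : Nat.card (Nn P) ≤ Nat.card (Cn P) := Nat.card_mono (Set.toFinite _) hcon
  have h2 : 0 < Nat.card (Cn P) := Nat.card_pos
  omega

/-- The sum of a non-trivial `d` over `P`. -/
theorem sum_P_d [Fintype P] (hP : Nat.card P = p) (hp2 : ¬ p ^ 2 ∣ Nat.card G) (d : DD P p) :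
    ∑ u : P, ((d.1 ⟨u, le_centralizer hP u.2⟩ : ℂˣ) : ℂ) = 0 := by
  have h1 : res P hP d.1 ≠ 1 := res_ne_one hP hp2 d
  have h2 : (Units.coeHom ℂ).comp (res P hP d.1) ≠ 1 := by
    intro h
    apply h1
    ext u
    have := congrArg (fun f => f u) h
    simpa [res_apply] using this
  have h3 := sum_hom_units_eq_zero ((Units.coeHom ℂ).comp (res P hP d.1)) h2
  simpa [res_apply] using h3

end Family

end Cfsg.Agent.Lib.Blk89.DegP2C
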