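import Cfsg.Agent.Lib.Blk89.DegP2C

/-!
# Faithful irreducible characters of degree `p - 2`: Fourier analysis on `C_G(P) = P × Z(G)`

For a linear `θ` of `C_G(P)` trivial on `P`, and `χ` with the same central character, the multiplicities of `χ` are
the multiplicities on `P`.  The sums of `Ws θ d` over commutators with `τ` are independent of `θ`.
-/

set_option autoImplicit false
set_option linter.style.haveILetI false
set_option linter.unusedSectionVars false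

namespace Cfsg.Agent.Lib.Blk89.DegP2D

open Cfsg
open Cfsg.Agent.Lib.Blocks.Local Cfsg.Agent.Lib.Blocks.Central Cfsg.Agent.Lib.Blocks.General
open Cfsg.Agent.Lib.Blocks.Induced
open Cfsg.Agent.Lib.Char.Induced Cfsg.Agent.Lib.Char.Ortho Cfsg.Agent.Lib.Char.Linear
open Cfsg.Agent.Lib.Char.Basic Cfsg.Agent.Lib.Char.GenLattice Cfsg.Agent.Lib.Char.Complete
open Cfsg.Agent.Lib.Char.Degree
open Cfsg.Agent.Lib.ExcP.Gram Cfsg.Agent.Lib.ExcP.Inst Cfsg.Agent.Lib.ExcP.Dual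
open Cfsg.Agent.Lib.ModRep.Prime Cfsg.Agent.Lib.ModRep.ThGram Cfsg.Agent.Lib.ModRep.ThIdem
open Cfsg.Agent.Lib.ModRep.ThDeg Cfsg.Agent.Lib.ModRep.Numerics2 Cfsg.Agent.Lib.ModRep.BlockTh
open Cfsg.Agent.Lib.CharDeep.BrauerDeg
open Cfsg.Agent.Lib.D1.CountN
open Cfsg.Agent.Lib.Blk89.DegP2A Cfsg.Agent.Lib.Blk89.DegP2C
open Cfsg.Agent.Lib.Char.CentralCount Cfsg.Agent.Lib.Char.ClassSum
open scoped ComplexConjugate

universe u

variable {G : Type u} [Group G] [Fintype G] {p : ℕ} [hp : Fact p.Prime] {P : Subgroup G}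
  [Fintype (Cn P)] [Fintype (Nn P)] [Fintype (DD P p)] [Fintype (IrrCharacter G)] [Fintype (IrrCharacter (Cn P))]
  [Fintype P] [Fintype (Subgroup.center G)] {M : Ideal AlgInt}

/-- The product map `P × Z → C`. -/
def mulCZ (hP : Nat.card P = p) : P × Subgroup.center G → Cn P := fun x =>
  ⟨(x.1 : G) * (x.2 : G), (Cn P).mul_mem (le_centralizer hP x.1.2) (center_le_C x.2.2)⟩

theorem mulCZ_bij (hP : Nat.card P = p) (hnn : ¬ P.Normal)
    (hdecC : ∀ c ∈ Cn P, ∃ u ∈ P, ∃ z ∈ Subgroup.center G, c = u * z) :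
    Function.Bijective (mulCZ hP) := by
  constructor
  · rintro ⟨u, z⟩ ⟨u', z'⟩ h
    have h1 : (u : G) * z = u' * z' := congrArg Subtype.val h
    have h2 : (u' : G)⁻¹ * u = z' * (z : G)⁻¹ := by
      calc (u' : G)⁻¹ * u = (u' : G)⁻¹ * ((u : G) * z) * (z : G)⁻¹ := by group
        _ = _ := by rw [h1]; group
    have h3 : (u' : G)⁻¹ * u = 1 := by
      apply center_inf hP hnn (P.mul_mem (P.inv_mem u'.2) u.2)
      rw [h2]
      exact Subgroup.mul_mem _ z'.2 (Subgroup.inv_mem _ z.2)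
    have h4 : (u : G) = u' := by
      calc (u : G) = u' * ((u' : G)⁻¹ * u) := by group
        _ = u' := by rw [h3, mul_one]
    have h5 : (z : G) = z' := by
      rw [h4] at h1
      exact mul_left_cancel h1
    rw [Subtype.ext h4, Subtype.ext h5]
  · rintro ⟨c, hc⟩
    obtain ⟨u, hu, z, hz, rfl⟩ := hdecC c hc
    exact ⟨(⟨u, hu⟩, ⟨z, hz⟩), rfl⟩

theorem card_C (hP : Nat.card P = p) (hnn : ¬ P.Normal)
    (hdecC : ∀ c ∈ Cn P, ∃ u ∈ P, ∃ z ∈ Subgroup.center G, c = u * z) :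
    Nat.card (Cn P) = p * Nat.card (Subgroup.center G) := by
  rw [← Nat.card_congr (Equiv.ofBijective _ (mulCZ_bij hP hnn hdecC)), Nat.card_prod, hP]

section Lin

variable (hP : Nat.card P = p) (hp2 : ¬ p ^ 2 ∣ Nat.card G) (hnn : ¬ P.Normal)
  (hdecC : ∀ c ∈ Cn P, ∃ u ∈ P, ∃ z ∈ Subgroup.center G, c = u * z)
  {θ : IrrCharacter (Cn P)} (hθ1 : (θ : Cn P → ℂ) 1 = 1)
  (hθP : ∀ x : Cn P, (x : G) ∈ P → (θ : Cn P → ℂ) x = (θ : Cn P → ℂ) 1)

include hP hp2 hnn hdecC hθ1 hθP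

/-- Multiplicities in terms of `P`. -/
theorem inner_eq' {ξ : G → ℂ}
    (hξ : ∀ (u : P) (z : Subgroup.center G), ξ ((u : G) * (z : G)) = ξ u * (θ : Cn P → ℂ) ⟨z, center_le_C z.2⟩)
    {κ : Cn P →* ℂˣ} (hκ : ∀ x, κ x ^ p = 1) :
    classInner (tw κ (θ : Cn P → ℂ)) (rs P ξ) =
      (p : ℂ)⁻¹ * ∑ u : P, ((κ ⟨u, le_centralizer hP u.2⟩ : ℂˣ) : ℂ) * conj (ξ u) := by
  classical
  obtain ⟨lam, hlam⟩ := exists_lam (isCharacter_of_isIrrCharacter θ.2) hθ1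
  have hZ0 : (Nat.card (Subgroup.center G) : ℂ) ≠ 0 := Nat.cast_ne_zero.mpr Nat.card_pos.ne'
  have hp0 : (p : ℂ) ≠ 0 := by exact_mod_cast hp.out.ne_zero
  have hcent : ∀ (u : P) (z : Subgroup.center G),
      tw κ (θ : Cn P → ℂ) (mulCZ hP (u, z)) * conj (rs P ξ (mulCZ hP (u, z))) =
        ((κ ⟨u, le_centralizer hP u.2⟩ : ℂˣ) : ℂ) * conj (ξ u) := by
    intro u z
    have hcu : mulCZ hP (u, z) = ⟨u, le_centralizer hP u.2⟩ * ⟨z, center_le_C z.2⟩ := rfl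
    have hκz : κ ⟨z, center_le_C z.2⟩ = 1 :=
      apply_eq_one_of_not_dvd hκ _ (not_dvd_center hP hp2 hnn z.2)
    have hth : (θ : Cn P → ℂ) (mulCZ hP (u, z)) = (θ : Cn P → ℂ) ⟨z, center_le_C z.2⟩ := by
      rw [hcu, hlam, map_mul, Units.val_mul, ← hlam, ← hlam, hθP _ u.2, hθ1, one_mul]
    have hrs : rs P ξ (mulCZ hP (u, z)) = ξ u * (θ : Cn P → ℂ) ⟨z, center_le_C z.2⟩ := hξ u z
    have hnorm : (θ : Cn P → ℂ) ⟨z, center_le_C z.2⟩ * conj ((θ : Cn P → ℂ) ⟨z, center_le_C z.2⟩) = 1 := by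
      rw [Complex.mul_conj, hlam, Complex.normSq_eq_norm_sq, norm_hom]
      simp
    rw [hrs, map_mul]
    simp only [tw]
    rw [hth, hcu, map_mul, hκz, mul_one]
    linear_combination ((κ ⟨u, le_centralizer hP u.2⟩ : ℂˣ) : ℂ) * conj (ξ u) * hnorm
  rw [classInner_def]
  have h1 : ∑ c : Cn P, tw κ (θ : Cn P → ℂ) c * conj (rs P ξ c) =
      ∑ x : P × Subgroup.center G, tw κ (θ : Cn P → ℂ) (mulCZ hP x) * conj (rs P ξ (mulCZ hP x)) :=
    (Fintype.sum_bijective _ (mulCZ_bij hP hnn hdecC) _ _ (fun _ => rfl)).symm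
  rw [h1, Fintype.sum_prod_type]
  simp only [hcent, Finset.sum_const, Finset.card_univ, ← Nat.card_eq_fintype_card, nsmul_eq_mul]
  rw [card_C hP hnn hdecC, ← Finset.mul_sum]
  push_cast
  field_simp

/-- Multiplicities in terms of `P`, for an irreducible character. -/
theorem inner_eq {χ : IrrCharacter G}
    (hχz : ∀ z (hz : z ∈ Subgroup.center G), (χ : G → ℂ) z = (θ : Cn P → ℂ) ⟨z, center_le_C hz⟩ * (χ : G → ℂ) 1)
    {κ : Cn P →* ℂˣ} (hκ : ∀ x, κ x ^ p = 1) :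
    classInner (tw κ (θ : Cn P → ℂ)) (rs P (χ : G → ℂ)) =
      (p : ℂ)⁻¹ * ∑ u : P, ((κ ⟨u, le_centralizer hP u.2⟩ : ℂˣ) : ℂ) * conj ((χ : G → ℂ) u) := by
  have hχ1 : (χ : G → ℂ) 1 ≠ 0 := irr_one_ne_zero χ.2
  refine inner_eq' hP hp2 hnn hdecC hθ1 hθP (fun u z => ?_) hκ
  have h1 := Cfsg.Agent.Lib.Char.CentralCount.char_mul_central χ.2 z.2 (u : G)
  rw [hχz z z.2] at h1
  have h2 : (χ : G → ℂ) ((u : G) * (z : G)) * (χ : G → ℂ) 1 =
      ((χ : G → ℂ) u * (θ : Cn P → ℂ) ⟨z, center_le_C z.2⟩) * (χ : G → ℂ) 1 := by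
    rw [h1]
    ring
  exact mul_right_cancel₀ hχ1 h2

/-- The central character from a non-zero multiplicity. -/
theorem central_of_inner {χ : IrrCharacter G} {κ : Cn P →* ℂˣ} (hκ : ∀ x, κ x ^ p = 1)
    (h : classInner (tw κ (θ : Cn P → ℂ)) (rs P (χ : G → ℂ)) ≠ 0) {z : G} (hz : z ∈ Subgroup.center G) :
    (χ : G → ℂ) z = (θ : Cn P → ℂ) ⟨z, center_le_C hz⟩ * (χ : G → ℂ) 1 := by
  classical
  obtain ⟨lam, hlam⟩ := exists_lam (isCharacter_of_isIrrCharacter θ.2) hθ1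
  have hχ1 : (χ : G → ℂ) 1 ≠ 0 := irr_one_ne_zero χ.2
  have hκz : κ ⟨z, center_le_C hz⟩ = 1 :=
    apply_eq_one_of_not_dvd hκ _ (not_dvd_center hP hp2 hnn hz)
  rw [classInner_def] at h
  have hA : ∑ c : Cn P, tw κ (θ : Cn P → ℂ) c * conj (rs P (χ : G → ℂ) c) ≠ 0 := by
    intro h0
    rw [h0, mul_zero] at h
    exact h rfl
  set A := ∑ c : Cn P, tw κ (θ : Cn P → ℂ) c * conj (rs P (χ : G → ℂ) c) with hAdef
  set z' : Cn P := ⟨z, center_le_C hz⟩ with hz'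
  set r := (χ : G → ℂ) z / (χ : G → ℂ) 1 with hr
  have hterm : ∀ c : Cn P, tw κ (θ : Cn P → ℂ) (c * z') * conj (rs P (χ : G → ℂ) (c * z')) =
      ((θ : Cn P → ℂ) z' * conj r) * (tw κ (θ : Cn P → ℂ) c * conj (rs P (χ : G → ℂ) c)) := by
    intro c
    have h1 : tw κ (θ : Cn P → ℂ) (c * z') = (θ : Cn P → ℂ) z' * tw κ (θ : Cn P → ℂ) c := by
      simp only [tw]
      rw [map_mul, hκz, mul_one, hlam, hlam, hlam, map_mul, Units.val_mul]
      ring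
    have h2 : rs P (χ : G → ℂ) (c * z') = r * rs P (χ : G → ℂ) c := by
      show (χ : G → ℂ) ((c : G) * z) = r * (χ : G → ℂ) c
      have h3 := Cfsg.Agent.Lib.Char.CentralCount.char_mul_central χ.2 hz (c : G)
      rw [hr]
      field_simp
      rw [h3]
      ring
    rw [h1, h2, map_mul]
    ring
  have hsum : A = ((θ : Cn P → ℂ) z' * conj r) * A := by
    rw [hAdef, Finset.mul_sum]
    refine (Fintype.sum_equiv (Equiv.mulRight z') _ _ fun c => ?_).symm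
    exact (hterm c).symm
  have h3 : (θ : Cn P → ℂ) z' * conj r = 1 := by
    have h4 : (1 - (θ : Cn P → ℂ) z' * conj r) * A = 0 := by
      rw [sub_mul, one_mul, ← hsum, sub_self]
    rcases mul_eq_zero.mp h4 with h5 | h5
    · linear_combination -h5
    · exact absurd h5 hA
  have hnorm : conj ((θ : Cn P → ℂ) z') * (θ : Cn P → ℂ) z' = 1 := by
    rw [Complex.conj_mul', hlam, norm_hom]
    simp
  have h5 : conj r = conj ((θ : Cn P → ℂ) z') := by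
    calc conj r = (conj ((θ : Cn P → ℂ) z') * (θ : Cn P → ℂ) z') * conj r := by rw [hnorm, one_mul]
      _ = conj ((θ : Cn P → ℂ) z') * ((θ : Cn P → ℂ) z' * conj r) := by ring
      _ = _ := by rw [h3, mul_one]
  have h6 : r = (θ : Cn P → ℂ) z' := by
    have := congrArg conj h5
    simpa using this
  rw [hr] at h6
  field_simp at h6
  rw [h6]
  ring

/-- The sum over `P`. -/
theorem sum_P {χ : IrrCharacter G}
    (hχz : ∀ z (hz : z ∈ Subgroup.center G), (χ : G → ℂ) z = (θ : Cn P → ℂ) ⟨z, center_le_C hz⟩ * (χ : G → ℂ) 1) :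
    ∑ u : P, (χ : G → ℂ) u = (Nat.card P : ℂ) * nn (θ : Cn P → ℂ) (rs P (χ : G → ℂ)) := by
  have hχ := isCharacter_of_isIrrCharacter χ.2
  have h1 := inner_eq hP hp2 hnn hdecC hθ1 hθP hχz (κ := 1) (by simp)
  have h2 : tw (1 : Cn P →* ℂˣ) (θ : Cn P → ℂ) = (θ : Cn P → ℂ) := tw_one_eq _
  rw [h2, ← nn_cast (isCharacter_of_isIrrCharacter θ.2) (isChar_rs (P := P) hχ)] at h1
  have hp0 : (p : ℂ) ≠ 0 := by exact_mod_cast hp.out.ne_zero
  simp only [MonoidHom.one_apply, Units.val_one, one_mul] at h1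
  have h3 := congrArg conj h1
  rw [map_mul, map_sum] at h3
  simp only [Complex.conj_conj, map_inv₀, map_natCast] at h3
  rw [hP, h3]
  field_simp

/-- The degree as a sum of multiplicities. -/
theorem deg_sum {χ : IrrCharacter G}
    (hχz : ∀ z (hz : z ∈ Subgroup.center G), (χ : G → ℂ) z = (θ : Cn P → ℂ) ⟨z, center_le_C hz⟩ * (χ : G → ℂ) 1) :
    charDegree (χ : G → ℂ) = nn (θ : Cn P → ℂ) (rs P (χ : G → ℂ)) +
      ∑ d : DD P p, nn (tw d.1 (θ : Cn P → ℂ)) (rs P (χ : G → ℂ)) := by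
  classical
  have hχ := isCharacter_of_isIrrCharacter χ.2
  have hp0 : (p : ℂ) ≠ 0 := by exact_mod_cast hp.out.ne_zero
  have h1 : (nn (θ : Cn P → ℂ) (rs P (χ : G → ℂ)) : ℂ) = (p : ℂ)⁻¹ * ∑ u : P, conj ((χ : G → ℂ) u) := by
    have h2 := inner_eq hP hp2 hnn hdecC hθ1 hθP hχz (κ := 1) (by simp)
    have h3 : tw (1 : Cn P →* ℂˣ) (θ : Cn P → ℂ) = (θ : Cn P → ℂ) := tw_one_eq _
    rw [h3, ← nn_cast (isCharacter_of_isIrrCharacter θ.2) (isChar_rs (P := P) hχ)] at h2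
    simpa using h2
  have h2 : ∀ d : DD P p, (nn (tw d.1 (θ : Cn P → ℂ)) (rs P (χ : G → ℂ)) : ℂ) =
      (p : ℂ)⁻¹ * ∑ u : P, ((d.1 ⟨u, le_centralizer hP u.2⟩ : ℂˣ) : ℂ) * conj ((χ : G → ℂ) u) := by
    intro d
    rw [nn_cast (isCharacter_of_isIrrCharacter (isIrr_tw d.1 θ.2)) (isChar_rs (P := P) hχ)]
    exact inner_eq hP hp2 hnn hdecC hθ1 hθP hχz d.2.1
  have h3 : ((charDegree (χ : G → ℂ) : ℕ) : ℂ) = ((nn (θ : Cn P → ℂ) (rs P (χ : G → ℂ)) +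
      ∑ d : DD P p, nn (tw d.1 (θ : Cn P → ℂ)) (rs P (χ : G → ℂ)) : ℕ) : ℂ) := by
    push_cast
    simp only [h2]
    rw [h1, ← Finset.mul_sum, ← mul_add, Finset.sum_comm, ← Finset.sum_add_distrib]
    simp only [← Finset.sum_mul]
    rw [Finset.sum_eq_single (1 : P)]
    · have h4 : ∑ d : DD P p, ((d.1 ⟨((1 : P) : G), le_centralizer hP (1 : P).2⟩ : ℂˣ) : ℂ) = ((p - 1 : ℕ) : ℂ) := by
        have h5 : ∀ d : DD P p, ((d.1 ⟨((1 : P) : G), le_centralizer hP (1 : P).2⟩ : ℂˣ) : ℂ) = 1 := by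
          intro d
          have h6 : (⟨((1 : P) : G), le_centralizer hP (1 : P).2⟩ : Cn P) = 1 := rfl
          rw [h6, map_one]
          rfl
        simp only [h5]
        rw [Finset.sum_const, Finset.card_univ, ← Nat.card_eq_fintype_card, card_DD hP hp2]
        simp
      rw [h4]
      have h6 : conj ((χ : G → ℂ) ((1 : P) : G)) = (charDegree (χ : G → ℂ) : ℂ) := by
        have h8 : ((1 : P) : G) = 1 := rfl
        rw [h8, charDegree_natCast hχ, ← char_inv_eq_conj hχ, inv_one]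
      rw [h6, Nat.cast_sub hp.out.one_lt.le]
      push_cast
      field_simp
      ring
    · intro u _ hu
      have hu' : (⟨u, le_centralizer hP u.2⟩ : Cn P) ≠ 1 := by
        intro h
        apply hu
        apply Subtype.ext
        exact congrArg (fun c : Cn P => (c : G)) h
      have h7 := sum_DD_apply hP hp2 (w := ⟨u, le_centralizer hP u.2⟩) u.2 hu'
      rw [h7]
      ring
    · simp
  exact_mod_cast h3

end Lin

section Fam

variable (hP : Nat.card P = p) (hp2 : ¬ p ^ 2 ∣ Nat.card G) (hnn : ¬ P.Normal)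
  (hdecC : ∀ c ∈ Cn P, ∃ u ∈ P, ∃ z ∈ Subgroup.center G, c = u * z)
  {θ : IrrCharacter (Cn P)} (hθ1 : (θ : Cn P → ℂ) 1 = 1)
  (hθP : ∀ x : Cn P, (x : G) ∈ P → (θ : Cn P → ℂ) x = (θ : Cn P → ℂ) 1) (F : Fam M P p θ)

/-- The multiplicities of a member of `X`. -/
theorem mult_X {χ : IrrCharacter G} (hχ : χ ∈ F.X) (d : DD P p) :
    (nn (tw d.1 (θ : Cn P → ℂ)) (rs P (χ : G → ℂ)) : ℤ) = nn (θ : Cn P → ℂ) (rs P (χ : G → ℂ)) - F.εX χ := by
  classical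
  have h1 := mult_rel F d χ
  have h2 : F.ν d ≠ χ := fun h => Finset.disjoint_left.mp F.hdisj hχ ((F.hY χ).mpr ⟨d, h⟩)
  rw [if_pos hχ, if_neg h2] at h1
  rw [h1]
  ring

/-- The multiplicities of a member of `Y`. -/
theorem mult_Y {χ : IrrCharacter G} (hχ : χ ∈ F.Y) (d : DD P p) :
    open scoped Classical in
    (nn (tw d.1 (θ : Cn P → ℂ)) (rs P (χ : G → ℂ)) : ℤ) = nn (θ : Cn P → ℂ) (rs P (χ : G → ℂ)) +
      if F.ν d = χ then F.ε else 0 := by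
  classical
  have h1 := mult_rel F d χ
  have h2 : χ ∉ F.X := fun h => Finset.disjoint_left.mp F.hdisj h hχ
  rw [if_neg h2] at h1
  rw [h1]
  ring

theorem ex_DD (hP : Nat.card P = p) (hp2 : ¬ p ^ 2 ∣ Nat.card G) (hodd : p ≠ 2) : Nonempty (DD P p) := by
  have h1 : Fintype.card (DD P p) = p - 1 := by
    rw [← Nat.card_eq_fintype_card, card_DD hP hp2]
  have h2 := hp.out.two_le
  apply Fintype.card_pos_iff.mp
  omega

include hP hp2 hnn hdecC hθ1 hθP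

/-- The central character of members of `X`. -/
theorem central_X (hodd : p ≠ 2) {χ : IrrCharacter G} (hχ : χ ∈ F.X) {z : G} (hz : z ∈ Subgroup.center G) :
    (χ : G → ℂ) z = (θ : Cn P → ℂ) ⟨z, center_le_C hz⟩ * (χ : G → ℂ) 1 := by
  have hχc := isCharacter_of_isIrrCharacter χ.2
  obtain ⟨d⟩ := ex_DD (p := p) (P := P) hP hp2 hodd
  have h1 := mult_X F hχ d
  have hε : F.εX χ ≠ 0 := by
    rcases F.hεX χ hχ with h | h <;> rw [h] <;> norm_num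
  by_cases ha : nn (θ : Cn P → ℂ) (rs P (χ : G → ℂ)) = 0
  · have hb : nn (tw d.1 (θ : Cn P → ℂ)) (rs P (χ : G → ℂ)) ≠ 0 := by
      intro h
      rw [h, ha] at h1
      apply hε
      simpa using h1.symm
    refine central_of_inner hP hp2 hnn hdecC hθ1 hθP d.2.1 ?_ hz
    rw [← nn_cast (isCharacter_of_isIrrCharacter (isIrr_tw d.1 θ.2)) (isChar_rs (P := P) hχc)]
    exact_mod_cast hb
  · refine central_of_inner hP hp2 hnn hdecC hθ1 hθP (κ := 1) (by simp) ?_ hz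
    rw [tw_one_eq, ← nn_cast (isCharacter_of_isIrrCharacter θ.2) (isChar_rs (P := P) hχc)]
    exact_mod_cast ha

/-- The degree of members of `X`. -/
theorem deg_X (hodd : p ≠ 2) {χ : IrrCharacter G} (hχ : χ ∈ F.X) :
    (charDegree (χ : G → ℂ) : ℤ) = p * nn (θ : Cn P → ℂ) (rs P (χ : G → ℂ)) - (p - 1) * F.εX χ := by
  have h1 := deg_sum hP hp2 hnn hdecC hθ1 hθP (χ := χ) (fun z hz => central_X hP hp2 hnn hdecC hθ1 hθP F hodd hχ hz)
  have h2 : ((∑ d : DD P p, nn (tw d.1 (θ : Cn P → ℂ)) (rs P (χ : G → ℂ)) : ℕ) : ℤ) =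
      ((p : ℤ) - 1) * ((nn (θ : Cn P → ℂ) (rs P (χ : G → ℂ)) : ℤ) - F.εX χ) := by
    push_cast
    simp only [mult_X F hχ]
    rw [Finset.sum_const, Finset.card_univ, ← Nat.card_eq_fintype_card, card_DD hP hp2, nsmul_eq_mul,
      Nat.cast_sub hp.out.one_lt.le]
    simp
  rw [h1]
  push_cast at h2 ⊢
  rw [h2]
  ring

/-- The degree of members of `Y`. -/
theorem deg_Y (hodd : p ≠ 2) {χ : IrrCharacter G}
    (hχz : ∀ z (hz : z ∈ Subgroup.center G), (χ : G → ℂ) z = (θ : Cn P → ℂ) ⟨z, center_le_C hz⟩ * (χ : G → ℂ) 1)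
    (hχ : χ ∈ F.Y) :
    (charDegree (χ : G → ℂ) : ℤ) = p * nn (θ : Cn P → ℂ) (rs P (χ : G → ℂ)) + F.e * F.ε := by
  classical
  have h1 := deg_sum hP hp2 hnn hdecC hθ1 hθP (χ := χ) hχz
  obtain ⟨d₁, hd₁⟩ := (F.hY χ).mp hχ
  have hfib : (Finset.univ.filter (fun d => F.ν d = χ)).card = F.e := by
    rw [← hd₁]
    exact card_fib F d₁
  have h2 : ((∑ d : DD P p, nn (tw d.1 (θ : Cn P → ℂ)) (rs P (χ : G → ℂ)) : ℕ) : ℤ) =
      ((p : ℤ) - 1) * (nn (θ : Cn P → ℂ) (rs P (χ : G → ℂ)) : ℤ) + F.e * F.ε := by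
    push_cast
    simp only [mult_Y F hχ]
    rw [Finset.sum_add_distrib, Finset.sum_const, Finset.card_univ, ← Nat.card_eq_fintype_card, card_DD hP hp2,
      nsmul_eq_mul, Nat.cast_sub hp.out.one_lt.le, Finset.sum_ite, Finset.sum_const_zero, add_zero,
      Finset.sum_const, nsmul_eq_mul, hfib]
    simp
  rw [h1]
  push_cast at h2 ⊢
  rw [h2]
  ring

end Fam

section Tau

variable (hP : Nat.card P = p) (hodd : p ≠ 2) {τ : G} (hinv : ∀ u ∈ P, τ * u * τ⁻¹ = u⁻¹)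

include hP hodd hinv

/-- The inverse also inverts. -/
theorem inv_inv' : ∀ u ∈ P, τ⁻¹ * u * τ⁻¹⁻¹ = u⁻¹ := by
  intro u hu
  have h1 := hinv (u⁻¹) (P.inv_mem hu)
  rw [inv_inv] at h1
  rw [inv_inv]
  calc τ⁻¹ * u * τ = τ⁻¹ * (τ * u⁻¹ * τ⁻¹) * τ := by rw [h1]
    _ = u⁻¹ := by group

/-- The bound on character values. -/
theorem norm_le {χ : G → ℂ} (hχ : IsCharacter G χ) {a : ℕ} (ha : ∑ u : P, χ u = (Nat.card P : ℂ) * a) :
    ‖χ τ‖ ≤ a ∧ (a = 1 → ‖χ τ‖ = 1) := by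
  have hi := inv_inv' hP hodd hinv
  refine Cfsg.Agent.Lib.Blk89.DegP2B.bound_fix ?_ ?_ (fun v hv =>
    Cfsg.Agent.Lib.BrauerP.TwoE.conj_τ_mul hP hodd hinv hv) hχ ha
  · intro u hu
    have h1 := hi u hu
    rw [inv_inv] at h1
    rw [h1]
    exact P.inv_mem hu
  · intro u hu
    rw [hinv u hu]
    exact P.inv_mem hu

end Tau

/-- Values of `Ws` on `P` do not depend on a linear `θ`. -/
theorem Ws_on_P (hP : Nat.card P = p) (hp2 : ¬ p ^ 2 ∣ Nat.card G) {θ : IrrCharacter (Cn P)}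
    (hθ1 : (θ : Cn P → ℂ) 1 = 1)
    (hθP : ∀ x : Cn P, (x : G) ∈ P → (θ : Cn P → ℂ) x = (θ : Cn P → ℂ) 1) (d : DD P p) {v : G} (hv : v ∈ P) :
    Ws P (θ : Cn P → ℂ) d.1 v = Ws P (trv (Cn P) : Cn P → ℂ) d.1 v := by
  have h1 := Ws_apply hP hp2 (θ : Cn P → ℂ) d.2.1 ⟨v, le_centralizer hP hv⟩
  have h2 := Ws_apply hP hp2 (trv (Cn P) : Cn P → ℂ) d.2.1 ⟨v, le_centralizer hP hv⟩
  show Ws P (θ : Cn P → ℂ) d.1 ((⟨v, le_centralizer hP hv⟩ : Cn P) : G) =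
    Ws P (trv (Cn P) : Cn P → ℂ) d.1 ((⟨v, le_centralizer hP hv⟩ : Cn P) : G)
  rw [h1, h2]
  congr 1
  refine Finset.sum_congr rfl fun y _ => ?_
  congr 1
  rw [cjt_apply, hθP _ (cjH_mem y hv), hθ1]
  rfl

/-- The basic quantity. -/
noncomputable def TT {θ : IrrCharacter (Cn P)} (F : Fam M P p θ) (d : DD P p) (τ : G) : ℂ :=
  - ∑ χ ∈ F.X, (F.εX χ : ℂ) * ((χ : G → ℂ) τ * (χ : G → ℂ) τ⁻¹ / (χ : G → ℂ) 1) +
    (F.ε : ℂ) * ((F.ν d : G → ℂ) τ * (F.ν d : G → ℂ) τ⁻¹ / (F.ν d : G → ℂ) 1)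

/-- The sum over the commutators. -/
theorem sum_Ws {θ : IrrCharacter (Cn P)} (F : Fam M P p θ) (d : DD P p) (τ : G) :
    ∑ x : G, Ws P (θ : Cn P → ℂ) d.1 (τ * (x * τ⁻¹ * x⁻¹)) = (Nat.card G : ℂ) * TT F d τ := by
  classical
  simp only [F.hval]
  rw [Finset.sum_add_distrib, Finset.sum_neg_distrib, Finset.sum_comm, ← Finset.mul_sum, TT, mul_add,
    sum_irr_mul_conj' (F.ν d).2, mul_neg, Finset.mul_sum]
  congr 1
  · congr 1
    refine Finset.sum_congr rfl fun χ _ => ?_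
    rw [← Finset.mul_sum, sum_irr_mul_conj' χ.2]
    ring
  · ring

/-- **The basic identity.** -/
theorem TT_eq (hP : Nat.card P = p) (hp2 : ¬ p ^ 2 ∣ Nat.card G) (hodd : p ≠ 2)
    (hdecC : ∀ c ∈ Cn P, ∃ u ∈ P, ∃ z ∈ Subgroup.center G, c = u * z) {τ : G}
    (hinv : ∀ u ∈ P, τ * u * τ⁻¹ = u⁻¹) (hττ : τ * τ ∈ Subgroup.center G)
    (hcl : ∀ z ∈ Subgroup.center G, IsConj τ (τ * z) → z = 1)
    (hcl' : ∀ z ∈ Subgroup.center G, IsConj τ⁻¹ (τ⁻¹ * z) → z = 1)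
    {θ : IrrCharacter (Cn P)} (hθ1 : (θ : Cn P → ℂ) 1 = 1)
    (hθP : ∀ x : Cn P, (x : G) ∈ P → (θ : Cn P → ℂ) x = (θ : Cn P → ℂ) 1)
    (F : Fam M P p θ) (F₀ : Fam M P p (trv (Cn P))) (d : DD P p) : TT F d τ = TT F₀ d τ := by
  classical
  have hG0 : (Nat.card G : ℂ) ≠ 0 := Nat.cast_ne_zero.mpr Nat.card_pos.ne'
  apply mul_left_cancel₀ hG0
  rw [← sum_Ws F d τ, ← sum_Ws F₀ d τ]
  refine Finset.sum_congr rfl fun x _ => ?_
  by_cases hg : p ∣ orderOf (τ * (x * τ⁻¹ * x⁻¹))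
  · obtain ⟨s, v, hv, hgv⟩ := comm_conj_mem hP hp2 hodd hdecC hinv hττ hcl hcl' hg
    have hcf1 : IsClassFunction G (Ws P (θ : Cn P → ℂ) d.1) := isClassFunction_indFun _ _
    have hcf2 : IsClassFunction G (Ws P (trv (Cn P) : Cn P → ℂ) d.1) := isClassFunction_indFun _ _
    rw [hgv, hcf1, hcf2]
    exact Ws_on_P hP hp2 hθ1 hθP d hv
  · rw [Ws_regular _ d.2.1 hg, Ws_regular _ d.2.1 hg]

end Cfsg.Agent.Lib.Blk89.DegP2D
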