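import Cfsg.Agent.Lib.Blk89.DegP2D
import Cfsg.Agent.Lib.Blk89.DegP2E

/-!
# Faithful irreducible characters of degree `p - 2`: the element `τ` and the two families
-/

set_option autoImplicit false
set_option linter.style.haveILetI false
set_option linter.unusedSectionVars false

namespace Cfsg.Agent.Lib.Blk89.DegP2F

open Cfsg
open Cfsg.Agent.Lib.Blocks.Local Cfsg.Agent.Lib.Blocks.Central Cfsg.Agent.Lib.Blocks.General
open Cfsg.Agent.Lib.Blocks.Induced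
open Cfsg.Agent.Lib.Char.Induced Cfsg.Agent.Lib.Char.Ortho Cfsg.Agent.Lib.Char.Linear
open Cfsg.Agent.Lib.Char.Basic Cfsg.Agent.Lib.Char.GenLattice Cfsg.Agent.Lib.Char.Complete
open Cfsg.Agent.Lib.Char.Degree
open Cfsg.Agent.Lib.ExcP.Gram Cfsg.Agent.Lib.ExcP.Inst Cfsg.Agent.Lib.ExcP.Dual
open Cfsg.Agent.Lib.ModRep.Prime Cfsg.Agent.Lib.ModRep.ThGram Cfsg.Agent.Lib.ModRep.ThIdem
open Cfsg.Agent.Lib.ModRep.ThDeg Cfsg.Agent.Lib.ModRep.Numerics2 Cfsg.Agent.Lib.ModRep.BlockTh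
open Cfsg.Agent.Lib.CharDeep.BrauerDeg
open Cfsg.Agent.Lib.D1.CountN
open Cfsg.Agent.Lib.Blk89.DegP2A Cfsg.Agent.Lib.Blk89.DegP2C Cfsg.Agent.Lib.Blk89.DegP2D
open Cfsg.Agent.Lib.Blk89.DegP2E
open Cfsg.Agent.Lib.Char.CentralCount Cfsg.Agent.Lib.Char.ClassSum
open scoped ComplexConjugate

universe u

variable {G : Type u} [Group G] [Fintype G] {p : ℕ} [hp : Fact p.Prime] {P : Subgroup G}
  [Fintype (Cn P)] [Fintype (Nn P)] [Fintype (DD P p)] [Fintype (IrrCharacter G)] [Fintype (IrrCharacter (Cn P))]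
  [Fintype P] [Fintype (Subgroup.center G)] {M : Ideal AlgInt} {ζ : IrrCharacter G}

/-- The standing data on `τ`. -/
structure TauD (P : Subgroup G) (p : ℕ) (ζ : IrrCharacter G) (τ : G) : Prop where
  hN : τ ∈ Nn P
  hC : τ ∉ Cn P
  hinv : ∀ u ∈ P, τ * u * τ⁻¹ = u⁻¹
  hττ : τ * τ ∈ Subgroup.center G
  hreg : ¬ p ∣ orderOf τ
  hnorm : ‖(ζ : G → ℂ) τ‖ = 1
  hcl : ∀ z ∈ Subgroup.center G, IsConj τ (τ * z) → z = 1
  hcl' : ∀ z ∈ Subgroup.center G, IsConj τ⁻¹ (τ⁻¹ * z) → z = 1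

/-- The product formula for `ζ`. -/
theorem val_mul_center (S : S1 M P p ζ) (hP : Nat.card P = p) (hp2 : ¬ p ^ 2 ∣ Nat.card G) (hnn : ¬ P.Normal)
    (hdeg : charDegree (ζ : G → ℂ) + 2 = p) {z : G} (hz : z ∈ Subgroup.center G) (g : G) :
    (ζ : G → ℂ) (g * z) = (ζ : G → ℂ) g * (S.θ : Cn P → ℂ) ⟨z, center_le_C hz⟩ := by
  have hχ1 : (ζ : G → ℂ) 1 ≠ 0 := irr_one_ne_zero ζ.2
  have h1 := char_mul_central ζ.2 hz g
  rw [val_center S hP hp2 hnn hdeg hz] at h1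
  apply mul_right_cancel₀ hχ1
  rw [h1]
  ring

theorem exists_tau (S : S1 M P p ζ) (hP : Nat.card P = p) (hp2 : ¬ p ^ 2 ∣ Nat.card G) (hnn : ¬ P.Normal)
    (hodd : p ≠ 2) (hfaith : ∀ g, (ζ : G → ℂ) g = (ζ : G → ℂ) 1 → g = 1)
    (hdeg : charDegree (ζ : G → ℂ) + 2 = p) : ∃ τ, TauD P p ζ τ := by
  classical
  have hdecC := hdec S hP hp2 hfaith hdeg
  obtain ⟨τ, hN, hC⟩ := exists_out S.hf
  have hyy := mul_self_mem S.hf hN
  have hinv := inv_of_not_mem hP hN hC hyy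
  have hττ := sq_center hP hodd hdecC hinv hyy
  have hζc := isCharacter_of_isIrrCharacter ζ.2
  have hsum : ∑ u : P, (ζ : G → ℂ) u = (Nat.card P : ℂ) * ((1 : ℕ) : ℂ) := by
    have := sum_P hP hp2 hnn hdecC (th_one S) S.hθP (χ := ζ) (fun z hz => val_center S hP hp2 hnn hdeg hz)
    rw [this, S.ha]
  have hnorm : ‖(ζ : G → ℂ) τ‖ = 1 := (norm_le hP hodd hinv hζc hsum).2 rfl
  have hcf := isClassFunction_of_isCharacter hζc
  have hkey : ∀ g : G, (ζ : G → ℂ) g ≠ 0 → ∀ z ∈ Subgroup.center G, IsConj g (g * z) → z = 1 := by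
    intro g hg z hz hc
    obtain ⟨c, hc⟩ := isConj_iff.mp hc
    have h1 : (ζ : G → ℂ) (g * z) = (ζ : G → ℂ) g := by
      rw [← hc, hcf]
    rw [val_mul_center S hP hp2 hnn hdeg hz] at h1
    have h2 : (S.θ : Cn P → ℂ) ⟨z, center_le_C hz⟩ = 1 := by
      apply mul_left_cancel₀ hg
      rw [h1, mul_one]
    exact th_faith S hP hp2 hnn hfaith hdeg hz h2
  have hne : (ζ : G → ℂ) τ ≠ 0 := by
    intro h
    rw [h] at hnorm
    simp at hnorm
  have hne' : (ζ : G → ℂ) τ⁻¹ ≠ 0 := by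
    rw [char_inv_eq_conj hζc]
    exact (map_ne_zero _).mpr hne
  refine ⟨τ, hN, hC, hinv, hττ, ?_, hnorm, hkey τ hne, hkey τ⁻¹ hne'⟩
  intro hd
  have h1 := not_dvd_center hP hp2 hnn hττ
  apply h1
  have h2 : orderOf τ ∣ 2 * orderOf (τ * τ) := by
    apply orderOf_dvd_of_pow_eq_one
    rw [pow_mul, pow_two, pow_orderOf_eq_one]
  have h3 := hd.trans h2
  rcases (Nat.Prime.dvd_mul hp.out).mp h3 with h4 | h4
  · exact absurd ((Nat.prime_dvd_prime_iff_eq hp.out Nat.prime_two).mp h4) hodd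
  · exact h4

/-- Norm square divided by the degree. -/
noncomputable def nq (χ : IrrCharacter G) (τ : G) : ℝ :=
  ‖(χ : G → ℂ) τ‖ ^ 2 / (charDegree (χ : G → ℂ) : ℝ)

theorem mul_inv_div (χ : IrrCharacter G) (τ : G) :
    (χ : G → ℂ) τ * (χ : G → ℂ) τ⁻¹ / (χ : G → ℂ) 1 = (nq χ τ : ℂ) := by
  have hχ := isCharacter_of_isIrrCharacter χ.2
  rw [char_inv_eq_conj hχ, Complex.mul_conj, Complex.normSq_eq_norm_sq, ← charDegree_natCast hχ, nq]
  push_cast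
  rfl

theorem TT_pair {θ : IrrCharacter (Cn P)} (F : Fam M P p θ) (d : DD P p) (τ : G) {a b : IrrCharacter G}
    (hab : a ≠ b) (hX : F.X = {a, b}) :
    TT F d τ = ((-((F.εX a : ℝ) * nq a τ + (F.εX b : ℝ) * nq b τ) + (F.ε : ℝ) * nq (F.ν d) τ : ℝ) : ℂ) := by
  classical
  rw [TT, hX, Finset.sum_pair hab]
  simp only [mul_inv_div]
  push_cast
  ring

/-- The relation on `p`-regular elements. -/
theorem sum_reg {θ : IrrCharacter (Cn P)} (F : Fam M P p θ) (d : DD P p) {g : G} (hg : ¬ p ∣ orderOf g) :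
    ∑ χ ∈ F.X, (F.εX χ : ℂ) * (χ : G → ℂ) g = (F.ε : ℂ) * (F.ν d : G → ℂ) g := by
  have h := F.hval d g
  rw [Ws_regular _ d.2.1 hg] at h
  linear_combination h

theorem not_dvd_one : ¬ p ∣ orderOf (1 : G) := by
  rw [orderOf_one]
  exact fun h => hp.out.one_lt.ne' (Nat.dvd_one.mp h)

/-- The relation on degrees. -/
theorem sum_deg {θ : IrrCharacter (Cn P)} (F : Fam M P p θ) (d : DD P p) {a b : IrrCharacter G}
    (hab : a ≠ b) (hX : F.X = {a, b}) :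
    F.εX a * (charDegree (a : G → ℂ) : ℤ) + F.εX b * (charDegree (b : G → ℂ) : ℤ) =
      F.ε * (charDegree (F.ν d : G → ℂ) : ℤ) := by
  classical
  have h := sum_reg F d (not_dvd_one (G := G))
  rw [hX, Finset.sum_pair hab] at h
  rw [← charDegree_natCast (isCharacter_of_isIrrCharacter a.2), ← charDegree_natCast (isCharacter_of_isIrrCharacter b.2),
    ← charDegree_natCast (isCharacter_of_isIrrCharacter (F.ν d).2)] at h
  exact_mod_cast h

theorem sum_tau {θ : IrrCharacter (Cn P)} (F : Fam M P p θ) (d : DD P p) {a b : IrrCharacter G}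
    (hab : a ≠ b) (hX : F.X = {a, b}) {g : G} (hg : ¬ p ∣ orderOf g) :
    (F.εX a : ℂ) * (a : G → ℂ) g + (F.εX b : ℂ) * (b : G → ℂ) g = (F.ε : ℂ) * (F.ν d : G → ℂ) g := by
  classical
  have h := sum_reg F d hg
  rwa [hX, Finset.sum_pair hab] at h

/-- The shape of the family of `θ`. -/
theorem kappa_pair (S : S1 M P p ζ) (hP : Nat.card P = p) (hp2 : ¬ p ^ 2 ∣ Nat.card G) (hnn : ¬ P.Normal)
    (hodd : p ≠ 2) (hfaith : ∀ g, (ζ : G → ℂ) g = (ζ : G → ℂ) 1 → g = 1)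
    (hdeg : charDegree (ζ : G → ℂ) + 2 = p) :
    ∃ a b : IrrCharacter G, a ≠ b ∧ S.F.X = {a, b} ∧ S.F.εX a = 1 ∧ S.F.εX b = -1 ∧
      (charDegree (b : G → ℂ) : ℤ) = charDegree (a : G → ℂ) + (p - 2) := by
  classical
  have hdecC := hdec S hP hp2 hfaith hdeg
  obtain ⟨x, y, hxy, hX⟩ := Finset.card_eq_two.mp (S.F.hXe.trans S.he)
  have hx : x ∈ S.F.X := by rw [hX]; simp
  have hy : y ∈ S.F.X := by rw [hX]; simp
  have h1 := sum_deg S.F S.d₁ hxy hX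
  rw [S.hν, S.hε] at h1
  have hζd : (charDegree (ζ : G → ℂ) : ℤ) = p - 2 := by
    rw [← hdeg]
    push_cast
    ring
  rw [hζd] at h1
  have hxp : 1 ≤ (charDegree (x : G → ℂ) : ℤ) := by exact_mod_cast charDegree_pos x.2
  have hyp : 1 ≤ (charDegree (y : G → ℂ) : ℤ) := by exact_mod_cast charDegree_pos y.2
  have hdx := deg_X hP hp2 hnn hdecC (th_one S) S.hθP S.F hodd hx
  have hdy := deg_X hP hp2 hnn hdecC (th_one S) S.hθP S.F hodd hy
  have hp0 : (0 : ℤ) < p := by exact_mod_cast hp.out.pos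
  have hp2' : (2 : ℤ) ≤ p := by exact_mod_cast hp.out.two_le
  have hax : (0 : ℤ) ≤ p * nn (S.θ : Cn P → ℂ) (rs P (x : G → ℂ)) := by positivity
  have hay : (0 : ℤ) ≤ p * nn (S.θ : Cn P → ℂ) (rs P (y : G → ℂ)) := by positivity
  rcases S.F.hεX x hx with h2 | h2 <;> rcases S.F.hεX y hy with h3 | h3 <;> rw [h2, h3] at h1
  · exfalso
    linarith
  · exact ⟨x, y, hxy, hX, h2, h3, by linarith⟩
  · exact ⟨y, x, hxy.symm, by rw [hX, Finset.pair_comm], h3, h2, by linarith⟩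
  · exfalso
    rw [h2] at hdx
    rw [h3] at hdy
    linarith

/-- The value of `TT` for the family of `θ`. -/
theorem kappa_TT (S : S1 M P p ζ) {a b : IrrCharacter G} (hab : a ≠ b) (hX : S.F.X = {a, b})
    (hεa : S.F.εX a = 1) (hεb : S.F.εX b = -1) (hdb : (charDegree (b : G → ℂ) : ℤ) = charDegree (a : G → ℂ) + (p - 2))
    (hdeg : charDegree (ζ : G → ℂ) + 2 = p) {τ : G} (hτ : ¬ p ∣ orderOf τ) :
    TT S.F S.d₁ τ = ((-(‖(a : G → ℂ) τ‖ ^ 2 / (charDegree (a : G → ℂ) : ℝ) + ‖(ζ : G → ℂ) τ‖ ^ 2 / ((p : ℝ) - 2) -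
      ‖(a : G → ℂ) τ + (ζ : G → ℂ) τ‖ ^ 2 / ((charDegree (a : G → ℂ) : ℝ) + ((p : ℝ) - 2))) : ℝ) : ℂ) := by
  have h1 := sum_tau S.F S.d₁ hab hX hτ
  rw [S.hν, hεa, hεb, S.hε] at h1
  have hbτ : (b : G → ℂ) τ = (a : G → ℂ) τ + (ζ : G → ℂ) τ := by
    push_cast at h1
    linear_combination -h1
  have hdb' : (charDegree (b : G → ℂ) : ℝ) = (charDegree (a : G → ℂ) : ℝ) + ((p : ℝ) - 2) := by
    exact_mod_cast hdb
  have hdζ : (charDegree (ζ : G → ℂ) : ℝ) = (p : ℝ) - 2 := by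
    rw [← hdeg]
    push_cast
    ring
  rw [TT_pair S.F S.d₁ τ hab hX, S.hν, hεa, hεb, S.hε]
  simp only [nq]
  rw [hbτ, hdb', hdζ]
  push_cast
  ring

/-! ### The principal family -/

theorem relIndex_two (hf : Nat.card (Nn P) = 2 * Nat.card (Cn P)) : (Cn P).relIndex (Nn P) = 2 := by
  have hCN : Cn P ≤ Nn P := Subgroup.centralizer_le_normalizer _
  have h1 := Subgroup.card_mul_index ((Cn P).subgroupOf (Nn P))
  have h2 : Nat.card ((Cn P).subgroupOf (Nn P)) = Nat.card (Cn P) :=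
    Nat.card_congr (Subgroup.subgroupOfEquivOfLe hCN).toEquiv
  rw [h2, hf] at h1
  have h4 : Nat.card (Cn P) * ((Cn P).subgroupOf (Nn P)).index = Nat.card (Cn P) * 2 := by
    rw [h1, mul_comm]
  exact Nat.eq_of_mul_eq_mul_left Nat.card_pos h4

theorem rs_trv : rs P (trv G : G → ℂ) = (trv (Cn P) : Cn P → ℂ) := rfl

theorem nn_trv_trv : nn (trv (Cn P) : Cn P → ℂ) (rs P (trv G : G → ℂ)) = 1 := by
  rw [rs_trv]
  have h := nn_cast (isCharacter_of_isIrrCharacter (trv (Cn P)).2) (isCharacter_of_isIrrCharacter (trv (Cn P)).2)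
  rw [classInner_self_of_isIrr (trv (Cn P)).2] at h
  exact_mod_cast h

theorem nn_tw_trv (d : DD P p) : nn (tw d.1 (trv (Cn P) : Cn P → ℂ)) (rs P (trv G : G → ℂ)) = 0 := by
  rw [rs_trv]
  have h := nn_cast (isCharacter_of_isIrrCharacter (isIrr_tw d.1 (trv (Cn P)).2))
    (isCharacter_of_isIrrCharacter (trv (Cn P)).2)
  rw [classInner_eq_zero_of_isIrr_of_ne (isIrr_tw d.1 (trv (Cn P)).2) (trv (Cn P)).2] at h
  · exact_mod_cast h
  · intro h1
    apply d.2.2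
    ext c
    have h2 := congrFun h1 c
    simpa [tw] using h2

/-- The shape of the principal family. -/
theorem prin_pair (F₀ : Fam M P p (trv (Cn P))) (he : F₀.e = 2) (hP : Nat.card P = p) (hp2 : ¬ p ^ 2 ∣ Nat.card G)
    (hp7 : 7 ≤ p) :
    ∃ f : IrrCharacter G, trv G ≠ f ∧ F₀.X = {trv G, f} ∧ F₀.εX (trv G) = 1 := by
  classical
  obtain ⟨d₀⟩ := ex_DD (p := p) (P := P) hP hp2 (by omega)
  by_cases h : trv G ∈ F₀.X
  · have h1 := mult_rel F₀ d₀ (trv G)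
    have h2 : F₀.ν d₀ ≠ trv G := fun h3 =>
      Finset.disjoint_left.mp F₀.hdisj h ((F₀.hY _).mpr ⟨d₀, h3⟩)
    rw [if_pos h, if_neg h2, nn_trv_trv, nn_tw_trv] at h1
    have h3 : F₀.εX (trv G) = 1 := by
      push_cast at h1
      linarith
    obtain ⟨x, y, hxy, hX⟩ := Finset.card_eq_two.mp (F₀.hXe.trans he)
    rw [hX] at h
    rcases Finset.mem_insert.mp h with h4 | h4
    · refine ⟨y, ?_, ?_, h3⟩
      · rw [h4]
        exact hxy
      · rw [hX, h4]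
    · have h5 : trv G = y := Finset.mem_singleton.mp h4
      refine ⟨x, ?_, ?_, h3⟩
      · rw [h5]
        exact hxy.symm
      · rw [hX, h5, Finset.pair_comm]
  · exfalso
    have h1 : ∀ d : DD P p, F₀.ν d = trv G := by
      intro d
      by_contra h2
      have h3 := mult_rel F₀ d (trv G)
      rw [if_neg h, if_neg h2, nn_trv_trv, nn_tw_trv] at h3
      simp at h3
    have h2 := card_fib F₀ d₀
    have h3 : (Finset.univ.filter (fun d => F₀.ν d = F₀.ν d₀)) = Finset.univ := by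
      ext d
      simp [h1]
    rw [h3, Finset.card_univ, he, ← Nat.card_eq_fintype_card, card_DD hP hp2] at h2
    omega

/-- The two cases for the principal family. -/
theorem prin_cases (F₀ : Fam M P p (trv (Cn P))) {f : IrrCharacter G} (hne : trv G ≠ f) (hX : F₀.X = {trv G, f})
    (hε1 : F₀.εX (trv G) = 1) (d : DD P p) {τ : G} (hτ : ¬ p ∣ orderOf τ) :
    (F₀.ε = 1 ∧ F₀.εX f = 1 ∧ (charDegree (F₀.ν d : G → ℂ) : ℤ) = charDegree (f : G → ℂ) + 1 ∧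
        (F₀.ν d : G → ℂ) τ = 1 + (f : G → ℂ) τ) ∨
      (F₀.ε = -1 ∧ F₀.εX f = -1 ∧ (charDegree (F₀.ν d : G → ℂ) : ℤ) = charDegree (f : G → ℂ) - 1 ∧
        (F₀.ν d : G → ℂ) τ = (f : G → ℂ) τ - 1) := by
  classical
  have hfm : f ∈ F₀.X := by rw [hX]; simp
  have h1 := sum_deg F₀ d hne hX
  have h2 := sum_tau F₀ d hne hX hτ
  rw [hε1] at h1 h2
  have hdt : charDegree (trv G : G → ℂ) = 1 := by
    have h3 := charDegree_natCast (isCharacter_of_isIrrCharacter (trv G).2)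
    rw [trv_apply] at h3
    exact_mod_cast h3
  rw [hdt] at h1
  have hdf : 1 ≤ (charDegree (f : G → ℂ) : ℤ) := by exact_mod_cast charDegree_pos f.2
  have hdν : 1 ≤ (charDegree (F₀.ν d : G → ℂ) : ℤ) := by exact_mod_cast charDegree_pos (F₀.ν d).2
  rw [trv_apply] at h2
  rcases F₀.hε with h3 | h3 <;> rcases F₀.hεX f hfm with h4 | h4 <;> rw [h3, h4] at h1 <;> rw [h3, h4] at h2
  · refine Or.inl ⟨h3, h4, by push_cast at h1; linarith, ?_⟩
    push_cast at h2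
    linear_combination -h2
  · exfalso
    push_cast at h1
    linarith
  · exfalso
    push_cast at h1
    linarith
  · refine Or.inr ⟨h3, h4, by push_cast at h1; linarith, ?_⟩
    push_cast at h2
    linear_combination h2

theorem nq_trv (τ : G) : nq (trv G) τ = 1 := by
  have hdt : charDegree (trv G : G → ℂ) = 1 := by
    have h3 := charDegree_natCast (isCharacter_of_isIrrCharacter (trv G).2)
    rw [trv_apply] at h3
    exact_mod_cast h3
  simp [nq, hdt]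

theorem Q0_A (f : ℂ) {n : ℝ} (hn : 0 < n) :
    1 + ‖f‖ ^ 2 / n - ‖1 + f‖ ^ 2 / (n + 1) = ‖(n : ℂ) - f‖ ^ 2 / (n * (1 + n)) := by
  have h := Q_identity 1 f (y := 1) (n := n) one_pos hn
  simp only [NormOneClass.norm_one, one_pow, Complex.ofReal_one, one_mul, mul_one, div_one] at h
  rw [add_comm n 1]
  exact h

theorem Q0_B (f : ℂ) {n : ℝ} (hn : 1 < n) :
    1 + ‖f - 1‖ ^ 2 / (n - 1) - ‖f‖ ^ 2 / n = ‖(n : ℂ) - f‖ ^ 2 / (n * (n - 1)) := by
  have h := Q_identity 1 (f - 1) (y := 1) (n := n - 1) one_pos (by linarith)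
  simp only [NormOneClass.norm_one, one_pow, Complex.ofReal_one, one_mul, mul_one, div_one] at h
  have h1 : (1 : ℂ) + (f - 1) = f := by ring
  have h2 : (1 : ℝ) + (n - 1) = n := by ring
  rw [h1, h2] at h
  rw [h]
  have h3 : (((n - 1 : ℝ) : ℂ)) - (f - 1) = (n : ℂ) - f := by
    push_cast
    ring
  rw [h3]
  congr 1
  ring

/-- The value of `TT` in the first case. -/
theorem prin_TT_A (F₀ : Fam M P p (trv (Cn P))) {f : IrrCharacter G} (hne : trv G ≠ f) (hX : F₀.X = {trv G, f})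
    (hε1 : F₀.εX (trv G) = 1) (d : DD P p) {τ : G} (h1 : F₀.ε = 1) (h2 : F₀.εX f = 1)
    (h3 : (charDegree (F₀.ν d : G → ℂ) : ℤ) = charDegree (f : G → ℂ) + 1)
    (h4 : (F₀.ν d : G → ℂ) τ = 1 + (f : G → ℂ) τ) :
    TT F₀ d τ = ((-(‖((charDegree (f : G → ℂ) : ℝ) : ℂ) - (f : G → ℂ) τ‖ ^ 2 /
      ((charDegree (f : G → ℂ) : ℝ) * (1 + (charDegree (f : G → ℂ) : ℝ)))) : ℝ) : ℂ) := by
  have hn : 0 < (charDegree (f : G → ℂ) : ℝ) := by exact_mod_cast charDegree_pos f.2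
  rw [← Q0_A _ hn, TT_pair F₀ d τ hne hX, hε1, h1, h2, nq_trv]
  have h3' : (charDegree (F₀.ν d : G → ℂ) : ℝ) = (charDegree (f : G → ℂ) : ℝ) + 1 := by
    exact_mod_cast h3
  simp only [nq]
  rw [h4, h3']
  push_cast
  ring

/-- The value of `TT` in the second case. -/
theorem prin_TT_B (F₀ : Fam M P p (trv (Cn P))) {f : IrrCharacter G} (hne : trv G ≠ f) (hX : F₀.X = {trv G, f})
    (hε1 : F₀.εX (trv G) = 1) (d : DD P p) {τ : G} (h1 : F₀.ε = -1) (h2 : F₀.εX f = -1)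
    (h3 : (charDegree (F₀.ν d : G → ℂ) : ℤ) = charDegree (f : G → ℂ) - 1)
    (h4 : (F₀.ν d : G → ℂ) τ = (f : G → ℂ) τ - 1) :
    1 < (charDegree (f : G → ℂ) : ℝ) ∧
    TT F₀ d τ = ((-(‖((charDegree (f : G → ℂ) : ℝ) : ℂ) - (f : G → ℂ) τ‖ ^ 2 /
      ((charDegree (f : G → ℂ) : ℝ) * ((charDegree (f : G → ℂ) : ℝ) - 1))) : ℝ) : ℂ) := by
  have hν : 1 ≤ (charDegree (F₀.ν d : G → ℂ) : ℤ) := by exact_mod_cast charDegree_pos (F₀.ν d).2
  have hn : 1 < (charDegree (f : G → ℂ) : ℝ) := by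
    have : 1 < (charDegree (f : G → ℂ) : ℤ) := by linarith
    exact_mod_cast this
  refine ⟨hn, ?_⟩
  rw [← Q0_B _ hn, TT_pair F₀ d τ hne hX, hε1, h1, h2, nq_trv]
  have h3' : (charDegree (F₀.ν d : G → ℂ) : ℝ) = (charDegree (f : G → ℂ) : ℝ) - 1 := by
    exact_mod_cast h3
  simp only [nq]
  rw [h4, h3']
  push_cast
  ring

end Cfsg.Agent.Lib.Blk89.DegP2F
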