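import Cfsg.Agent.Lib.Blk89.DegP2F
import Cfsg.Agent.Lib.Char.Clifford
import Cfsg.Agent.Lib.CharZeros.Average

/-!
# Faithful irreducible characters of degree `p - 2`: the character `ζ conj ζ`
-/

set_option autoImplicit false
set_option linter.style.haveILetI false
set_option linter.unusedSectionVars false

namespace Cfsg.Agent.Lib.Blk89.DegP2G

open Cfsg
open Cfsg.Agent.Lib.Blocks.Local Cfsg.Agent.Lib.Blocks.Central Cfsg.Agent.Lib.Blocks.General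
open Cfsg.Agent.Lib.Blocks.Induced
open Cfsg.Agent.Lib.Char.Induced Cfsg.Agent.Lib.Char.Ortho Cfsg.Agent.Lib.Char.Linear
open Cfsg.Agent.Lib.Char.Basic Cfsg.Agent.Lib.Char.GenLattice Cfsg.Agent.Lib.Char.Complete
open Cfsg.Agent.Lib.Char.Degree
open Cfsg.Agent.Lib.ExcP.Gram Cfsg.Agent.Lib.ExcP.Inst Cfsg.Agent.Lib.ExcP.Dual
open Cfsg.Agent.Lib.ModRep.Prime Cfsg.Agent.Lib.ModRep.ThGram Cfsg.Agent.Lib.ModRep.ThIdem
open Cfsg.Agent.Lib.ModRep.ThDeg Cfsg.Agent.Lib.ModRep.Numerics2 Cfsg.Agent.Lib.ModRep.BlockTh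
open Cfsg.Agent.Lib.CharDeep.BrauerDeg
open Cfsg.Agent.Lib.D1.CountN
open Cfsg.Agent.Lib.Blk89.DegP2A Cfsg.Agent.Lib.Blk89.DegP2C Cfsg.Agent.Lib.Blk89.DegP2D
open Cfsg.Agent.Lib.Blk89.DegP2E Cfsg.Agent.Lib.Blk89.DegP2F
open Cfsg.Agent.Lib.Char.CentralCount Cfsg.Agent.Lib.Char.ClassSum Cfsg.Agent.Lib.Char.Clifford
open scoped ComplexConjugate

universe u

variable {G : Type u} [Group G] [Fintype G] {p : ℕ} [hp : Fact p.Prime] {P : Subgroup G}
  [Fintype (Cn P)] [Fintype (Nn P)] [Fintype (DD P p)] [Fintype (IrrCharacter G)] [Fintype (IrrCharacter (Cn P))]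
  [Fintype P] [Fintype (Subgroup.center G)] {M : Ideal AlgInt} {ζ : IrrCharacter G}

/-- The inverse of a member of `D`. -/
noncomputable def dinv (d : DD P p) : DD P p :=
  ⟨d.1⁻¹, fun x => by rw [MonoidHom.inv_apply, inv_pow, d.2.1 x, inv_one], fun h => d.2.2 (by
    ext x
    have h1 := DFunLike.congr_fun h x
    rw [MonoidHom.inv_apply, MonoidHom.one_apply, inv_eq_one] at h1
    rw [h1]
    rfl)⟩

theorem hom_eq_one {κ : Cn P →* ℂˣ} (hκ : ∀ x, κ x ^ p = 1) {k : ℕ} (hk : Nat.Coprime k p) (h : ∀ x, κ x ^ k = 1) :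
    κ = 1 := by
  ext x
  have h1 : κ x ^ Nat.gcd k p = 1 := pow_gcd_eq_one.mpr ⟨h x, hκ x⟩
  rw [hk, pow_one] at h1
  rw [h1]
  rfl

theorem coprime_two (hodd : p ≠ 2) : Nat.Coprime 2 p := by
  rw [Nat.coprime_primes Nat.prime_two hp.out]
  exact fun h => hodd h.symm

theorem coprime_four (hodd : p ≠ 2) : Nat.Coprime 4 p := by
  have h := coprime_two hodd
  have h2 : (4 : ℕ) = 2 ^ 2 := rfl
  rw [h2]
  exact Nat.Coprime.pow_left 2 h

section Sum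

variable (S : S1 M P p ζ) (hP : Nat.card P = p) (hp2 : ¬ p ^ 2 ∣ Nat.card G) (hnn : ¬ P.Normal) (hodd : p ≠ 2)
  (hfaith : ∀ g, (ζ : G → ℂ) g = (ζ : G → ℂ) 1 → g = 1) (hdeg : charDegree (ζ : G → ℂ) + 2 = p)
  {τ : G} (hτ : TauD P p ζ τ)

include S hP hp2 hnn hodd hfaith hdeg hτ

theorem nn_dinv (d : DD P p) :
    nn (tw (dinv d).1 (S.θ : Cn P → ℂ)) (rs P (ζ : G → ℂ)) = nn (tw d.1 (S.θ : Cn P → ℂ)) (rs P (ζ : G → ℂ)) := by
  have hζc := isCharacter_of_isIrrCharacter ζ.2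
  have hdecC := hdec S hP hp2 hfaith hdeg
  have hχz := fun z (hz : z ∈ Subgroup.center G) => val_center S hP hp2 hnn hdeg hz
  have h1 := inner_eq hP hp2 hnn hdecC (th_one S) S.hθP (χ := ζ) hχz (κ := (dinv d).1) (dinv d).2.1
  have h2 := inner_eq hP hp2 hnn hdecC (th_one S) S.hθP (χ := ζ) hχz (κ := d.1) d.2.1
  have hcf := isClassFunction_of_isCharacter hζc
  have h3 : classInner (tw (dinv d).1 (S.θ : Cn P → ℂ)) (rs P (ζ : G → ℂ)) =
      classInner (tw d.1 (S.θ : Cn P → ℂ)) (rs P (ζ : G → ℂ)) := by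
    rw [h1, h2]
    congr 1
    refine Fintype.sum_equiv (Equiv.inv P) _ _ fun u => ?_
    have h4 : (ζ : G → ℂ) ((u⁻¹ : P) : G) = (ζ : G → ℂ) u := by
      have h5 := hτ.hinv u u.2
      rw [Subgroup.coe_inv, ← h5, hcf]
    rw [Equiv.inv_apply, h4]
    congr 1
    have h6 : (⟨((u⁻¹ : P) : G), le_centralizer hP (u⁻¹ : P).2⟩ : Cn P) = (⟨u, le_centralizer hP u.2⟩ : Cn P)⁻¹ := rfl
    rw [h6, map_inv]
    show ((d.1⁻¹ ⟨u, le_centralizer hP u.2⟩ : ℂˣ) : ℂ) = _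
    rw [MonoidHom.inv_apply]
  have h4 := nn_cast (isCharacter_of_isIrrCharacter (isIrr_tw (dinv d).1 S.θ.2)) (isChar_rs (P := P) hζc)
  have h5 := nn_cast (isCharacter_of_isIrrCharacter (isIrr_tw d.1 S.θ.2)) (isChar_rs (P := P) hζc)
  rw [h3, ← h5] at h4
  exact_mod_cast h4

theorem ν_dinv : S.F.ν (dinv S.d₁) = ζ := by
  by_contra h
  have h1 := S.hb' _ h
  have h2 := S.hb S.d₁ S.hν
  rw [nn_dinv S hP hp2 hnn hodd hfaith hdeg hτ, h2] at h1
  exact zero_ne_one h1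

theorem dinv_ne : S.d₁ ≠ dinv S.d₁ := by
  intro h
  apply S.d₁.2.2
  refine hom_eq_one S.d₁.2.1 (coprime_two hodd) fun x => ?_
  have h1 : S.d₁.1 = S.d₁.1⁻¹ := congrArg Subtype.val h
  have h2 : S.d₁.1 x = (S.d₁.1 x)⁻¹ := by
    conv_lhs => rw [h1]
    rw [MonoidHom.inv_apply]
  rw [pow_two]
  nth_rewrite 1 [h2]
  simp

omit hτ hfaith hnn in
theorem fib' (hτ' : S.F.ν (dinv S.d₁) = ζ) (hne : S.d₁ ≠ dinv S.d₁) :
    open scoped Classical in
    Finset.univ.filter (fun d => S.F.ν d = ζ) = {S.d₁, dinv S.d₁} := by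
  classical
  symm
  apply Finset.eq_of_subset_of_card_le
  · intro d hd
    simp only [Finset.mem_insert, Finset.mem_singleton] at hd
    simp only [Finset.mem_filter, Finset.mem_univ, true_and]
    rcases hd with rfl | rfl
    · exact S.hν
    · exact hτ'
  · have h2 := card_fib S.F S.d₁
    rw [S.hν, S.he] at h2
    rw [Finset.card_pair hne, h2]

/-- The values of `ζ` on `P`. -/
theorem val_P_ne (u : P) (hu : u ≠ 1) :
    (ζ : G → ℂ) u = -(((S.d₁.1 ⟨u, le_centralizer hP u.2⟩ : ℂˣ) : ℂ) +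
      (((dinv S.d₁).1 ⟨u, le_centralizer hP u.2⟩ : ℂˣ) : ℂ)) := by
  classical
  have hfib := fib' S hP hp2 hodd hdeg (ν_dinv S hP hp2 hnn hodd hfaith hdeg hτ)
    (dinv_ne S hP hp2 hnn hodd hfaith hdeg hτ)
  set c : Cn P := ⟨u, le_centralizer hP u.2⟩ with hc
  have hc1 : c ≠ 1 := by
    intro h
    apply hu
    apply Subtype.ext
    exact congrArg (fun x : Cn P => (x : G)) h
  have h1 : ∑ d : DD P p, (if S.F.ν d = ζ then (0 : ℂ) else ((d.1 c : ℂˣ) : ℂ)) =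
      ∑ d : DD P p, ((d.1 c : ℂˣ) : ℂ) - ∑ d ∈ Finset.univ.filter (fun d => S.F.ν d = ζ), ((d.1 c : ℂˣ) : ℂ) := by
    rw [eq_sub_iff_add_eq, Finset.sum_filter, ← Finset.sum_add_distrib]
    refine Finset.sum_congr rfl fun d _ => ?_
    split_ifs <;> simp
  have h2 : (ζ : G → ℂ) u = (ζ : G → ℂ) (c : G) := rfl
  have h3 : (S.θ : Cn P → ℂ) c = 1 := by
    rw [S.hθP c u.2, th_one S]
  rw [h2, val_C S c, h3, one_mul, h1, hfib, Finset.sum_pair (dinv_ne S hP hp2 hnn hodd hfaith hdeg hτ),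
    sum_DD_apply hP hp2 u.2 hc1]
  ring

end Sum

/-- The character `ζ conj ζ`. -/
noncomputable def Psi (ζ : IrrCharacter G) : G → ℂ := fun g => (ζ : G → ℂ) g * conj ((ζ : G → ℂ) g)

theorem isCharacter_Psi (ζ : IrrCharacter G) : IsCharacter G (Psi ζ) :=
  Cfsg.Agent.Lib.CharZeros.Average.isCharacter_mul_conj (isCharacter_of_isIrrCharacter ζ.2)

theorem conj_Psi (ζ : IrrCharacter G) (g : G) : conj (Psi ζ g) = Psi ζ g := by
  simp [Psi, mul_comm]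

theorem Psi_eq_norm (ζ : IrrCharacter G) (g : G) : Psi ζ g = ((‖(ζ : G → ℂ) g‖ ^ 2 : ℝ) : ℂ) := by
  rw [Psi, Complex.mul_conj, Complex.normSq_eq_norm_sq]

theorem inner_trv_Psi (ζ : IrrCharacter G) : classInner (trv G : G → ℂ) (Psi ζ) = 1 := by
  have h := classInner_self_of_isIrr ζ.2
  rw [classInner] at h ⊢
  rw [← h]
  congr 1
  refine Finset.sum_congr rfl fun g _ => ?_
  rw [conj_Psi, trv_apply, one_mul, Psi]

section PsiVal

variable (S : S1 M P p ζ) (hP : Nat.card P = p) (hp2 : ¬ p ^ 2 ∣ Nat.card G) (hnn : ¬ P.Normal) (hodd : p ≠ 2)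
  (hfaith : ∀ g, (ζ : G → ℂ) g = (ζ : G → ℂ) 1 → g = 1) (hdeg : charDegree (ζ : G → ℂ) + 2 = p)
  {τ : G} (hτ : TauD P p ζ τ)

/-- The square of `d₁`. -/
noncomputable def kk (S : S1 M P p ζ) : Cn P →* ℂˣ := S.d₁.1 * S.d₁.1

include S hP hp2 hnn hodd hfaith hdeg hτ

/-- Values of `ψ` on `P`. -/
theorem Psi_P_ne (u : P) (hu : u ≠ 1) (c : Cn P) (hc : c = ⟨u, le_centralizer hP u.2⟩) :
    Psi ζ u = 2 + ((kk S c : ℂˣ) : ℂ) + (((kk S)⁻¹ c : ℂˣ) : ℂ) := by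
  have h1 := val_P_ne S hP hp2 hnn hodd hfaith hdeg hτ u hu
  rw [← hc] at h1
  set w : ℂˣ := S.d₁.1 c with hw
  have h2 : (((dinv S.d₁).1 c : ℂˣ) : ℂ) = ((w : ℂ))⁻¹ := by
    show ((S.d₁.1⁻¹ c : ℂˣ) : ℂ) = _
    rw [MonoidHom.inv_apply, Units.val_inv_eq_inv_val]
  have hn : ‖(w : ℂ)‖ = 1 := norm_hom S.d₁.1 c
  have h3 : conj (w : ℂ) = (w : ℂ)⁻¹ := (Complex.inv_eq_conj hn).symm
  have h4 : ((kk S c : ℂˣ) : ℂ) = (w : ℂ) * w := rfl
  have h5 : (((kk S)⁻¹ c : ℂˣ) : ℂ) = ((w : ℂ) * w)⁻¹ := by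
    rw [MonoidHom.inv_apply, Units.val_inv_eq_inv_val]
    rfl
  have hw0 : (w : ℂ) ≠ 0 := w.ne_zero
  rw [Psi, h1, h2, h4, h5]
  simp only [map_neg, map_add, map_inv₀, Complex.conj_conj, h3]
  field_simp
  ring

omit S hp2 hnn hodd hfaith hτ hP in
theorem Psi_one : Psi ζ 1 = ((p : ℂ) - 2) ^ 2 := by
  have hζc := isCharacter_of_isIrrCharacter ζ.2
  have h1 : (ζ : G → ℂ) 1 = (p : ℂ) - 2 := by
    rw [← charDegree_natCast hζc, ← hdeg]
    push_cast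
    ring
  rw [Psi, h1, map_sub, map_natCast, map_ofNat]
  ring

/-- The sum formula. -/
theorem sum_Psi (κ : Cn P →* ℂˣ) :
    ∑ u : P, ((κ ⟨u, le_centralizer hP u.2⟩ : ℂˣ) : ℂ) * conj (Psi ζ u) =
      ((p : ℂ) ^ 2 - 4 * p) + 2 * (∑ u : P, ((κ ⟨u, le_centralizer hP u.2⟩ : ℂˣ) : ℂ)) +
        (∑ u : P, (((κ * kk S) ⟨u, le_centralizer hP u.2⟩ : ℂˣ) : ℂ)) +
        (∑ u : P, (((κ * (kk S)⁻¹) ⟨u, le_centralizer hP u.2⟩ : ℂˣ) : ℂ)) := by
  classical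
  have h1 : ∀ u : P, ((κ ⟨u, le_centralizer hP u.2⟩ : ℂˣ) : ℂ) * conj (Psi ζ u) =
      (if u = 1 then ((p : ℂ) ^ 2 - 4 * p) else 0) + 2 * ((κ ⟨u, le_centralizer hP u.2⟩ : ℂˣ) : ℂ) +
        (((κ * kk S) ⟨u, le_centralizer hP u.2⟩ : ℂˣ) : ℂ) +
        (((κ * (kk S)⁻¹) ⟨u, le_centralizer hP u.2⟩ : ℂˣ) : ℂ) := by
    intro u
    rw [conj_Psi]
    by_cases hu : u = 1
    · subst hu
      have h2 : (⟨((1 : P) : G), le_centralizer hP (1 : P).2⟩ : Cn P) = 1 := rfl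
      rw [h2, if_pos rfl, map_one, map_one, map_one]
      have h3 : ((1 : P) : G) = 1 := rfl
      rw [h3, Psi_one hdeg]
      simp
      ring
    · rw [if_neg hu, Psi_P_ne S hP hp2 hnn hodd hfaith hdeg hτ u hu _ rfl]
      simp only [MonoidHom.mul_apply, Units.val_mul]
      ring
  simp only [h1]
  rw [Finset.sum_add_distrib, Finset.sum_add_distrib, Finset.sum_add_distrib, Finset.sum_ite_eq', if_pos (Finset.mem_univ _),
    ← Finset.mul_sum]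

omit S hnn hodd hfaith hdeg hτ in
theorem E_one : ∑ u : P, (((1 : Cn P →* ℂˣ) ⟨u, le_centralizer hP u.2⟩ : ℂˣ) : ℂ) = p := by
  simp [← Nat.card_eq_fintype_card, hP]

omit S hnn hodd hfaith hdeg hτ in
theorem E_ne {κ : Cn P →* ℂˣ} (hκ : ∀ x, κ x ^ p = 1) (hne : κ ≠ 1) :
    ∑ u : P, ((κ ⟨u, le_centralizer hP u.2⟩ : ℂˣ) : ℂ) = 0 :=
  sum_P_d hP hp2 ⟨κ, hκ, hne⟩

end PsiVal

section Props

variable (S : S1 M P p ζ)

omit [Fintype G] [Fintype (Cn P)] [Fintype (Nn P)] [Fintype (DD P p)] [Fintype (IrrCharacter G)]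
  [Fintype (IrrCharacter (Cn P))] [Fintype P] [Fintype (Subgroup.center G)] in
theorem pow_hom {κ κ' : Cn P →* ℂˣ} (h : ∀ x, κ x ^ p = 1) (h' : ∀ x, κ' x ^ p = 1) (x : Cn P) :
    (κ * κ') x ^ p = 1 := by
  rw [MonoidHom.mul_apply, mul_pow, h, h', one_mul]

omit [Fintype G] [Fintype (Cn P)] [Fintype (Nn P)] [Fintype (DD P p)] [Fintype (IrrCharacter G)]
  [Fintype (IrrCharacter (Cn P))] [Fintype P] [Fintype (Subgroup.center G)] in
theorem pow_inv {κ : Cn P →* ℂˣ} (h : ∀ x, κ x ^ p = 1) (x : Cn P) : κ⁻¹ x ^ p = 1 := by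
  rw [MonoidHom.inv_apply, inv_pow, h, inv_one]

omit [Fintype G] [Fintype (Cn P)] [Fintype (Nn P)] [Fintype (DD P p)] [Fintype (IrrCharacter G)]
  [Fintype (IrrCharacter (Cn P))] [Fintype P] [Fintype (Subgroup.center G)] in
theorem one_mul' (κ : Cn P →* ℂˣ) : (1 : Cn P →* ℂˣ) * κ = κ :=
  MonoidHom.ext fun x => by simp [MonoidHom.mul_apply]

omit [Fintype G] [Fintype (Cn P)] [Fintype (Nn P)] [Fintype (DD P p)] [Fintype (IrrCharacter G)]
  [Fintype (IrrCharacter (Cn P))] [Fintype P] [Fintype (Subgroup.center G)] in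
theorem mul_inv' (κ : Cn P →* ℂˣ) : κ * κ⁻¹ = 1 :=
  MonoidHom.ext fun x => by simp [MonoidHom.mul_apply, MonoidHom.inv_apply]

omit [Fintype G] [Fintype (Cn P)] [Fintype (Nn P)] [Fintype (DD P p)] [Fintype (IrrCharacter G)]
  [Fintype (IrrCharacter (Cn P))] [Fintype P] [Fintype (Subgroup.center G)] in
theorem eq_inv' {κ κ' : Cn P →* ℂˣ} (h : κ * κ' = 1) : κ = κ'⁻¹ :=
  MonoidHom.ext fun x => by
    have h1 := DFunLike.congr_fun h x
    rw [MonoidHom.mul_apply, MonoidHom.one_apply] at h1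
    rw [MonoidHom.inv_apply]
    exact eq_inv_of_mul_eq_one_left h1

omit [Fintype G] [Fintype (Cn P)] [Fintype (Nn P)] [Fintype (DD P p)] [Fintype (IrrCharacter G)]
  [Fintype (IrrCharacter (Cn P))] [Fintype P] [Fintype (Subgroup.center G)] in
theorem eq_of_mul_inv' {κ κ' : Cn P →* ℂˣ} (h : κ * κ'⁻¹ = 1) : κ = κ' :=
  MonoidHom.ext fun x => by
    have h1 := DFunLike.congr_fun h x
    rw [MonoidHom.mul_apply, MonoidHom.inv_apply, MonoidHom.one_apply] at h1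
    exact mul_inv_eq_one.mp h1

omit [Fintype G] [Fintype (Cn P)] [Fintype (Nn P)] [Fintype (DD P p)] [Fintype (IrrCharacter G)]
  [Fintype (IrrCharacter (Cn P))] [Fintype P] [Fintype (Subgroup.center G)] in
theorem inv_ne' {κ : Cn P →* ℂˣ} (h : κ ≠ 1) : κ⁻¹ ≠ 1 := fun h1 => h (MonoidHom.ext fun x => by
    have h2 := DFunLike.congr_fun h1 x
    rw [MonoidHom.inv_apply, MonoidHom.one_apply] at h2
    rw [MonoidHom.one_apply]
    exact inv_eq_one.mp h2)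

theorem pow_kk (x : Cn P) : kk S x ^ p = 1 := pow_hom S.d₁.2.1 S.d₁.2.1 x

theorem kk_ne (hodd : p ≠ 2) : kk S ≠ 1 := by
  intro h
  apply S.d₁.2.2
  refine hom_eq_one S.d₁.2.1 (coprime_two hodd) fun x => ?_
  have h1 : kk S x = 1 := by rw [h]; rfl
  rw [pow_two]
  exact h1

theorem kk_sq_ne (hodd : p ≠ 2) : kk S * kk S ≠ 1 := by
  intro h
  apply S.d₁.2.2
  refine hom_eq_one S.d₁.2.1 (coprime_four hodd) fun x => ?_
  have h1 : (kk S * kk S) x = 1 := by rw [h]; rfl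
  have h2 : (kk S * kk S) x = S.d₁.1 x * S.d₁.1 x * (S.d₁.1 x * S.d₁.1 x) := rfl
  rw [h2] at h1
  rw [← h1, pow_succ, pow_succ, pow_succ, pow_one]
  simp only [mul_assoc]

end Props

section Inner

variable (S : S1 M P p ζ) (hP : Nat.card P = p) (hp2 : ¬ p ^ 2 ∣ Nat.card G) (hnn : ¬ P.Normal) (hodd : p ≠ 2)
  (hfaith : ∀ g, (ζ : G → ℂ) g = (ζ : G → ℂ) 1 → g = 1) (hdeg : charDegree (ζ : G → ℂ) + 2 = p)
  {τ : G} (hτ : TauD P p ζ τ)

include S hP hp2 hnn hodd hfaith hdeg hτ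

/-- The multiplicities of `ψ` on the centralizer. -/
theorem inner_Psi {κ : Cn P →* ℂˣ} (hκ : ∀ x, κ x ^ p = 1) :
    classInner (tw κ (trv (Cn P) : Cn P → ℂ)) (rs P (Psi ζ)) =
      (p : ℂ)⁻¹ * (((p : ℂ) ^ 2 - 4 * p) + 2 * (∑ u : P, ((κ ⟨u, le_centralizer hP u.2⟩ : ℂˣ) : ℂ)) +
        (∑ u : P, (((κ * kk S) ⟨u, le_centralizer hP u.2⟩ : ℂˣ) : ℂ)) +
        (∑ u : P, (((κ * (kk S)⁻¹) ⟨u, le_centralizer hP u.2⟩ : ℂˣ) : ℂ))) := by
  have hdecC := hdec S hP hp2 hfaith hdeg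
  rw [← sum_Psi S hP hp2 hnn hodd hfaith hdeg hτ κ]
  refine inner_eq' hP hp2 hnn hdecC (θ := trv (Cn P)) rfl trv_ker (fun u z => ?_) hκ
  obtain ⟨lam, hlam⟩ := exists_lam (isCharacter_of_isIrrCharacter S.θ.2) (th_one S)
  rw [trv_apply, mul_one, Psi, Psi, val_mul_center S hP hp2 hnn hdeg z.2, map_mul]
  have h1 : (S.θ : Cn P → ℂ) ⟨z, center_le_C z.2⟩ * conj ((S.θ : Cn P → ℂ) ⟨z, center_le_C z.2⟩) = 1 := by
    rw [Complex.mul_conj, hlam, Complex.normSq_eq_norm_sq, norm_hom]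
    simp
  linear_combination (ζ : G → ℂ) u * conj ((ζ : G → ℂ) u) * h1

theorem inner_Psi_one : classInner (trv (Cn P) : Cn P → ℂ) (rs P (Psi ζ)) = (p : ℂ) - 2 := by
  have h1 := inner_Psi S hP hp2 hnn hodd hfaith hdeg hτ (κ := 1) (by simp)
  rw [tw_one_eq] at h1
  rw [h1, E_one hP hp2, one_mul' , one_mul', E_ne hP hp2 (pow_kk S) (kk_ne S hodd),
    E_ne hP hp2 (pow_inv (pow_kk S)) (inv_ne' (kk_ne S hodd))]
  have hp0 : (p : ℂ) ≠ 0 := by exact_mod_cast hp.out.ne_zero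
  field_simp
  ring

theorem inner_Psi_gen (d : DD P p) (h1 : d.1 ≠ kk S) (h2 : d.1 ≠ (kk S)⁻¹) :
    classInner (tw d.1 (trv (Cn P) : Cn P → ℂ)) (rs P (Psi ζ)) = (p : ℂ) - 4 := by
  rw [inner_Psi S hP hp2 hnn hodd hfaith hdeg hτ d.2.1, E_ne hP hp2 d.2.1 d.2.2,
    E_ne hP hp2 (pow_hom d.2.1 (pow_kk S)) (fun h => h2 (eq_inv' h)),
    E_ne hP hp2 (pow_hom d.2.1 (pow_inv (pow_kk S))) (fun h => h1 (eq_of_mul_inv' h))]
  have hp0 : (p : ℂ) ≠ 0 := by exact_mod_cast hp.out.ne_zero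
  field_simp
  ring

theorem inner_Psi_kk :
    classInner (tw (kk S) (trv (Cn P) : Cn P → ℂ)) (rs P (Psi ζ)) = (p : ℂ) - 3 := by
  rw [inner_Psi S hP hp2 hnn hodd hfaith hdeg hτ (pow_kk S), E_ne hP hp2 (pow_kk S) (kk_ne S hodd),
    E_ne hP hp2 (pow_hom (pow_kk S) (pow_kk S)) (kk_sq_ne S hodd), mul_inv', E_one hP hp2]
  have hp0 : (p : ℂ) ≠ 0 := by exact_mod_cast hp.out.ne_zero
  field_simp
  ring

/-- The sum of `ψ` over `P`. -/
theorem sum_Psi_P : ∑ u : P, Psi ζ u = (p : ℂ) * ((p : ℂ) - 2) := by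
  have h1 := sum_Psi S hP hp2 hnn hodd hfaith hdeg hτ (1 : Cn P →* ℂˣ)
  rw [E_one hP hp2, one_mul', one_mul', E_ne hP hp2 (pow_kk S) (kk_ne S hodd),
    E_ne hP hp2 (pow_inv (pow_kk S)) (inv_ne' (kk_ne S hodd))] at h1
  simp only [MonoidHom.one_apply, Units.val_one, one_mul, conj_Psi] at h1
  rw [h1]
  ring

end Inner

/-- The central character of members of `Y`. -/
theorem central_Y (hP : Nat.card P = p) (hp2 : ¬ p ^ 2 ∣ Nat.card G) (hnn : ¬ P.Normal)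
    (hdecC : ∀ c ∈ Cn P, ∃ u ∈ P, ∃ z ∈ Subgroup.center G, c = u * z)
    {θ : IrrCharacter (Cn P)} (hθ1 : (θ : Cn P → ℂ) 1 = 1)
    (hθP : ∀ x : Cn P, (x : G) ∈ P → (θ : Cn P → ℂ) x = (θ : Cn P → ℂ) 1) (F : Fam M P p θ)
    {χ : IrrCharacter G} (hχ : χ ∈ F.Y) {z : G} (hz : z ∈ Subgroup.center G) :
    (χ : G → ℂ) z = (θ : Cn P → ℂ) ⟨z, center_le_C hz⟩ * (χ : G → ℂ) 1 := by
  classical
  obtain ⟨d, hd⟩ := (F.hY χ).mp hχ
  have hχc := isCharacter_of_isIrrCharacter χ.2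
  have h1 := mult_Y F hχ d
  rw [if_pos hd] at h1
  rcases F.hε with h | h
  · refine central_of_inner hP hp2 hnn hdecC hθ1 hθP d.2.1 ?_ hz
    rw [← nn_cast (isCharacter_of_isIrrCharacter (isIrr_tw d.1 θ.2)) (isChar_rs (P := P) hχc)]
    rw [h] at h1
    have h2 : nn (tw d.1 (θ : Cn P → ℂ)) (rs P (χ : G → ℂ)) ≠ 0 := by
      intro h0
      rw [h0] at h1
      omega
    exact_mod_cast h2
  · refine central_of_inner hP hp2 hnn hdecC hθ1 hθP (κ := 1) (by simp) ?_ hz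
    rw [tw_one_eq, ← nn_cast (isCharacter_of_isIrrCharacter θ.2) (isChar_rs (P := P) hχc)]
    rw [h] at h1
    have h2 : nn (θ : Cn P → ℂ) (rs P (χ : G → ℂ)) ≠ 0 := by
      intro h0
      rw [h0] at h1
      omega
    exact_mod_cast h2

section Family

variable (S : S1 M P p ζ) (hP : Nat.card P = p) (hp2 : ¬ p ^ 2 ∣ Nat.card G) (hnn : ¬ P.Normal) (hodd : p ≠ 2)
  (hfaith : ∀ g, (ζ : G → ℂ) g = (ζ : G → ℂ) 1 → g = 1) (hdeg : charDegree (ζ : G → ℂ) + 2 = p)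
  {τ : G} (hτ : TauD P p ζ τ)
  (F₀ : Fam M P p (trv (Cn P))) {f : IrrCharacter G} (hne : trv G ≠ f) (hX : F₀.X = {trv G, f})
  (hε1 : F₀.εX (trv G) = 1) (h1 : F₀.ε = 1) (h2 : F₀.εX f = 1)

include hne hX hε1 h1 h2

omit [Fintype P] [Fintype (Subgroup.center G)] in
/-- The relation coming from the family. -/
theorem fam_rel (d : DD P p) :
    classInner (tw d.1 (trv (Cn P) : Cn P → ℂ)) (rs P (Psi ζ)) - classInner (trv (Cn P) : Cn P → ℂ) (rs P (Psi ζ)) =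
      -(1 + classInner (f : G → ℂ) (Psi ζ)) + classInner (F₀.ν d : G → ℂ) (Psi ζ) := by
  classical
  have h3 := classInner_Ws_eq (trv (Cn P) : Cn P → ℂ) d.1 (isClassFunction_of_isCharacter (isCharacter_Psi ζ))
  rw [← h3]
  have h4 : Ws P (trv (Cn P) : Cn P → ℂ) d.1 = (-(((trv G : G → ℂ)) + (f : G → ℂ))) + (F₀.ν d : G → ℂ) := by
    funext g
    rw [F₀.hval d g, hX, Finset.sum_pair hne, hε1, h2, h1]
    simp
  rw [h4, classInner_add_left, classInner_neg_left, classInner_add_left, inner_trv_Psi]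

include S hP hp2 hnn hodd hfaith hdeg hτ

/-- The multiplicities of `f` and `ν d₂` in `ψ` are positive. -/
theorem mult_pos (hp7 : 7 ≤ p) :
    classInner (f : G → ℂ) (Psi ζ) ≠ 0 ∧
      classInner (F₀.ν ⟨kk S, pow_kk S, kk_ne S hodd⟩ : G → ℂ) (Psi ζ) ≠ 0 := by
  classical
  obtain ⟨mf, hmf⟩ := exists_nat_classInner (isCharacter_of_isIrrCharacter f.2) (isCharacter_Psi ζ)
  have hone := inner_Psi_one S hP hp2 hnn hodd hfaith hdeg hτ
  -- a `d₃`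
  obtain ⟨d₃, -, hd₃⟩ := Finset.exists_mem_notMem_of_card_lt_card
    (s := ({⟨kk S, pow_kk S, kk_ne S hodd⟩, ⟨(kk S)⁻¹, pow_inv (pow_kk S), inv_ne' (kk_ne S hodd)⟩} : Finset (DD P p)))
    (t := Finset.univ) (by
      rw [Finset.card_univ, ← Nat.card_eq_fintype_card, card_DD hP hp2]
      have := Finset.card_le_two (a := (⟨kk S, pow_kk S, kk_ne S hodd⟩ : DD P p))
        (b := (⟨(kk S)⁻¹, pow_inv (pow_kk S), inv_ne' (kk_ne S hodd)⟩ : DD P p))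
      omega)
  have hd₃1 : d₃.1 ≠ kk S := fun h => hd₃ (by
    rw [Finset.mem_insert]
    exact Or.inl (Subtype.ext h))
  have hd₃2 : d₃.1 ≠ (kk S)⁻¹ := fun h => hd₃ (by
    rw [Finset.mem_insert, Finset.mem_singleton]
    exact Or.inr (Subtype.ext h))
  have h3 := fam_rel (ζ := ζ) F₀ hne hX hε1 h1 h2 d₃
  rw [inner_Psi_gen S hP hp2 hnn hodd hfaith hdeg hτ d₃ hd₃1 hd₃2, hone, hmf] at h3
  obtain ⟨n3, hn3⟩ := exists_nat_classInner (isCharacter_of_isIrrCharacter (F₀.ν d₃).2) (isCharacter_Psi ζ)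
  rw [hn3] at h3
  have h4 : (mf : ℂ) = ((n3 + 1 : ℕ) : ℂ) := by
    push_cast
    linear_combination h3
  have h5 : mf = n3 + 1 := by exact_mod_cast h4
  have h6 := fam_rel (ζ := ζ) F₀ hne hX hε1 h1 h2 ⟨kk S, pow_kk S, kk_ne S hodd⟩
  rw [inner_Psi_kk S hP hp2 hnn hodd hfaith hdeg hτ, hone, hmf] at h6
  obtain ⟨n2, hn2⟩ := exists_nat_classInner
    (isCharacter_of_isIrrCharacter (F₀.ν ⟨kk S, pow_kk S, kk_ne S hodd⟩).2) (isCharacter_Psi ζ)
  rw [hn2] at h6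
  have h7 : (n2 : ℂ) = (mf : ℂ) := by
    linear_combination -h6
  have h8 : n2 = mf := by exact_mod_cast h7
  rw [hmf, hn2, h8, h5]
  exact ⟨by exact_mod_cast Nat.succ_ne_zero n3, by exact_mod_cast Nat.succ_ne_zero n3⟩

/-- `ψ` minus three constituents is a character. -/
theorem D_char (hp7 : 7 ≤ p) :
    IsCharacter G (Psi ζ - (trv G : G → ℂ) - (f : G → ℂ) -
      (F₀.ν ⟨kk S, pow_kk S, kk_ne S hodd⟩ : G → ℂ)) := by
  classical
  obtain ⟨hm1, hm2⟩ := mult_pos S hP hp2 hnn hodd hfaith hdeg hτ F₀ hne hX hε1 h1 h2 hp7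
  set ν := F₀.ν ⟨kk S, pow_kk S, kk_ne S hodd⟩ with hν
  have hνY : ν ∈ F₀.Y := (F₀.hY _).mpr ⟨_, rfl⟩
  have ht : trv G ∈ F₀.X := by rw [hX]; simp
  have hf : f ∈ F₀.X := by rw [hX]; simp
  have hνt : ν ≠ trv G := fun h => Finset.disjoint_left.mp F₀.hdisj ht (h ▸ hνY)
  have hνf : ν ≠ f := fun h => Finset.disjoint_left.mp F₀.hdisj hf (h ▸ hνY)
  have hirr : ∀ a b : IrrCharacter G, a ≠ b → classInner (a : G → ℂ) (b : G → ℂ) = 0 := by
    intro a b hab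
    exact classInner_eq_zero_of_isIrr_of_ne a.2 b.2 (fun h => hab (Subtype.ext h))
  have h3 : IsCharacter G (Psi ζ - (trv G : G → ℂ)) := by
    apply isCharacter_sub_of_classInner_ne_zero (isCharacter_Psi ζ) (trv G).2
    apply classInner_ne_zero_comm
    rw [inner_trv_Psi]
    exact one_ne_zero
  have h4 : IsCharacter G (Psi ζ - (trv G : G → ℂ) - (f : G → ℂ)) := by
    apply isCharacter_sub_of_classInner_ne_zero h3 f.2
    apply classInner_ne_zero_comm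
    rw [← classInner_conj, classInner_sub_left, hirr _ _ hne, sub_zero]
    intro h0
    apply hm1
    have h5 := congrArg conj h0
    rw [map_zero, Complex.conj_conj] at h5
    rw [← classInner_conj, h5, map_zero]
  apply isCharacter_sub_of_classInner_ne_zero h4 ν.2
  apply classInner_ne_zero_comm
  rw [← classInner_conj, classInner_sub_left, classInner_sub_left, hirr _ _ hνt.symm, hirr _ _ hνf.symm, sub_zero,
    sub_zero]
  intro h0
  apply hm2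
  have h5 := congrArg conj h0
  rw [map_zero, Complex.conj_conj] at h5
  rw [← classInner_conj, h5, map_zero]

end Family

/-- The case `p = 7`. -/
theorem seven (S : S1 M P p ζ) (hP : Nat.card P = p) (hp2 : ¬ p ^ 2 ∣ Nat.card G) (hnn : ¬ P.Normal)
    (hfaith : ∀ g, (ζ : G → ℂ) g = (ζ : G → ℂ) 1 → g = 1) (hdeg : charDegree (ζ : G → ℂ) + 2 = p)
    {τ : G} (hτ : TauD P p ζ τ)
    (F₀ : Fam M P p (trv (Cn P))) {f : IrrCharacter G} (hne : trv G ≠ f) (hX : F₀.X = {trv G, f})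
    (hε1 : F₀.εX (trv G) = 1) (h1 : F₀.ε = 1) (h2 : F₀.εX f = 1) (he : F₀.e = 2) (hp7 : p = 7)
    {h : ℕ} (hh : 1 ≤ h) (hn : charDegree (f : G → ℂ) = 7 * h + 1)
    (hν : ∀ d, (charDegree (F₀.ν d : G → ℂ) : ℤ) = charDegree (f : G → ℂ) + 1)
    (hντ : ∀ d, (F₀.ν d : G → ℂ) τ = 1 + (f : G → ℂ) τ) :
    charDegree (f : G → ℂ) = 8 ∧ ‖1 + 2 * (f : G → ℂ) τ‖ ≤ 1 := by
  classical
  have hodd : p ≠ 2 := by omega
  have hD := D_char S hP hp2 hnn hodd hfaith hdeg hτ F₀ hne hX hε1 h1 h2 (by omega)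
  have hdecC := hdec S hP hp2 hfaith hdeg
  set d₂ : DD P p := ⟨kk S, pow_kk S, kk_ne S hodd⟩ with hd₂
  have hfc := isCharacter_of_isIrrCharacter f.2
  have hνc := isCharacter_of_isIrrCharacter (F₀.ν d₂).2
  -- degrees
  have h3 := charDegree_natCast hD
  have hf1 := charDegree_natCast hfc
  have hν1 := charDegree_natCast hνc
  have hνd : (charDegree (F₀.ν d₂ : G → ℂ) : ℂ) = (charDegree (f : G → ℂ) : ℂ) + 1 := by
    exact_mod_cast hν d₂
  simp only [Pi.sub_apply, Psi_one hdeg, trv_apply] at h3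
  have hp7c : (p : ℂ) = 7 := by
    rw [hp7]
    norm_num
  rw [← hf1, ← hν1, hνd, hp7c] at h3
  have h4 : ((charDegree (Psi ζ - (trv G : G → ℂ) - (f : G → ℂ) - (F₀.ν d₂ : G → ℂ)) + 2 * charDegree (f : G → ℂ) + 2 : ℕ) : ℂ) =
      ((25 : ℕ) : ℂ) := by
    push_cast at h3 ⊢
    rw [h3]
    ring
  have h5 : charDegree (Psi ζ - (trv G : G → ℂ) - (f : G → ℂ) - (F₀.ν d₂ : G → ℂ)) + 2 * charDegree (f : G → ℂ) + 2 = 25 := by
    exact_mod_cast h4
  have hn8 : charDegree (f : G → ℂ) = 8 := by omega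
  refine ⟨hn8, ?_⟩
  -- the sums over `P`
  have hfX : f ∈ F₀.X := by rw [hX]; simp
  have hνY : F₀.ν d₂ ∈ F₀.Y := (F₀.hY _).mpr ⟨d₂, rfl⟩
  have hθ1 : (trv (Cn P) : Cn P → ℂ) 1 = 1 := rfl
  have haf := deg_X hP hp2 hnn hdecC hθ1 trv_ker F₀ hodd hfX
  have hzν := fun z (hz : z ∈ Subgroup.center G) => central_Y hP hp2 hnn hdecC hθ1 trv_ker F₀ hνY hz
  have haν := deg_Y hP hp2 hnn hdecC hθ1 trv_ker F₀ hodd hzν hνY
  rw [hν d₂, hn8, he, h1] at haν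
  rw [hn8, h2, hp7] at haf
  have haf' : nn (trv (Cn P) : Cn P → ℂ) (rs P (f : G → ℂ)) = 2 := by
    push_cast at haf
    omega
  have haν' : nn (trv (Cn P) : Cn P → ℂ) (rs P (F₀.ν d₂ : G → ℂ)) = 1 := by
    have hp7z : (p : ℤ) = 7 := by
      rw [hp7]
      norm_num
    rw [hp7z] at haν
    push_cast at haν
    omega
  have hsf := sum_P hP hp2 hnn hdecC hθ1 trv_ker (χ := f)
    (fun z hz => central_X hP hp2 hnn hdecC hθ1 trv_ker F₀ hodd hfX hz)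
  have hsν := sum_P hP hp2 hnn hdecC hθ1 trv_ker (χ := F₀.ν d₂) hzν
  rw [haf', hP] at hsf
  rw [haν', hP] at hsν
  have hsψ := sum_Psi_P S hP hp2 hnn hodd hfaith hdeg hτ
  have hsum : ∑ u : P, (Psi ζ - (trv G : G → ℂ) - (f : G → ℂ) - (F₀.ν d₂ : G → ℂ)) u =
      (Nat.card P : ℂ) * ((1 : ℕ) : ℂ) := by
    simp only [Pi.sub_apply, trv_apply]
    rw [Finset.sum_sub_distrib, Finset.sum_sub_distrib, Finset.sum_sub_distrib, hsψ, hsf, hsν,
      Finset.sum_const, Finset.card_univ, ← Nat.card_eq_fintype_card, hP, hp7]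
    simp
    norm_num
  have hb := (norm_le hP hodd hτ.hinv hD hsum).1
  have hτv : (Psi ζ - (trv G : G → ℂ) - (f : G → ℂ) - (F₀.ν d₂ : G → ℂ)) τ = -(1 + 2 * (f : G → ℂ) τ) := by
    simp only [Pi.sub_apply, trv_apply]
    rw [Psi_eq_norm, hτ.hnorm, hντ]
    push_cast
    ring
  rw [hτv, norm_neg] at hb
  simpa using hb

/-- The case of a linear `f`. -/
theorem linear_tau (S : S1 M P p ζ) (hP : Nat.card P = p) (hp2 : ¬ p ^ 2 ∣ Nat.card G) (hnn : ¬ P.Normal)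
    (hodd : p ≠ 2)
    (hfaith : ∀ g, (ζ : G → ℂ) g = (ζ : G → ℂ) 1 → g = 1) (hdeg : charDegree (ζ : G → ℂ) + 2 = p)
    {τ : G} (hτ : TauD P p ζ τ)
    (F₀ : Fam M P p (trv (Cn P))) {f : IrrCharacter G} (hne : trv G ≠ f) (hX : F₀.X = {trv G, f})
    (hn : charDegree (f : G → ℂ) = 1) (ha : nn (trv (Cn P) : Cn P → ℂ) (rs P (f : G → ℂ)) = 1) :
    (f : G → ℂ) τ = -1 := by
  classical
  have hdecC := hdec S hP hp2 hfaith hdeg
  have hfc := isCharacter_of_isIrrCharacter f.2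
  have hfX : f ∈ F₀.X := by rw [hX]; simp
  have hθ1 : (trv (Cn P) : Cn P → ℂ) 1 = 1 := rfl
  have hf1 : (f : G → ℂ) 1 = 1 := by
    rw [← charDegree_natCast hfc, hn]
    simp
  obtain ⟨lam, hlam⟩ := exists_lam hfc hf1
  have hz : ∀ z ∈ Subgroup.center G, lam z = 1 := by
    intro z hz
    have h1 := central_X hP hp2 hnn hdecC hθ1 trv_ker F₀ hodd hfX hz
    rw [hf1, trv_apply, one_mul, hlam] at h1
    exact Units.ext h1
  have hu : ∀ u ∈ P, lam u = 1 := by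
    have hs := sum_P hP hp2 hnn hdecC hθ1 trv_ker (χ := f)
      (fun z hz => central_X hP hp2 hnn hdecC hθ1 trv_ker F₀ hodd hfX hz)
    rw [ha, hP] at hs
    simp only [hlam] at hs
    by_contra hcon
    push Not at hcon
    obtain ⟨u, hu, hu1⟩ := hcon
    have h2 : (Units.coeHom ℂ).comp (lam.comp P.subtype) ≠ 1 := by
      intro h
      apply hu1
      have := DFunLike.congr_fun h ⟨u, hu⟩
      exact Units.ext this
    have h3 := sum_hom_units_eq_zero ((Units.coeHom ℂ).comp (lam.comp P.subtype)) h2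
    have h4 : ∑ u : P, ((lam u : ℂˣ) : ℂ) = 0 := h3
    rw [h4] at hs
    have hp0 : (p : ℂ) ≠ 0 := by exact_mod_cast hp.out.ne_zero
    apply hp0
    simpa using hs.symm
  have h1 : lam τ * lam τ = 1 := by
    rw [← map_mul]
    exact hz _ hτ.hττ
  have h2 : (f : G → ℂ) τ * (f : G → ℂ) τ = 1 := by
    rw [hlam, ← Units.val_mul, h1]
    rfl
  rcases mul_self_eq_one_iff.mp h2 with h3 | h3
  · exfalso
    have h4 : lam τ = 1 := by
      rw [hlam] at h3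
      exact Units.ext h3
    -- trivial on the normalizer
    have hC : ∀ c ∈ Cn P, lam c = 1 := by
      intro c hc
      obtain ⟨u, hu', z, hz', rfl⟩ := hdecC c hc
      rw [map_mul, hu u hu', hz z hz', one_mul]
    have hN : ∀ x ∈ Nn P, lam x = 1 := by
      intro x hx
      by_cases hxC : x ∈ Cn P
      · exact hC x hxC
      · have hix := inv_of_not_mem hP hx hxC (mul_self_mem S.hf hx)
        have h5 : τ⁻¹ * x ∈ Cn P := by
          rw [Subgroup.mem_centralizer_iff]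
          intro w hw
          have h6 : (τ⁻¹ * x) * w * (τ⁻¹ * x)⁻¹ = w := by
            have h7 : (τ⁻¹ * x) * w * (τ⁻¹ * x)⁻¹ = τ⁻¹ * (x * w * x⁻¹) * τ := by group
            rw [h7, hix w hw]
            have h8 := hτ.hinv w hw
            rw [← h8]
            group
          calc w * (τ⁻¹ * x) = ((τ⁻¹ * x) * w * (τ⁻¹ * x)⁻¹) * (τ⁻¹ * x) := by rw [h6]
            _ = (τ⁻¹ * x) * w := by group
        have h6 := hC _ h5
        rw [map_mul, map_inv, h4, inv_one, one_mul] at h6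
        exact h6
    -- Frattini
    have hPp : IsPGroup p P := IsPGroup.of_card (n := 1) (by rw [hP, pow_one])
    have hndvd : ¬ p ∣ P.index := by
      intro h5
      apply hp2
      have h6 := P.card_mul_index
      rw [hP] at h6
      rw [← h6, pow_two]
      exact mul_dvd_mul_left p h5
    have hle : ((hPp.toSylow hndvd : Sylow p G) : Subgroup G) ≤ lam.ker := by
      intro u hu'
      exact hu u hu'
    have h5 := Sylow.normalizer_sup_eq_top' (hPp.toSylow hndvd) hle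
    have h6 : Subgroup.normalizer (↑(hPp.toSylow hndvd) : Set G) ≤ lam.ker := by
      intro x hx
      exact hN x hx
    apply hne
    apply Subtype.ext
    funext g
    have h7 : g ∈ lam.ker := by
      have h8 : g ∈ (⊤ : Subgroup G) := trivial
      rw [← h5] at h8
      exact (sup_le h6 le_rfl) h8
    rw [trv_apply, hlam, MonoidHom.mem_ker.mp h7]
    rfl
  · exact h3

end Cfsg.Agent.Lib.Blk89.DegP2G
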