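import Cfsg.Agent.Lib.Blk89.DegP2G

/-!
# Faithful irreducible characters of degree `p - 2`: a linear character with the central character of `ζ`
-/

set_option autoImplicit false
set_option linter.style.haveILetI false
set_option linter.unusedSectionVars false

namespace Cfsg.Agent.Lib.Blk89.DegP2H

open Cfsg
open Cfsg.Agent.Lib.Blocks.Local Cfsg.Agent.Lib.Blocks.Central Cfsg.Agent.Lib.Blocks.General
open Cfsg.Agent.Lib.Blocks.Induced
open Cfsg.Agent.Lib.Char.Induced Cfsg.Agent.Lib.Char.Ortho Cfsg.Agent.Lib.Char.Linear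
open Cfsg.Agent.Lib.Char.Basic Cfsg.Agent.Lib.Char.GenLattice Cfsg.Agent.Lib.Char.Complete
open Cfsg.Agent.Lib.Char.Degree
open Cfsg.Agent.Lib.ExcP.Gram Cfsg.Agent.Lib.ExcP.Inst Cfsg.Agent.Lib.ExcP.Dual
open Cfsg.Agent.Lib.ModRep.Prime Cfsg.Agent.Lib.ModRep.ThGram Cfsg.Agent.Lib.ModRep.ThIdem
open Cfsg.Agent.Lib.ModRep.ThDeg Cfsg.Agent.Lib.ModRep.Numerics2 Cfsg.Agent.Lib.ModRep.BlockTh
open Cfsg.Agent.Lib.CharDeep.BrauerDeg
open Cfsg.Agent.Lib.D1.CountN
open Cfsg.Agent.Lib.Blk89.DegP2A Cfsg.Agent.Lib.Blk89.DegP2C Cfsg.Agent.Lib.Blk89.DegP2D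
open Cfsg.Agent.Lib.Blk89.DegP2E Cfsg.Agent.Lib.Blk89.DegP2F Cfsg.Agent.Lib.Blk89.DegP2G
open Cfsg.Agent.Lib.Char.CentralCount Cfsg.Agent.Lib.Char.ClassSum Cfsg.Agent.Lib.Char.Clifford
open scoped ComplexConjugate

universe u

theorem Qk_le {p b y : ℝ} (hp : 7 ≤ p) (hb : 1 ≤ b) (hy : y = b * p + 1) {A B : ℂ} (hA : ‖A‖ ≤ b + 1) (hB : ‖B‖ = 1) :
    ‖A‖ ^ 2 / y + ‖B‖ ^ 2 / (p - 2) - ‖A + B‖ ^ 2 / (y + (p - 2)) ≤ (9 / 2) * (p - 1) ^ 2 / ((p - 2) * p ^ 2) := by
  subst hy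
  rw [Q_identity A B (by nlinarith) (by linarith)]
  exact upper hp hb hA hB

theorem contra_B {p h n : ℝ} (hp : 7 ≤ p) (hh : 0 ≤ h) (hn : n = (h + 1) * p - 1) {f : ℂ} (hf : ‖f‖ ≤ h)
    (hQ : ‖(n : ℂ) - f‖ ^ 2 / (n * (n - 1)) ≤ (9 / 2) * (p - 1) ^ 2 / ((p - 2) * p ^ 2)) : False := by
  subst hn
  have h1 := lower_B hp hh hf
  have h2 := compare_B hp
  linarith

theorem contra_A {p h n : ℝ} (hp : 11 ≤ p) (hh : 1 ≤ h) (hn : n = h * p + 1) {f : ℂ} (hf : ‖f‖ ≤ h + 1)
    (hQ : ‖(n : ℂ) - f‖ ^ 2 / (n * (1 + n)) ≤ (9 / 2) * (p - 1) ^ 2 / ((p - 2) * p ^ 2)) : False := by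
  subst hn
  have h1 := lower_A (p := p) (by linarith) hh hf
  have h2 := compare_A hp
  linarith

theorem prime_seven {p : ℕ} (h : p.Prime) (h7 : 7 ≤ p) (h11 : ¬ 11 ≤ p) : p = 7 := by
  have h5 : p ≤ 10 := by omega
  interval_cases p
  · rfl
  · exact absurd h (by norm_num)
  · exact absurd h (by norm_num)
  · exact absurd h (by norm_num)

variable {G : Type u} [Group G] [Fintype G] {p : ℕ} [hp : Fact p.Prime] {P : Subgroup G}
  [Fintype (Cn P)] [Fintype (Nn P)] [Fintype (DD P p)] [Fintype (IrrCharacter G)] [Fintype (IrrCharacter (Cn P))]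
  [Fintype P] [Fintype (Subgroup.center G)] {M : Ideal AlgInt} {ζ : IrrCharacter G}

set_option maxHeartbeats 1000000 in
/-- **The linear character.** -/
theorem deg_one (hM : IsPModular p M) (S : S1 M P p ζ) (hP : Nat.card P = p) (hp2 : ¬ p ^ 2 ∣ Nat.card G)
    (hnn : ¬ P.Normal) (hp7 : 7 ≤ p) (hfaith : ∀ g, (ζ : G → ℂ) g = (ζ : G → ℂ) 1 → g = 1)
    (hdeg : charDegree (ζ : G → ℂ) + 2 = p) {a b : IrrCharacter G} (hab : a ≠ b) (hX : S.F.X = {a, b})
    (hεa : S.F.εX a = 1) (hεb : S.F.εX b = -1)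
    (hdb : (charDegree (b : G → ℂ) : ℤ) = charDegree (a : G → ℂ) + (p - 2)) : charDegree (a : G → ℂ) = 1 := by
  classical
  by_contra hy1
  have hodd : p ≠ 2 := by omega
  have hdecC := hdec S hP hp2 hfaith hdeg
  obtain ⟨τ, hτ⟩ := exists_tau S hP hp2 hnn hodd hfaith hdeg
  obtain ⟨F₀, hF₀⟩ := exists_fam_e hM hP hp2 (trv (Cn P)) trv_ker
  have he₀ : F₀.e = 2 := by rw [hF₀, ee_trv, relIndex_two S.hf]
  obtain ⟨f, hne, hX₀, hε1⟩ := prin_pair F₀ he₀ hP hp2 hp7
  have hTT := TT_eq hP hp2 hodd hdecC hτ.hinv hτ.hττ hτ.hcl hτ.hcl' (th_one S) S.hθP S.F F₀ S.d₁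
  rw [kappa_TT S hab hX hεa hεb hdb hdeg hτ.hreg] at hTT
  have hp7R : (7 : ℝ) ≤ p := by exact_mod_cast hp7
  -- the upper bound
  have haX : a ∈ S.F.X := by rw [hX]; simp
  have hda := deg_X hP hp2 hnn hdecC (th_one S) S.hθP S.F hodd haX
  rw [hεa] at hda
  have hdpos : 1 ≤ charDegree (a : G → ℂ) := charDegree_pos a.2
  set A := nn (S.θ : Cn P → ℂ) (rs P (a : G → ℂ)) with hA
  have hpZ : (7 : ℤ) ≤ p := by exact_mod_cast hp7
  have hA2 : 2 ≤ A := by
    by_contra hcon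
    have h1 : A = 0 ∨ A = 1 := by omega
    rcases h1 with h1 | h1
    · rw [h1] at hda
      push_cast at hda
      have hd' : (1 : ℤ) ≤ charDegree (a : G → ℂ) := by exact_mod_cast hdpos
      linarith
    · rw [h1] at hda
      push_cast at hda
      apply hy1
      have : (charDegree (a : G → ℂ) : ℤ) = 1 := by linarith
      exact_mod_cast this
  obtain ⟨b', hb'⟩ : ∃ b' : ℕ, A = b' + 1 := ⟨A - 1, by omega⟩
  have hb1 : (1 : ℝ) ≤ b' := by
    have : 1 ≤ b' := by omega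
    exact_mod_cast this
  have hy : (charDegree (a : G → ℂ) : ℝ) = (b' : ℝ) * p + 1 := by
    have h1 : (charDegree (a : G → ℂ) : ℤ) = (b' : ℤ) * p + 1 := by
      rw [hda, hb']
      push_cast
      ring
    exact_mod_cast h1
  have hsa := sum_P hP hp2 hnn hdecC (th_one S) S.hθP (χ := a)
    (fun z hz => central_X hP hp2 hnn hdecC (th_one S) S.hθP S.F hodd haX hz)
  have hna := (norm_le hP hodd hτ.hinv (isCharacter_of_isIrrCharacter a.2) hsa).1
  rw [← hA, hb'] at hna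
  push_cast at hna
  have hQ := Qk_le hp7R hb1 hy hna hτ.hnorm
  -- the principal family
  have hfX : f ∈ F₀.X := by rw [hX₀]; simp
  have hθ1 : (trv (Cn P) : Cn P → ℂ) 1 = 1 := rfl
  have hdf := deg_X hP hp2 hnn hdecC hθ1 trv_ker F₀ hodd hfX
  have hsf := sum_P hP hp2 hnn hdecC hθ1 trv_ker (χ := f)
    (fun z hz => central_X hP hp2 hnn hdecC hθ1 trv_ker F₀ hodd hfX hz)
  have hnf := (norm_le hP hodd hτ.hinv (isCharacter_of_isIrrCharacter f.2) hsf).1
  set Af := nn (trv (Cn P) : Cn P → ℂ) (rs P (f : G → ℂ)) with hAf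
  rcases prin_cases F₀ hne hX₀ hε1 S.d₁ hτ.hreg with ⟨h1, h2, h3, h4⟩ | ⟨h1, h2, h3, h4⟩
  · -- the case `ε = 1`
    rw [prin_TT_A F₀ hne hX₀ hε1 S.d₁ h1 h2 h3 h4] at hTT
    have hTT' := neg_inj.mp (Complex.ofReal_injective hTT)
    rw [hTT'] at hQ
    rw [h2] at hdf
    have hfpos : 1 ≤ charDegree (f : G → ℂ) := charDegree_pos f.2
    have hAf1 : 1 ≤ Af := by
      by_contra hcon
      have h5 : Af = 0 := by omega
      rw [h5] at hdf
      push_cast at hdf
      have hd' : (1 : ℤ) ≤ charDegree (f : G → ℂ) := by exact_mod_cast hfpos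
      linarith
    obtain ⟨h', hh'⟩ : ∃ h' : ℕ, Af = h' + 1 := ⟨Af - 1, by omega⟩
    have hn₁ : (charDegree (f : G → ℂ) : ℤ) = (h' : ℤ) * p + 1 := by
      rw [hdf, hh']
      push_cast
      ring
    have hn₁R : (charDegree (f : G → ℂ) : ℝ) = (h' : ℝ) * p + 1 := by exact_mod_cast hn₁
    rw [hh'] at hnf
    push_cast at hnf
    rcases Nat.eq_zero_or_pos h' with h0 | h0
    · -- `f` is linear
      subst h0
      have hn1 : charDegree (f : G → ℂ) = 1 := by
        have : (charDegree (f : G → ℂ) : ℤ) = 1 := by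
          rw [hn₁]
          ring
        exact_mod_cast this
      have hf1 := linear_tau S hP hp2 hnn hodd hfaith hdeg hτ F₀ hne hX₀ hn1 (by rw [← hAf, hh'])
      rw [hn1, hf1] at hQ
      have h5 := compare_two hp7R
      norm_num at hQ
      linarith
    · have hh1 : (1 : ℝ) ≤ h' := by exact_mod_cast h0
      by_cases hp11 : 11 ≤ p
      · have hp11R : (11 : ℝ) ≤ p := by exact_mod_cast hp11
        exact contra_A hp11R hh1 hn₁R hnf hQ
      · -- `p = 7`
        have hpe : p = 7 := prime_seven hp.out hp7 hp11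
        have hn' : charDegree (f : G → ℂ) = 7 * h' + 1 := by
          have h5 : (charDegree (f : G → ℂ) : ℤ) = 7 * (h' : ℤ) + 1 := by
            rw [hn₁]
            have hp7z : (p : ℤ) = 7 := by
              rw [hpe]
              norm_num
            rw [hp7z]
            ring
          exact_mod_cast h5
        have hνd : ∀ d, (charDegree (F₀.ν d : G → ℂ) : ℤ) = charDegree (f : G → ℂ) + 1 := by
          intro d
          have h5 := sum_deg F₀ d hne hX₀
          have hdt : charDegree (trv G : G → ℂ) = 1 := by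
            have h3 := charDegree_natCast (isCharacter_of_isIrrCharacter (trv G).2)
            rw [trv_apply] at h3
            exact_mod_cast h3
          rw [hε1, h2, h1, hdt] at h5
          push_cast at h5
          linarith
        have hντ : ∀ d, (F₀.ν d : G → ℂ) τ = 1 + (f : G → ℂ) τ := by
          intro d
          have h5 := sum_tau F₀ d hne hX₀ hτ.hreg
          rw [hε1, h2, h1, trv_apply] at h5
          push_cast at h5
          linear_combination -h5
        obtain ⟨h8, hb2⟩ := seven S hP hp2 hnn hfaith hdeg hτ F₀ hne hX₀ hε1 h1 h2 he₀ hpe h0 hn' hνd hντ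
        have hre := re_le_of_norm hb2
        have hlow := lower_seven hre
        have h8R : (charDegree (f : G → ℂ) : ℝ) = 8 := by
          rw [h8]
          norm_num
        rw [h8R] at hQ
        have hcmp := compare_seven
        have hpR : (p : ℝ) = 7 := by
          rw [hpe]
          norm_num
        rw [hpR] at hQ
        linarith
  · -- the case `ε = -1`
    obtain ⟨h5, h6⟩ := prin_TT_B F₀ hne hX₀ hε1 S.d₁ h1 h2 h3 h4
    rw [h6] at hTT
    have hTT' := neg_inj.mp (Complex.ofReal_injective hTT)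
    rw [hTT'] at hQ
    rw [h2] at hdf
    have hn₁ : (charDegree (f : G → ℂ) : ℝ) = ((Af : ℝ) + 1) * p - 1 := by
      have : (charDegree (f : G → ℂ) : ℤ) = ((Af : ℤ) + 1) * p - 1 := by
        rw [hdf]
        ring
      exact_mod_cast this
    exact contra_B hp7R (Nat.cast_nonneg _) hn₁ hnf hQ

/-- The existence of the linear character. -/
theorem exists_linear (hM : IsPModular p M) (S : S1 M P p ζ) (hP : Nat.card P = p) (hp2 : ¬ p ^ 2 ∣ Nat.card G)
    (hnn : ¬ P.Normal) (hp7 : 7 ≤ p) (hfaith : ∀ g, (ζ : G → ℂ) g = (ζ : G → ℂ) 1 → g = 1)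
    (hdeg : charDegree (ζ : G → ℂ) + 2 = p) :
    ∃ a : IrrCharacter G, charDegree (a : G → ℂ) = 1 ∧
      (∀ u ∈ P, (a : G → ℂ) u = 1) ∧
      ∀ z (hz : z ∈ Subgroup.center G), (a : G → ℂ) z = (S.θ : Cn P → ℂ) ⟨z, center_le_C hz⟩ := by
  classical
  have hodd : p ≠ 2 := by omega
  have hdecC := hdec S hP hp2 hfaith hdeg
  obtain ⟨a, b, hab, hX, hεa, hεb, hdb⟩ := kappa_pair S hP hp2 hnn hodd hfaith hdeg
  have hd1 := deg_one hM S hP hp2 hnn hp7 hfaith hdeg hab hX hεa hεb hdb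
  have hac := isCharacter_of_isIrrCharacter a.2
  have ha1 : (a : G → ℂ) 1 = 1 := by
    rw [← charDegree_natCast hac, hd1]
    simp
  have haX : a ∈ S.F.X := by rw [hX]; simp
  have hcz := fun z (hz : z ∈ Subgroup.center G) => central_X hP hp2 hnn hdecC (th_one S) S.hθP S.F hodd haX hz
  refine ⟨a, hd1, ?_, fun z hz => ?_⟩
  · have hda := deg_X hP hp2 hnn hdecC (th_one S) S.hθP S.F hodd haX
    rw [hεa, hd1] at hda
    have hA : nn (S.θ : Cn P → ℂ) (rs P (a : G → ℂ)) = 1 := by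
      have hpZ : (7 : ℤ) ≤ p := by exact_mod_cast hp7
      have h1 : (p : ℤ) * nn (S.θ : Cn P → ℂ) (rs P (a : G → ℂ)) = p * 1 := by
        push_cast at hda
        linarith
      have h2 := mul_left_cancel₀ (by omega : (p : ℤ) ≠ 0) h1
      exact_mod_cast h2
    have hs := sum_P hP hp2 hnn hdecC (th_one S) S.hθP (χ := a) hcz
    rw [hA, hP] at hs
    obtain ⟨lam, hlam⟩ := exists_lam hac ha1
    simp only [hlam] at hs
    intro u hu
    rw [hlam]
    by_contra hcon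
    have h2 : (Units.coeHom ℂ).comp (lam.comp P.subtype) ≠ 1 := by
      intro h
      apply hcon
      have := DFunLike.congr_fun h ⟨u, hu⟩
      exact this
    have h3 := sum_hom_units_eq_zero ((Units.coeHom ℂ).comp (lam.comp P.subtype)) h2
    have h4 : ∑ u : P, ((lam u : ℂˣ) : ℂ) = 0 := h3
    rw [h4] at hs
    have hp0 : (p : ℂ) ≠ 0 := by exact_mod_cast hp.out.ne_zero
    apply hp0
    simpa using hs.symm
  · rw [hcz z hz, ha1, mul_one]

end Cfsg.Agent.Lib.Blk89.DegP2H
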