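import Cfsg.Agent.Lib.BrauerP.TwoE.Z1
import Cfsg.Agent.Lib.BrauerP.Main
import Cfsg.Agent.Lib.AutCl.PSLCoreF
import Cfsg.Agent.Lib.CAInv.CaseI2

/-!
# A group with a self-centralizing subgroup of prime order `p`, `|N(P)| = 2 p` and a faithful irreducible character of
degree `p - 2` containing the trivial character of `P` once
-/

set_option autoImplicit false
set_option linter.style.haveILetI false
set_option linter.unusedSectionVars false
set_option linter.unusedVariables false

namespace Cfsg.Agent.Lib.Blk89.DegP2I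

open Cfsg Module MulAction
open Cfsg.Agent.Lib.Char.Basic Cfsg.Agent.Lib.Char.Ortho Cfsg.Agent.Lib.Char.Complete
open Cfsg.Agent.Lib.Char.Degree Cfsg.Agent.Lib.Char.Induced
open Cfsg.Agent.Lib.ExcP.Gram Cfsg.Agent.Lib.ExcP.Dual Cfsg.Agent.Lib.ExcP.Core
open Cfsg.Agent.Lib.ExcP.Inst Cfsg.Agent.Lib.ExcP.BlockHA
open Cfsg.Agent.Lib.BrauerP.Data Cfsg.Agent.Lib.BrauerP.Data.BD Cfsg.Agent.Lib.BrauerP.Frob
open Cfsg.Agent.Lib.BrauerP.Fourier Cfsg.Agent.Lib.BrauerP.Tuan Cfsg.Agent.Lib.BrauerP.TwoE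
open scoped ComplexConjugate

universe u

open scoped _root_.Classical

theorem charP_two_of_card {F : Type} [Field F] [Fintype F] {m : ℕ} (hF : Fintype.card F = 2 ^ m) : CharP F 2 := by
  obtain ⟨q, hq⟩ := CharP.exists F
  obtain ⟨n, hprime, hcard⟩ := FiniteField.card F q
  have h1 : q ∣ 2 ^ m := by
    rw [← hF, hcard]
    exact dvd_pow_self q n.ne_zero
  have h2 := (Nat.prime_dvd_prime_iff_eq hprime Nat.prime_two).mp (hprime.dvd_of_dvd_pow h1)
  rw [h2] at hq
  exact hq

/-- **The main part.** -/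
theorem quot_main {H : Type u} [Group H] [Finite H] {p : ℕ} [hp : Fact p.Prime] (hp7 : 7 ≤ p) {Q : Subgroup H}
    (hQ : Nat.card Q = p) (hp2 : ¬ p ^ 2 ∣ Nat.card H) (hC : Cn Q = Q) (hN : Nat.card (Nn Q) = p * 2) {τ : H}
    (hττ : τ * τ = 1) (hinv : ∀ u ∈ Q, τ * u * τ⁻¹ = u⁻¹) (ξ : H → ℂ) (hξ : IsIrrCharacter H ξ)
    (hdeg : charDegree ξ + 2 = p) (hfaith : ∀ g, ξ g = ξ 1 → g = 1) [Fintype Q]
    (hsum : ∑ u : Q, ξ u = p) :
    commutator H = ⊤ ∧ ∃ (m : ℕ) (F : Type) (_ : Field F) (_ : Fintype F), Fintype.card F = 2 ^ m ∧ p = 2 ^ m + 1 ∧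
      Nonempty (H ≃* Matrix.SpecialLinearGroup (Fin 2) F) := by
  classical
  let _ : Fintype H := Fintype.ofFinite H
  have := finite_irrCharacter (G := H)
  let _ := Fintype.ofFinite (IrrCharacter H)
  have hodd : p ≠ 2 := by omega
  have hCc : Nat.card (Cn Q) = p := by
    rw [← hQ]
    exact Nat.card_congr (Equiv.setCongr (by rw [hC]))
  have hNe : Nat.card (Nn Q) = 2 * Nat.card (Cn Q) := by rw [hCc, hN, mul_comm]
  have hCN : Cn Q ≤ Nn Q := Subgroup.centralizer_le_normalizer _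
  have hrel : (Cn Q).relIndex (Nn Q) = 2 := by
    have h1 := Subgroup.card_mul_index ((Cn Q).subgroupOf (Nn Q))
    have h2 : Nat.card ((Cn Q).subgroupOf (Nn Q)) = Nat.card (Cn Q) :=
      Nat.card_congr (Subgroup.subgroupOfEquivOfLe hCN).toEquiv
    rw [h2, hNe] at h1
    have h3 : Nat.card (Cn Q) * ((Cn Q).subgroupOf (Nn Q)).index = Nat.card (Cn Q) * 2 := by
      rw [h1, mul_comm]
    exact Nat.eq_of_mul_eq_mul_left Nat.card_pos h3
  obtain ⟨M, hM⟩ := Cfsg.Agent.Lib.BlockH.Basic.exists_isPModular hp.out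
  have := finite_DD (p := p) (P := Q) hQ hp2
  let _ : Fintype (DD Q p) := Fintype.ofFinite _
  -- the Sylow subgroup
  have hPp : IsPGroup p Q := IsPGroup.of_card (n := 1) (by rw [hQ, pow_one])
  have hndvd : ¬ p ∣ Q.index := by
    intro h5
    apply hp2
    have h6 := Q.card_mul_index
    rw [hQ] at h6
    rw [← h6, pow_two]
    exact mul_dvd_mul_left p h5
  let Q₀ : Sylow p H := hPp.toSylow hndvd
  have hQ₀ : (Q₀ : Subgroup H) = Q := rfl
  have hcount : Nat.card (principalBlock M H) = 2 + (p - 1) / 2 :=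
    (Cfsg.Agent.S0960.result p M hM hodd Q₀ hQ 2 hrel).1
  obtain ⟨D⟩ := exists_BD hM hQ hp2 2 hNe hodd hcount
  -- classification of `ξ`
  let ξ' : IrrCharacter H := ⟨ξ, hξ⟩
  have hξ' : (ξ' : H → ℂ) = ξ := rfl
  have haP : aP (hP := hQ) hp2 ξ' = 1 := by
    have h1 := sum_P_eq (hP := hQ) hp2 ξ'
    rw [hξ', hsum] at h1
    have hp0 : (p : ℂ) ≠ 0 := by exact_mod_cast hp.out.ne_zero
    have h2 : ((aP (hP := hQ) hp2 ξ' : ℕ) : ℂ) = ((1 : ℕ) : ℂ) := by
      apply mul_left_cancel₀ hp0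
      rw [← h1]
      simp
    exact_mod_cast h2
  have hdZ : (charDegree ξ : ℤ) = (p : ℤ) - 2 := by
    rw [← hdeg]
    push_cast
    ring
  have hpZ : (7 : ℤ) ≤ p := by exact_mod_cast hp7
  have hzξ : D.z ξ' = 0 := by
    by_contra hne
    have h1 := D.deg_z hp2 hne
    rw [haP, hξ', hdZ] at h1
    rcases D.hz ξ' with h | h | h
    · exact hne h
    · rw [h] at h1
      push_cast at h1
      linarith
    · rw [h] at h1
      push_cast at h1
      linarith
  have hrξ : ξ' ∈ Set.range D.ν := by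
    by_contra hne
    have h1 := D.deg_other hp2 hC hzξ hne
    rw [haP, hξ', mul_one] at h1
    omega
  obtain ⟨i₀, hi₀⟩ := hrξ
  have hD₀ : D.D₀ = p - 2 := by
    rw [← D.hνdeg i₀, hi₀, hξ']
    omega
  have hε : D.ε = -1 := by
    have h1 := D.deg_ν hp2 i₀
    rw [hi₀, haP, hD₀, Nat.cast_sub (by omega)] at h1
    push_cast at h1
    linarith
  -- the sets
  have hcardAB := card_setA_add D
  have hrel' := rel_minus D hp2 hε
  have hAB : (setA D).card = 0 ∧ (setB D).card = 1 := by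
    rcases Nat.eq_zero_or_pos (setB D).card with h | h
    · exfalso
      have hB0 : setB D = ∅ := Finset.card_eq_zero.mp h
      rw [hB0, Finset.sum_empty] at hrel'
      have h2 : (0 : ℤ) ≤ ((∑ j ∈ setA D, charDegree (j : H → ℂ) : ℕ) : ℤ) := Int.natCast_nonneg _
      have h3 : (0 : ℤ) ≤ (D.D₀ : ℤ) := Int.natCast_nonneg _
      push_cast at hrel' h2
      linarith
    · omega
  have hA : setA D = ∅ := Finset.card_eq_zero.mp hAB.1
  obtain ⟨F, hB⟩ := Finset.card_eq_one.mp hAB.2
  have hdF : charDegree (F : H → ℂ) = p - 1 := by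
    rw [hA, hB, Finset.sum_empty, Finset.sum_singleton, hD₀, Nat.cast_sub (by omega)] at hrel'
    have h1 : (charDegree (F : H → ℂ) : ℤ) = ((p - 1 : ℕ) : ℤ) := by
      rw [hrel', Nat.cast_sub (by omega)]
      push_cast
      ring
    exact_mod_cast h1
  have hFc := isCharacter_of_isIrrCharacter F.2
  have hfF : ∀ g : H, (F : H → ℂ) g = (p : ℂ) - 1 → g = 1 := by
    intro g hg
    by_cases hgp : p ∣ orderOf g
    · exfalso
      rw [F_sing D hp2 hC hB hgp] at hg
      have hp0 : (p : ℂ) ≠ 0 := by exact_mod_cast hp.out.ne_zero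
      exact hp0 (by linear_combination -hg)
    · have h1 := ν_eq D hε hA hB i₀ hgp
      rw [hi₀, hξ', hg] at h1
      apply hfaith
      have hpc : (p : ℂ) = (charDegree ξ : ℂ) + 2 := by exact_mod_cast hdeg.symm
      rw [h1, ← charDegree_natCast (isCharacter_of_isIrrCharacter hξ), hpc]
      ring
  have hcard := card_G D hp2 hC hε hA hB hdF hττ hinv hodd hfF
  -- perfectness
  have hperf : commutator H = ⊤ := by
    have h1 := Cfsg.Agent.Lib.Char.Linear.card_linear_eq_index (G := H)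
    have h2 : Nat.card {χ : IrrCharacter H // (χ : H → ℂ) 1 = 1} = 1 := by
      have : Unique {χ : IrrCharacter H // (χ : H → ℂ) 1 = 1} := by
        refine ⟨⟨⟨oneIrr H, rfl⟩⟩, ?_⟩
        rintro ⟨χ, hχ⟩
        apply Subtype.ext
        show χ = oneIrr H
        have hdχ : charDegree (χ : H → ℂ) = 1 := by
          have h3 := charDegree_natCast (isCharacter_of_isIrrCharacter χ.2)
          rw [hχ] at h3
          exact_mod_cast h3
        by_contra hne
        obtain ⟨u, hu⟩ := Cfsg.Agent.Lib.BrauerP.Data.exists_ne_one hQ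
        by_cases hz : D.z χ = 0
        · by_cases hr : χ ∈ Set.range D.ν
          · obtain ⟨i, hi⟩ := hr
            have h3 := D.hνdeg i
            rw [hi, hdχ, hD₀] at h3
            omega
          · have h3 := D.deg_other hp2 hC hz hr
            rw [hdχ] at h3
            have h4 : p ∣ 1 := ⟨_, h3⟩
            exact hp.out.one_lt.ne' (Nat.dvd_one.mp h4)
        · rcases D.hz χ with h | h | h
          · exact hz h
          · have h3 : χ ∈ setB D := Finset.mem_filter.mpr ⟨Finset.mem_univ _, h⟩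
            rw [hB, Finset.mem_singleton] at h3
            rw [h3, hdF] at hdχ
            omega
          · have h3 : χ ∈ setA D := Finset.mem_filter.mpr ⟨Finset.mem_univ _, h, hne⟩
            rw [hA] at h3
            simp at h3
      exact Nat.card_unique
    rw [h2] at h1
    exact Subgroup.index_eq_one.mp h1.symm
  refine ⟨hperf, ?_⟩
  -- the number of Sylow subgroups
  have hSyl : 2 * Nat.card (Sylow p H) < (p + 1) * (p + 2) := by
    have h1 := Sylow.card_eq_index_normalizer Q₀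
    have h2 := Subgroup.card_mul_index (Subgroup.normalizer (Q₀ : Set H))
    have h3 : Nat.card (Subgroup.normalizer (Q₀ : Set H)) = p * 2 := hN
    rw [h3, hcard] at h2
    rw [h1]
    have h4 : 2 * (Subgroup.normalizer (Q₀ : Set H)).index = (p - 1) * (p - 2) := by
      have h5 : p * (2 * (Subgroup.normalizer (Q₀ : Set H)).index) = p * ((p - 1) * (p - 2)) := by
        calc p * (2 * (Subgroup.normalizer (Q₀ : Set H)).index) = p * 2 * (Subgroup.normalizer (Q₀ : Set H)).index := by ring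
          _ = p * (p - 1) * (p - 2) := h2
          _ = _ := by ring
      exact Nat.eq_of_mul_eq_mul_left hp.out.pos h5
    rw [h4]
    have h6 : p - 1 < p + 1 := by omega
    have h7 : p - 2 < p + 2 := by omega
    exact Nat.mul_lt_mul'' h6 h7
  -- the element `z`
  obtain ⟨u, hu⟩ := Cfsg.Agent.Lib.BrauerP.Data.exists_ne_one hQ
  have hu' : (u : H) ≠ 1 := fun h => hu (Subtype.ext h)
  have hzp := eq_zpowers_of_mem hQ u.2 hu'
  have hz : orderOf (u : H) = p := by
    have h1 : Nat.card (Subgroup.zpowers (u : H)) = p := by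
      rw [← hzp]
      exact hQ
    rwa [Nat.card_zpowers] at h1
  have hCz : Subgroup.centralizer ({(u : H)} : Set H) = Subgroup.zpowers (u : H) := by
    rw [← centralizer_singleton_eq hQ u.2 hu', hC, ← hzp]
  rcases Cfsg.Agent.Lib.BrauerP.Main.main hperf (u : H) hz hCz hSyl with
    ⟨F₀, i1, i2, hF, h3, ⟨e⟩⟩ | ⟨m, F₀, i1, i2, hF, hpm, h3, ⟨e⟩⟩
  · exfalso
    have h1 := Cfsg.Agent.Lib.AutCl.PSLCoreF.card_psl2 (F₀ := F₀)
    rw [← Nat.card_congr e.toEquiv, hcard, hF] at h1
    have h2 : Nat.gcd 2 (p - 1) = 2 := by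
      apply Nat.gcd_eq_left
      rcases hp.out.eq_two_or_odd with h | h
      · exact absurd h hodd
      · omega
    rw [h2] at h1
    have h4 : p * (p - 1) * (2 * (p - 2)) = p * (p - 1) * (p + 1) := by
      calc p * (p - 1) * (2 * (p - 2)) = 2 * (p * (p - 1) * (p - 2)) := by ring
        _ = (p + 1) * p * (p - 1) := h1
        _ = _ := by ring
    have h5 : 0 < p * (p - 1) := Nat.mul_pos hp.out.pos (by omega)
    have h6 := Nat.eq_of_mul_eq_mul_left h5 h4
    omega
  · haveI := charP_two_of_card hF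
    obtain ⟨e'⟩ := Cfsg.Agent.Lib.CAInv.CaseI2.psl_equiv_sl F₀
    exact ⟨m, F₀, i1, i2, hF, hpm, ⟨e.trans e'⟩⟩

end Cfsg.Agent.Lib.Blk89.DegP2I
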