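import Cfsg.Agent.Lib.Blk89.DegP2H
import Cfsg.Agent.Lib.Blk89.DegP2I

/-!
# Faithful irreducible characters of degree `p - 2`: the quotient by the centre
-/

set_option autoImplicit false
set_option linter.style.haveILetI false
set_option linter.unusedSectionVars false

namespace Cfsg.Agent.Lib.Blk89.DegP2J

open Cfsg
open Cfsg.Agent.Lib.Blocks.Local Cfsg.Agent.Lib.Blocks.Central Cfsg.Agent.Lib.Blocks.General
open Cfsg.Agent.Lib.Blocks.Induced
open Cfsg.Agent.Lib.Char.Induced Cfsg.Agent.Lib.Char.Ortho Cfsg.Agent.Lib.Char.Linear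
open Cfsg.Agent.Lib.Char.Basic Cfsg.Agent.Lib.Char.GenLattice Cfsg.Agent.Lib.Char.Complete
open Cfsg.Agent.Lib.Char.Degree
open Cfsg.Agent.Lib.ExcP.Gram Cfsg.Agent.Lib.ExcP.Inst Cfsg.Agent.Lib.ExcP.Dual
open Cfsg.Agent.Lib.ModRep.Prime Cfsg.Agent.Lib.ModRep.ThGram Cfsg.Agent.Lib.ModRep.ThIdem
open Cfsg.Agent.Lib.ModRep.ThDeg Cfsg.Agent.Lib.ModRep.Numerics2 Cfsg.Agent.Lib.ModRep.BlockTh
open Cfsg.Agent.Lib.CharDeep.BrauerDeg
open Cfsg.Agent.Lib.D1.CountN
open Cfsg.Agent.Lib.Blk89.DegP2A Cfsg.Agent.Lib.Blk89.DegP2C Cfsg.Agent.Lib.Blk89.DegP2D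
open Cfsg.Agent.Lib.Blk89.DegP2E Cfsg.Agent.Lib.Blk89.DegP2F Cfsg.Agent.Lib.Blk89.DegP2G Cfsg.Agent.Lib.Blk89.DegP2H
open Cfsg.Agent.Lib.Char.CentralCount Cfsg.Agent.Lib.Char.ClassSum Cfsg.Agent.Lib.Char.Clifford
open scoped ComplexConjugate

universe u

section Mul

variable {G : Type u} [Group G]

/-- The central quotient. -/
abbrev Zq (G : Type u) [Group G] : Type u := G ⧸ Subgroup.center G

/-- The projection. -/
abbrev pi (G : Type u) [Group G] : G →* Zq G := QuotientGroup.mk' (Subgroup.center G)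

theorem pi_eq_one {z : G} : pi G z = 1 ↔ z ∈ Subgroup.center G := QuotientGroup.eq_one_iff z

theorem pi_surj : Function.Surjective (pi G) := QuotientGroup.mk'_surjective _

/-- The multiplication map. -/
def mulLZ (L : Subgroup G) : L × Subgroup.center G →* G where
  toFun x := (x.1 : G) * (x.2 : G)
  map_one' := by simp
  map_mul' x y := by
    have h : (y.1 : G) * (x.2 : G) = (x.2 : G) * (y.1 : G) := Subgroup.mem_center_iff.mp x.2.2 y.1
    show (x.1 : G) * y.1 * (x.2 * y.2) = x.1 * x.2 * (y.1 * y.2)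
    calc (x.1 : G) * y.1 * (x.2 * y.2) = x.1 * (y.1 * x.2) * y.2 := by group
      _ = x.1 * (x.2 * y.1) * y.2 := by rw [h]
      _ = _ := by group

/-- The direct decomposition. -/
theorem equiv_prod {S : Type} [Group S] {L : Subgroup G} (hL : ∀ k ∈ L, k ∈ Subgroup.center G → k = 1)
    (hgen : ∀ g, ∃ l ∈ L, ∃ z ∈ Subgroup.center G, g = l * z) (e : Zq G ≃* S) :
    Nonempty (G ≃* S × Subgroup.center G) := by
  have hb : Function.Bijective (mulLZ L) := by
    constructor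
    · rw [injective_iff_map_eq_one]
      rintro ⟨l, z⟩ h
      have h1 : (l : G) * (z : G) = 1 := h
      have h2 : (l : G) ∈ Subgroup.center G := by
        have h3 : (l : G) = (z : G)⁻¹ := eq_inv_of_mul_eq_one_left h1
        rw [h3]
        exact Subgroup.inv_mem _ z.2
      have h3 := hL l l.2 h2
      have h4 : (z : G) = 1 := by
        rw [h3, one_mul] at h1
        exact h1
      rw [Prod.mk_eq_one]
      exact ⟨Subtype.ext h3, Subtype.ext h4⟩
    · intro g
      obtain ⟨l, hl, z, hz, h⟩ := hgen g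
      exact ⟨(⟨l, hl⟩, ⟨z, hz⟩), h.symm⟩
  have hb2 : Function.Bijective ((pi G).comp L.subtype) := by
    constructor
    · rw [injective_iff_map_eq_one]
      intro k hk
      have h1 : (k : G) ∈ Subgroup.center G := pi_eq_one.mp hk
      exact Subtype.ext (hL k k.2 h1)
    · intro x
      obtain ⟨g, rfl⟩ := pi_surj x
      obtain ⟨l, hl, z, hz, h⟩ := hgen g
      refine ⟨⟨l, hl⟩, ?_⟩
      show pi G l = pi G g
      rw [h, map_mul, pi_eq_one.mpr hz, mul_one]
  exact ⟨(MulEquiv.ofBijective _ hb).symm.trans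
    (MulEquiv.prodCongr ((MulEquiv.ofBijective _ hb2).trans e) (MulEquiv.refl _))⟩

/-- Perfect quotient. -/
theorem exists_decomp (hperf : commutator (Zq G) = ⊤) {L : Subgroup G} (hL : commutator G ≤ L) (g : G) :
    ∃ l ∈ L, ∃ z ∈ Subgroup.center G, g = l * z := by
  have hmap : (commutator G).map (pi G) = commutator (Zq G) := by
    rw [commutator_def, commutator_def, Subgroup.map_commutator, Subgroup.map_top_of_surjective _ pi_surj]
  have h1 : pi G g ∈ (commutator G).map (pi G) := by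
    rw [hmap, hperf]
    trivial
  obtain ⟨c, hc, hcg⟩ := Subgroup.mem_map.mp h1
  refine ⟨c, hL hc, c⁻¹ * g, ?_, by group⟩
  rw [← pi_eq_one, map_mul, map_inv, hcg, inv_mul_cancel]

end Mul

variable {G : Type u} [Group G] [Fintype G] {p : ℕ} [hp : Fact p.Prime] {P : Subgroup G}
  [Fintype (Cn P)] [Fintype (Nn P)] [Fintype (DD P p)] [Fintype (IrrCharacter G)] [Fintype (IrrCharacter (Cn P))]
  [Fintype P] [Fintype (Subgroup.center G)] {M : Ideal AlgInt} {ζ : IrrCharacter G}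

section Quot

variable (hP : Nat.card P = p) (hp2 : ¬ p ^ 2 ∣ Nat.card G) (hnn : ¬ P.Normal)

include hP hp2 hnn

/-- Central `p`-elements are trivial. -/
theorem central_p {z : G} (hz : z ∈ Subgroup.center G) (hzp : z ^ p = 1) : z = 1 := by
  have h1 : orderOf z ∣ p := orderOf_dvd_of_pow_eq_one hzp
  rcases (Nat.dvd_prime hp.out).mp h1 with h2 | h2
  · exact orderOf_eq_one_iff.mp h2
  · exact absurd (h2 ▸ dvd_refl _) (not_dvd_center hP hp2 hnn hz)

/-- Lifting conjugacy. -/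
theorem lift_eq {g u v : G} (hu : u ∈ P) (hv : v ∈ P) (h : pi G (g * u * g⁻¹) = pi G v) : g * u * g⁻¹ = v := by
  have h1 : v⁻¹ * (g * u * g⁻¹) ∈ Subgroup.center G := by
    rw [← pi_eq_one, map_mul, map_inv, h, inv_mul_cancel]
  set z := v⁻¹ * (g * u * g⁻¹) with hz
  have h2 : g * u * g⁻¹ = v * z := by
    rw [hz]
    group
  have h3 : (g * u * g⁻¹) ^ p = 1 := by
    rw [conj_pow, pow_p_eq_one hP hu]
    group
  have h4 : (v * z) ^ p = z ^ p := by
    have hc : Commute v z := Subgroup.mem_center_iff.mp h1 v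
    rw [hc.mul_pow, pow_p_eq_one hP hv, one_mul]
  have h5 : z ^ p = 1 := by
    rw [← h4, ← h2, h3]
  have h6 := central_p hP hp2 hnn h1 h5
  rw [h2, h6, mul_one]

omit hp2 in
/-- The map `P → P̄`. -/
theorem toQ_bij : Function.Bijective
    (fun u : P => (⟨pi G u, Subgroup.mem_map_of_mem _ u.2⟩ : P.map (pi G))) := by
  constructor
  · intro u v h
    have h1 : pi G u = pi G v := congrArg Subtype.val h
    have h2 : (v : G)⁻¹ * u ∈ Subgroup.center G := by
      rw [← pi_eq_one, map_mul, map_inv, h1, inv_mul_cancel]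
    have h3 := center_inf hP hnn (P.mul_mem (P.inv_mem v.2) u.2) h2
    apply Subtype.ext
    calc (u : G) = v * ((v : G)⁻¹ * u) := by group
      _ = v := by rw [h3, mul_one]
  · rintro ⟨x, hx⟩
    obtain ⟨u, hu, rfl⟩ := Subgroup.mem_map.mp hx
    exact ⟨⟨u, hu⟩, rfl⟩

omit hp2 in
theorem card_Q : Nat.card (P.map (pi G)) = p := by
  rw [← Nat.card_congr (Equiv.ofBijective _ (toQ_bij hP hnn))]
  exact hP

omit hP hnn in
theorem not_sq_dvd : ¬ p ^ 2 ∣ Nat.card (Zq G) := by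
  intro h
  apply hp2
  rw [Subgroup.card_eq_card_quotient_mul_card_subgroup (Subgroup.center G)]
  exact h.trans (dvd_mul_right _ _)

/-- The centralizer in the quotient. -/
theorem C_Q (hdecC : ∀ c ∈ Cn P, ∃ u ∈ P, ∃ z ∈ Subgroup.center G, c = u * z) :
    Cn (P.map (pi G)) = P.map (pi G) := by
  apply le_antisymm
  · intro x hx
    obtain ⟨g, rfl⟩ := pi_surj x
    have hg : g ∈ Cn P := by
      rw [Subgroup.mem_centralizer_iff]
      intro u hu
      have h1 : pi G u * pi G g = pi G g * pi G u :=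
        Subgroup.mem_centralizer_iff.mp hx (pi G u) (Subgroup.mem_map_of_mem _ hu)
      have h2 : pi G (g * u * g⁻¹) = pi G u := by
        rw [map_mul, map_mul, map_inv, ← h1]
        group
      have h3 := lift_eq hP hp2 hnn hu hu h2
      calc u * g = (g * u * g⁻¹) * g := by rw [h3]
        _ = g * u := by group
    obtain ⟨v, hv, z, hz, hc⟩ := hdecC g hg
    rw [hc, map_mul, pi_eq_one.mpr hz, mul_one]
    exact Subgroup.mem_map_of_mem _ hv
  · exact le_centralizer (card_Q hP hnn)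

/-- The normalizer in the quotient. -/
theorem N_Q : Nn (P.map (pi G)) = (Nn P).map (pi G) := by
  apply le_antisymm
  · intro x hx
    obtain ⟨g, rfl⟩ := pi_surj x
    refine Subgroup.mem_map_of_mem _ ?_
    obtain ⟨u₀, hu₀⟩ := Cfsg.Agent.Lib.BrauerP.Data.exists_ne_one hP
    have h1 : pi G g * pi G u₀ * (pi G g)⁻¹ ∈ P.map (pi G) :=
      (Subgroup.mem_normalizer_iff.mp hx _).mp (Subgroup.mem_map_of_mem _ u₀.2)
    obtain ⟨v, hv, hve⟩ := Subgroup.mem_map.mp h1
    have h2 : pi G (g * u₀ * g⁻¹) = pi G v := by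
      rw [hve, map_mul, map_mul, map_inv]
    have h3 := lift_eq hP hp2 hnn u₀.2 hv h2
    refine mem_normalizer_of_conj_mem hP u₀.2 hv ?_ h3
    intro hv1
    rw [hv1] at h3
    apply hu₀
    apply Subtype.ext
    have h4 : (u₀ : G) = g⁻¹ * (g * u₀ * g⁻¹) * g := by group
    rw [h4, h3]
    simp
  · exact Subgroup.le_normalizer_map _

/-- The order of the normalizer in the quotient. -/
theorem card_N_Q (hf : Nat.card (Nn P) = 2 * Nat.card (Cn P))
    (hdecC : ∀ c ∈ Cn P, ∃ u ∈ P, ∃ z ∈ Subgroup.center G, c = u * z) :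
    Nat.card (Nn (P.map (pi G))) = p * 2 := by
  rw [N_Q hP hp2 hnn]
  let f : Nn P →* Zq G := (pi G).comp (Nn P).subtype
  have hr : f.range = (Nn P).map (pi G) := by
    rw [MonoidHom.range_comp, Subgroup.range_subtype]
  have h1 := Subgroup.card_mul_index f.ker
  rw [Subgroup.index_ker, hr, hf, card_C hP hnn hdecC] at h1
  have hZN : Subgroup.center G ≤ Nn P := fun z hz => Subgroup.centralizer_le_normalizer _ (center_le_C hz)
  have h2 : Nat.card f.ker = Nat.card (Subgroup.center G) := by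
    refine Nat.card_congr
      { toFun := fun k => ⟨k.1.1, pi_eq_one.mp k.2⟩
        invFun := fun z => ⟨⟨z.1, hZN z.2⟩, pi_eq_one.mpr z.2⟩
        left_inv := fun k => rfl
        right_inv := fun z => rfl }
  rw [h2] at h1
  have hpos : 0 < Nat.card (Subgroup.center G) := Nat.card_pos
  apply Nat.eq_of_mul_eq_mul_left hpos
  rw [h1]
  ring

end Quot

set_option maxHeartbeats 1000000 in
/-- **The structure of `G`.** -/
theorem main_J (hM : IsPModular p M) (S : S1 M P p ζ) (hP : Nat.card P = p) (hp2 : ¬ p ^ 2 ∣ Nat.card G)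
    (hnn : ¬ P.Normal) (hp7 : 7 ≤ p) (hfaith : ∀ g, (ζ : G → ℂ) g = (ζ : G → ℂ) 1 → g = 1)
    (hdeg : charDegree (ζ : G → ℂ) + 2 = p) :
    ∃ (a : ℕ) (F : Type) (_ : Field F) (_ : Fintype F), p = 2 ^ a + 1 ∧ Fintype.card F = 2 ^ a ∧
      Nonempty (G ≃* Matrix.SpecialLinearGroup (Fin 2) F × Subgroup.center G) := by
  classical
  have hodd : p ≠ 2 := by omega
  have hdecC := hdec S hP hp2 hfaith hdeg
  obtain ⟨τ, hτ⟩ := exists_tau S hP hp2 hnn hodd hfaith hdeg
  obtain ⟨a, hd1, haP, haZ⟩ := exists_linear hM S hP hp2 hnn hp7 hfaith hdeg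
  have hac := isCharacter_of_isIrrCharacter a.2
  have ha1 : (a : G → ℂ) 1 = 1 := by
    rw [← charDegree_natCast hac, hd1]
    simp
  obtain ⟨lam, hlam⟩ := exists_lam hac ha1
  have hlamP : ∀ u ∈ P, lam u = 1 := fun u hu => Units.ext (by rw [← hlam, haP u hu]; rfl)
  have hζc := isCharacter_of_isIrrCharacter ζ.2
  -- the twist
  let ζ₀ : G → ℂ := fun g => ((lam⁻¹ g : ℂˣ) : ℂ) * (ζ : G → ℂ) g
  have hζ₀ : IsIrrCharacter G ζ₀ :=
    Cfsg.Agent.Lib.CharZeros.Gallagher.isIrrCharacter_mul_linear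
      (isCharacter_of_isIrrCharacter (isIrrCharacter_of_hom lam⁻¹)) (by simp) ζ.2
  have hζ₀1 : ζ₀ 1 = (ζ : G → ℂ) 1 := by simp [ζ₀]
  have hker : ∀ k ∈ (pi G).ker, ζ₀ k = ζ₀ 1 := by
    intro k hk
    have hkz : k ∈ Subgroup.center G := pi_eq_one.mp hk
    rw [hζ₀1]
    show ((lam⁻¹ k : ℂˣ) : ℂ) * (ζ : G → ℂ) k = _
    rw [val_center S hP hp2 hnn hdeg hkz, ← haZ k hkz, hlam, MonoidHom.inv_apply, ← mul_assoc, ← Units.val_mul,
      inv_mul_cancel, Units.val_one, one_mul]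
  obtain ⟨φ, hφ, hφe⟩ := isIrrCharacter_descend (pi G) pi_surj hζ₀ hker
  have hφv : ∀ g, φ (pi G g) = ζ₀ g := fun g => (congrFun hφe g).symm
  have hφc := isCharacter_of_isIrrCharacter hφ
  have hdφ : charDegree φ + 2 = p := by
    have h1 : (charDegree φ : ℂ) = (charDegree (ζ : G → ℂ) : ℂ) := by
      rw [charDegree_natCast hφc, charDegree_natCast hζc, ← map_one (pi G), hφv, hζ₀1]
    have h2 : charDegree φ = charDegree (ζ : G → ℂ) := by exact_mod_cast h1
    rw [h2, hdeg]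
  have hfφ : ∀ x, φ x = φ 1 → x = 1 := by
    intro x hx
    obtain ⟨g, rfl⟩ := pi_surj x
    rw [← map_one (pi G), hφv, hφv, hζ₀1] at hx
    have h1 : ‖(ζ : G → ℂ) g‖ = (charDegree (ζ : G → ℂ) : ℝ) := by
      have h2 : ‖ζ₀ g‖ = ‖(ζ : G → ℂ) g‖ := by
        show ‖((lam⁻¹ g : ℂˣ) : ℂ) * (ζ : G → ℂ) g‖ = _
        rw [norm_mul, norm_hom, one_mul]
      rw [← h2, hx, ← charDegree_natCast hζc]
      simp
    have h3 := central_of_norm hζc hfaith h1
    exact pi_eq_one.mpr (Subgroup.mem_center_iff.mpr h3)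
  -- the sum
  let _ : Fintype (P.map (pi G)) := Fintype.ofFinite _
  have hsum : ∑ x : P.map (pi G), φ x = p := by
    have h1 := Fintype.sum_bijective _ (toQ_bij hP hnn) (fun u => φ (pi G u)) (fun x : P.map (pi G) => φ x) (fun _ => rfl)
    rw [← h1]
    have h2 : ∀ u : P, φ (pi G u) = (ζ : G → ℂ) u := by
      intro u
      rw [hφv]
      show ((lam⁻¹ u : ℂˣ) : ℂ) * (ζ : G → ℂ) u = _
      rw [MonoidHom.inv_apply, hlamP u u.2]
      simp
    simp only [h2]
    have h3 := sum_P hP hp2 hnn hdecC (th_one S) S.hθP (χ := ζ) (fun z hz => val_center S hP hp2 hnn hdeg hz)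
    rw [h3, S.ha, hP]
    simp
  -- the element `τ`
  have hττ' : pi G τ * pi G τ = 1 := by
    rw [← map_mul]
    exact pi_eq_one.mpr hτ.hττ
  have hinv' : ∀ x ∈ P.map (pi G), pi G τ * x * (pi G τ)⁻¹ = x⁻¹ := by
    intro x hx
    obtain ⟨u, hu, rfl⟩ := Subgroup.mem_map.mp hx
    rw [← map_inv, ← map_inv, ← map_mul, ← map_mul, hτ.hinv u hu]
  obtain ⟨hperf, m, F, i1, i2, hF, hpm, ⟨e⟩⟩ := Cfsg.Agent.Lib.Blk89.DegP2I.quot_main hp7 (card_Q hP hnn)
    (not_sq_dvd hp2) (C_Q hP hp2 hnn hdecC) (card_N_Q hP hp2 hnn S.hf hdecC) hττ' hinv' φ hφ hdφ hfφ hsum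
  refine ⟨m, F, i1, i2, hpm, hF, ?_⟩
  -- the decomposition
  refine equiv_prod (L := lam.ker) ?_ (exists_decomp hperf (Abelianization.commutator_subset_ker lam)) e
  intro k hk hkz
  apply th_faith S hP hp2 hnn hfaith hdeg hkz
  rw [← haZ k hkz, hlam, MonoidHom.mem_ker.mp hk]
  rfl

end Cfsg.Agent.Lib.Blk89.DegP2J
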