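import Mathlib
import Cfsg.Agent.Lib.Blk89.PAb1
import Cfsg.Agent.S0118
import Cfsg.Agent.Lib.Transfer.Focal
import Cfsg.Agent.Lib.Transfer.Frobenius
import Cfsg.Agent.Lib.Transfer.Basic
import Cfsg.Agent.Lib.FG85.SylowHall
import Cfsg.Agent.Lib.PLocal.ThompsonFunctor
import Cfsg.Agent.Lib.Solvable.HallRel

/-!
# Minimal counterexamples to the solvability of `PAb` groups: the normalizer of a Sylow subgroup
-/

set_option autoImplicit false
set_option linter.style.haveILetI false

namespace Cfsg.Agent.Lib.Blk89.PAb2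

open Subgroup Cfsg Cfsg.Agent.Lib.Blk89.PAb0 Cfsg.Agent.Lib.Blk89.PAb1

universe u

variable {p : ℕ}

section helpers

variable [hp : Fact p.Prime]

lemma isPGroup_quotient_of_pprime_mem {A : Type*} [Group A] [Finite A] (C : Subgroup A) [C.Normal]
    (hC : ∀ x : A, (orderOf x).Coprime p → x ∈ C) : IsPGroup p (A ⧸ C) := by
  intro q
  obtain ⟨g, rfl⟩ := QuotientGroup.mk'_surjective C q
  obtain ⟨a, b, rfl, -, -, -, ⟨k, hk⟩, hb⟩ :=
    Cfsg.Agent.Lib.Transfer.Basic.exists_pPart_decomp (p := p) g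
  refine ⟨k, ?_⟩
  have hb' : QuotientGroup.mk' C b = 1 := (QuotientGroup.eq_one_iff b).mpr (hC b hb)
  rw [map_mul, hb', mul_one, ← map_pow, hk, map_one]

/-- If `C ⊲ A` contains all `p'`-elements and `T` is Sylow in `A` then `A = C T`. -/
lemma exists_mul_of_pprime_mem {A : Type*} [Group A] [Finite A] (C : Subgroup A) [C.Normal]
    (hC : ∀ x : A, (orderOf x).Coprime p → x ∈ C) (T : Sylow p A) (a : A) :
    ∃ c ∈ C, ∃ t ∈ (T : Subgroup A), a = c * t := by
  have hq := isPGroup_quotient_of_pprime_mem C hC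
  have hs : Function.Surjective (QuotientGroup.mk' C) := QuotientGroup.mk'_surjective C
  have htop : ((T.mapSurjective hs : Sylow p (A ⧸ C)) : Subgroup (A ⧸ C)) = ⊤ :=
    ((T.mapSurjective hs).is_maximal' (hq.of_equiv Subgroup.topEquiv.symm) le_top).symm
  have h1 : QuotientGroup.mk' C a ∈ ((T.mapSurjective hs : Sylow p (A ⧸ C)) : Subgroup (A ⧸ C)) := by
    rw [htop]; trivial
  obtain ⟨t, ht, hta⟩ := h1
  refine ⟨a * t⁻¹, ?_, t, ht, by group⟩
  rw [← QuotientGroup.eq_one_iff, ← QuotientGroup.mk'_apply]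
  rw [map_mul, map_inv, ← hta]
  simp

lemma pResidual_eq_top_of_le_commutator {U : Type*} [Group U] [Finite U] (P : Sylow p U)
    (h : (P : Subgroup U) ≤ commutator U) : pResidual p U = ⊤ := by
  by_contra hne
  have hq : IsPGroup p (U ⧸ pResidual p U) :=
    isPGroup_quotient_of_pprime_mem _ (fun x hx => Subgroup.subset_closure hx)
  haveI : Group.IsNilpotent (U ⧸ pResidual p U) := hq.isNilpotent
  haveI : Nontrivial (U ⧸ pResidual p U) := by
    by_contra hn
    rw [not_nontrivial_iff_subsingleton] at hn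
    apply hne
    rw [eq_top_iff]
    intro g _
    exact (QuotientGroup.eq_one_iff g).mp (Subsingleton.elim _ _)
  apply Cfsg.Agent.Lib.Transfer.Frobenius.commutator_ne_top_of_isNilpotent (K := U ⧸ pResidual p U)
  rw [eq_top_iff]
  intro q _
  obtain ⟨g, rfl⟩ := QuotientGroup.mk'_surjective (pResidual p U) q
  obtain ⟨c, hc, t, ht, rfl⟩ := exists_mul_of_pprime_mem (pResidual p U)
    (fun x hx => Subgroup.subset_closure hx) P g
  have hc1 : QuotientGroup.mk' (pResidual p U) c = 1 := (QuotientGroup.eq_one_iff c).mpr hc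
  rw [map_mul, hc1, one_mul]
  have hle : (commutator U).map (QuotientGroup.mk' (pResidual p U)) ≤
      commutator (U ⧸ pResidual p U) := by
    rw [commutator_def, commutator_def, Subgroup.map_commutator]
    exact Subgroup.commutator_mono le_top le_top
  exact hle ⟨t, h ht, rfl⟩

/-- Membership in a normalizer, checked on one inclusion. -/
lemma mem_normalizer_of_conj_mem {G : Type*} [Group G] [Finite G] {H : Subgroup G} {g : G}
    (h : ∀ x ∈ H, g * x * g⁻¹ ∈ H) : g ∈ normalizer (H : Set G) := by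
  rw [Subgroup.mem_normalizer_iff_map_conj_eq]
  apply Subgroup.eq_of_le_of_card_ge
  · rintro _ ⟨x, hx, rfl⟩
    exact h x hx
  · rw [Subgroup.card_map_of_injective (MulAut.conj g).injective]

/-- A central Sylow subgroup in a group generated by `p'`-elements is trivial. -/
lemma sylow_eq_bot_of_central {X : Type*} [Group X] [Finite X] (hgen : pResidual p X = ⊤)
    (P : Sylow p X) (hP : ∀ x ∈ (P : Subgroup X), ∀ g : X, g * x = x * g) : (P : Subgroup X) = ⊥ := by
  classical
  have hc : normalizer (P : Set X) ≤ centralizer (P : Set X) := by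
    intro g _
    rw [Subgroup.mem_centralizer_iff]
    intro x hx
    exact (hP x hx g).symm
  have hk := MonoidHom.ker_transferSylow_isComplement' P hc
  have hker : (MonoidHom.transferSylow P hc).ker = ⊤ := by
    rw [eq_top_iff, ← hgen]
    rw [pResidual, Subgroup.closure_le]
    intro x hx
    rw [SetLike.mem_coe, MonoidHom.mem_ker]
    have h1 := orderOf_map_dvd (MonoidHom.transferSylow P hc) x
    obtain ⟨k, hk⟩ := IsPGroup.iff_orderOf.1 P.isPGroup' (MonoidHom.transferSylow P hc x)
    rw [hk] at h1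
    have h2 : p ^ k = 1 := Nat.Coprime.eq_one_of_dvd (Nat.Coprime.pow_left _ (Nat.Coprime.symm hx)) h1
    rw [← orderOf_eq_one_iff, hk, h2]
  rw [hker] at hk
  have := hk.disjoint
  rw [disjoint_iff, top_inf_eq] at this
  exact this

end helpers


/-- A minimal counterexample. -/
structure MinCE (p : ℕ) (G : Type u) [Group G] : Prop where
  pab : PAb p G
  simple : ∀ N : Subgroup G, N.Normal → N = ⊥ ∨ N = ⊤
  perfect : commutator G = ⊤
  solv : ∀ U : Subgroup G, U ≠ ⊤ → Group.IsSolvable U
  nt : Nontrivial G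
  hp2 : p ≠ 2
  hp3 : p ≠ 3

namespace MinCE

variable [hp : Fact p.Prime] {G : Type u} [Group G] [Finite G] (C : MinCE p G)

include C

lemma pdvd : p ∣ Nat.card G := by
  by_contra hnd
  have hc : (Nat.card (⊤ : Subgroup G)).Coprime p := by
    rw [Subgroup.card_top]
    exact ((hp.out.coprime_iff_not_dvd).2 hnd).symm
  have hcomm : ∀ a b : G, a * b = b * a := fun a b => C.pab.comm hc (mem_top a) (mem_top b)
  have hbot : commutator G = ⊥ := by
    rw [commutator_def, eq_bot_iff, Subgroup.commutator_le]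
    intro a _ b _
    rw [Subgroup.mem_bot, commutatorElement_eq_one_iff_mul_comm]
    exact hcomm a b
  haveI := C.nt
  rw [C.perfect] at hbot
  exact top_ne_bot hbot

lemma not_isPGroup : ¬ IsPGroup p G := by
  intro h
  haveI := C.nt
  haveI : Group.IsNilpotent G := h.isNilpotent
  exact Cfsg.Agent.Lib.Transfer.Frobenius.commutator_ne_top_of_isNilpotent C.perfect

lemma sylow_ne_bot (P : Sylow p G) : (P : Subgroup G) ≠ ⊥ :=
  P.ne_bot_of_dvd_card C.pdvd

lemma not_isPGroup_top {S : Subgroup G} (hS : IsPGroup p S) : S ≠ ⊤ := by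
  rintro rfl
  exact C.not_isPGroup (hS.of_equiv Subgroup.topEquiv)

lemma normalizer_ne_top {U : Subgroup G} (h1 : U ≠ ⊥) (h2 : U ≠ ⊤) :
    normalizer (U : Set G) ≠ ⊤ := by
  intro h
  rw [Subgroup.normalizer_eq_top_iff] at h
  rcases C.simple U h with h3 | h3
  · exact h1 h3
  · exact h2 h3

lemma centralizer_ne_top {y : G} (hy : y ≠ 1) : centralizer ({y} : Set G) ≠ ⊤ := by
  intro h
  have hy' : ∀ g : G, g * y = y * g := by
    intro g
    have : g ∈ centralizer ({y} : Set G) := by rw [h]; trivial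
    rw [Subgroup.mem_centralizer_iff] at this
    exact (this y rfl).symm
  have hZ : y ∈ center G := by
    rw [Subgroup.mem_center_iff]
    exact hy'
  haveI := C.nt
  rcases C.simple (center G) inferInstance with h3 | h3
  · rw [h3] at hZ
    exact hy hZ
  · have hc : ∀ a b : G, a * b = b * a := by
      intro a b
      have : b ∈ center G := by rw [h3]; trivial
      exact (Subgroup.mem_center_iff.1 this a)
    have hbot : commutator G = ⊥ := by
      rw [commutator_def, eq_bot_iff, Subgroup.commutator_le]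
      intro a _ b _
      rw [Subgroup.mem_bot, commutatorElement_eq_one_iff_mul_comm]
      exact hc a b
    rw [C.perfect] at hbot
    exact top_ne_bot hbot

/-- Control of fusion by `N(Z(J(P)))`. -/
lemma ctrl0 (P : Sylow p G) (A : Set G) (hA : A ⊆ (P : Subgroup G)) (g : G)
    (hg : ∀ a ∈ A, g * a * g⁻¹ ∈ (P : Subgroup G)) :
    ∃ n ∈ normalizer (centerThompsonOf p (P : Subgroup G) : Set G), ∀ a ∈ A,
      n * a * n⁻¹ = g * a * g⁻¹ := by
  obtain ⟨n, hn, hna⟩ := Cfsg.Agent.S0118.result C.hp2 (hfree_of_PAb C.hp2 C.pab) P A hA g⁻¹ (by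
    rintro _ ⟨a, ha, rfl⟩
    simp only [inv_inv]
    exact hg a ha)
  refine ⟨n⁻¹, inv_mem hn, fun a ha => ?_⟩
  have := hna a ha
  simpa using this

lemma zj_eq (P : Subgroup G) :
    centerThompsonOf p P = Cfsg.Agent.Lib.PLocal.Thompson.zjOf p P :=
  Cfsg.Agent.Lib.PLocal.Thompson.centerThompsonOf_eq p P

lemma zj_ne_bot (P : Sylow p G) : centerThompsonOf p (P : Subgroup G) ≠ ⊥ := by
  rw [zj_eq C]
  exact (Cfsg.Agent.Lib.PLocal.ThompsonFunctor.pFunctor_zjOf (e := p) (p := p) (Or.inr rfl)).ne_bot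
    (P : Subgroup G) P.isPGroup' (C.sylow_ne_bot P)

lemma zj_le (P : Sylow p G) : centerThompsonOf p (P : Subgroup G) ≤ P := by
  rw [zj_eq C]
  exact Cfsg.Agent.Lib.PLocal.Thompson.zjOf_le p _

lemma normalizer_le_zj (P : Sylow p G) :
    normalizer ((P : Subgroup G) : Set G) ≤
      normalizer (centerThompsonOf p (P : Subgroup G) : Set G) := by
  rw [zj_eq C]
  exact (Cfsg.Agent.Lib.PLocal.ThompsonFunctor.pFunctor_zjOf (e := p) (p := p) (Or.inr rfl)).normalizer_le
    (P : Subgroup G) P.isPGroup'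

lemma zj_normalizer_ne_top (P : Sylow p G) :
    normalizer (centerThompsonOf p (P : Subgroup G) : Set G) ≠ ⊤ :=
  C.normalizer_ne_top (C.zj_ne_bot P) (C.not_isPGroup_top (P.isPGroup'.to_le (C.zj_le P)))

lemma le_commutator_zj (P : Sylow p G) : (P : Subgroup G) ≤
    ⁅normalizer (centerThompsonOf p (P : Subgroup G) : Set G),
      normalizer (centerThompsonOf p (P : Subgroup G) : Set G)⁆ := by
  have h1 := Cfsg.Agent.Lib.Transfer.Focal.commutator_inf_of_control P
    (normalizer (centerThompsonOf p (P : Subgroup G) : Set G))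
    (le_normalizer.trans (C.normalizer_le_zj P)) (fun x hx u hu => by
      obtain ⟨n, hn, hna⟩ := C.ctrl0 P {x} (Set.singleton_subset_iff.2 hx) u (by
        rintro a (rfl : a = x)
        exact hu)
      exact ⟨n, hn, (hna x rfl).symm⟩)
  rw [C.perfect, top_inf_eq] at h1
  exact h1.le.trans inf_le_left

/-- Overgroups of `N(Z(J(P)))` other than `G` normalize `P`. -/
lemma le_normalizer_of_le {P : Sylow p G} {U : Subgroup G}
    (hU : normalizer (centerThompsonOf p (P : Subgroup G) : Set G) ≤ U) (hU' : U ≠ ⊤) :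
    U ≤ normalizer ((P : Subgroup G) : Set G) := by
  haveI := C.solv U hU'
  have hPU : (P : Subgroup G) ≤ U := (le_normalizer.trans (C.normalizer_le_zj P)).trans hU
  have hle : ((P.subtype hPU : Sylow p U) : Subgroup U) ≤ commutator U := by
    intro x hx
    have hx' : (x : G) ∈ (P : Subgroup G) := by
      rw [Sylow.coe_subtype, Subgroup.mem_subgroupOf] at hx
      exact hx
    have h1 := C.le_commutator_zj P hx'
    have h2 : (x : G) ∈ ⁅U, U⁆ := Subgroup.commutator_mono hU hU h1
    rw [← Subgroup.map_subtype_commutator] at h2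
    obtain ⟨y, hy, hyx⟩ := h2
    have : y = x := Subtype.ext hyx
    rwa [← this]
  have hgen := pResidual_eq_top_of_le_commutator (P.subtype hPU) hle
  have hn := sylow_normal_of_pResidual_eq_top (C.pab.subgroup U) hgen (P.subtype hPU)
  rw [Sylow.coe_subtype] at hn
  exact (Subgroup.normal_subgroupOf_iff_le_normalizer hPU).1 hn

lemma normalizer_zj_eq (P : Sylow p G) :
    normalizer (centerThompsonOf p (P : Subgroup G) : Set G) =
      normalizer ((P : Subgroup G) : Set G) :=
  le_antisymm (C.le_normalizer_of_le le_rfl (C.zj_normalizer_ne_top P)) (C.normalizer_le_zj P)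

lemma normalizer_ne_top' (P : Sylow p G) : normalizer ((P : Subgroup G) : Set G) ≠ ⊤ := by
  rw [← C.normalizer_zj_eq P]
  exact C.zj_normalizer_ne_top P

/-- `N(P)` is a maximal subgroup. -/
lemma eq_normalizer_of_le {P : Sylow p G} {U : Subgroup G}
    (hU : normalizer ((P : Subgroup G) : Set G) ≤ U) (hU' : U ≠ ⊤) :
    U = normalizer ((P : Subgroup G) : Set G) :=
  le_antisymm (C.le_normalizer_of_le (by rwa [C.normalizer_zj_eq P]) hU') hU

/-- Control of fusion by `N(P)`. -/
lemma ctrl (P : Sylow p G) (A : Set G) (hA : A ⊆ (P : Subgroup G)) (g : G)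
    (hg : ∀ a ∈ A, g * a * g⁻¹ ∈ (P : Subgroup G)) :
    ∃ n ∈ normalizer ((P : Subgroup G) : Set G), ∀ a ∈ A, n * a * n⁻¹ = g * a * g⁻¹ := by
  rw [← C.normalizer_zj_eq P]
  exact C.ctrl0 P A hA g hg

lemma le_commutator_normalizer (P : Sylow p G) : (P : Subgroup G) ≤
    ⁅normalizer ((P : Subgroup G) : Set G), normalizer ((P : Subgroup G) : Set G)⁆ := by
  rw [← C.normalizer_zj_eq P]
  exact C.le_commutator_zj P

/-- The complement `J` of `P` in `N(P)`. -/
lemma exists_complement (P : Sylow p G) : ∃ J : Subgroup G,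
    J ≤ normalizer ((P : Subgroup G) : Set G) ∧ (Nat.card J).Coprime p ∧
    (P : Subgroup G).index = Nat.card J * (normalizer ((P : Subgroup G) : Set G)).index ∧
    ∀ n ∈ normalizer ((P : Subgroup G) : Set G), ∃ u ∈ (P : Subgroup G), ∃ j ∈ J, n = u * j := by
  classical
  have hpp := hp.out
  set N := normalizer ((P : Subgroup G) : Set G) with hN
  have hPN : (P : Subgroup G) ≤ N := le_normalizer
  have hnormal : ((P : Subgroup G).subgroupOf N).Normal := Subgroup.normal_in_normalizer
  have hrel : ¬ p ∣ (P : Subgroup G).relIndex N := fun h => P.not_dvd_index (by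
    rw [← Subgroup.relIndex_mul_index hPN]
    exact h.trans (dvd_mul_right _ _))
  have hcop : (Nat.card ((P : Subgroup G).subgroupOf N)).Coprime ((P : Subgroup G).subgroupOf N).index := by
    have e1 : Nat.card ((P : Subgroup G).subgroupOf N) = Nat.card (P : Subgroup G) :=
      Nat.card_congr (Subgroup.subgroupOfEquivOfLe hPN).toEquiv
    rw [e1]
    obtain ⟨k, hk⟩ := IsPGroup.iff_card.1 P.isPGroup'
    rw [hk]
    exact Nat.Coprime.pow_left _ ((hpp.coprime_iff_not_dvd).2 hrel)
  obtain ⟨Y, hY⟩ := Subgroup.exists_right_complement'_of_coprime hcop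
  have hcardY : Nat.card (Y.map N.subtype) = (P : Subgroup G).relIndex N := by
    rw [Subgroup.card_map_of_injective N.subtype_injective, ← hY.symm.index_eq_card]
    rfl
  refine ⟨Y.map N.subtype, ?_, ?_, ?_, ?_⟩
  · rintro _ ⟨y, -, rfl⟩
    exact y.2
  · rw [hcardY]
    exact ((hpp.coprime_iff_not_dvd).2 hrel).symm
  · rw [hcardY, Subgroup.relIndex_mul_index hPN]
  · intro n hn
    obtain ⟨⟨⟨q, hq⟩, ⟨y, hy⟩⟩, hqy⟩ := hY.2 ⟨n, hn⟩
    have hqy' : (q : G) * (y : G) = n := congrArg Subtype.val hqy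
    exact ⟨q, hq, y, ⟨y, hy, rfl⟩, hqy'.symm⟩

end MinCE

end Cfsg.Agent.Lib.Blk89.PAb2
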