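import Mathlib
import Cfsg.Agent.Lib.Blk89.PAb2

/-!
# Minimal counterexamples: transfer at the primes different from `p`; congruences
-/

set_option autoImplicit false
set_option linter.style.haveILetI false

namespace Cfsg.Agent.Lib.Blk89.PAb2.MinCE

open Subgroup Cfsg Cfsg.Agent.Lib.Blk89.PAb0 Cfsg.Agent.Lib.Blk89.PAb1 Cfsg.Agent.Lib.Blk89.PAb2

universe u

variable {p : ℕ} [hp : Fact p.Prime] {G : Type u} [Group G] [Finite G]

lemma coprime_card_of_isPGroup {q : ℕ} (hqp : q ≠ p) (hq : q.Prime) {H : Type*} [Group H] [Finite H]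
    (hH : IsPGroup q H) : (Nat.card H).Coprime p := by
  haveI : Fact q.Prime := ⟨hq⟩
  obtain ⟨k, hk⟩ := IsPGroup.iff_card.1 hH
  rw [hk]
  exact Nat.Coprime.pow_left _ ((Nat.coprime_primes hq hp.out).2 hqp)

section

variable (C : MinCE p G) {q : ℕ} [hq : Fact q.Prime]

include C

lemma sylow_coprime (hqp : q ≠ p) (Q : Sylow q G) : (Nat.card Q).Coprime p :=
  coprime_card_of_isPGroup hqp hq.out Q.isPGroup'

/-- Transfer: every nontrivial element of an (abelian) Sylow `q`-subgroup is moved in its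
normalizer. -/
lemma exists_move (hqp : q ≠ p) (Q : Sylow q G) {y : G} (hy : y ∈ (Q : Subgroup G)) (hy1 : y ≠ 1) :
    ∃ g ∈ normalizer ((Q : Subgroup G) : Set G), g * y * g⁻¹ ≠ y := by
  by_contra hcon
  push Not at hcon
  have hc := C.sylow_coprime hqp Q
  have hQab : IsMulCommutative (Q : Subgroup G) := (C.pab _ hc).1
  have h1 := Cfsg.Agent.Lib.Transfer.Focal.commutator_inf_eq_normalizer_of_abelian Q hQab
  rw [C.perfect, top_inf_eq] at h1
  set A := normalizer ((Q : Subgroup G) : Set G) with hA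
  have hQA : (Q : Subgroup G) ≤ A := le_normalizer
  have hy2 : y ∈ ⁅A, A⁆ := (h1.le.trans inf_le_left) hy
  rw [← Subgroup.map_subtype_commutator] at hy2
  obtain ⟨y', hy', hy'y⟩ := hy2
  have hy'Q : y' ∈ (Q : Subgroup G).subgroupOf A := by
    rw [Subgroup.mem_subgroupOf]
    have : (y' : G) = y := hy'y
    rw [this]; exact hy
  have hcomm : IsMulCommutative ((Q : Subgroup G).subgroupOf A) := by
    refine ⟨⟨fun a b => ?_⟩⟩
    apply Subtype.ext
    apply Subtype.ext
    exact C.pab.comm hc (Subgroup.mem_subgroupOf.1 a.2) (Subgroup.mem_subgroupOf.1 b.2)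
  have hHall : (Nat.card ((Q : Subgroup G).subgroupOf A)).Coprime ((Q : Subgroup G).subgroupOf A).index := by
    have := (Q.subtype hQA).card_coprime_index
    rwa [Sylow.coe_subtype] at this
  have h3 := Cfsg.Agent.Lib.Transfer.Focal.abelian_hall_inf_eq_bot _ hcomm hHall
  have hZ : y' ∈ center A := by
    rw [Subgroup.mem_center_iff]
    intro a
    apply Subtype.ext
    have h5 := hcon a a.2
    have : (y' : G) = y := hy'y
    simp only [Subgroup.coe_mul, this]
    rw [mul_inv_eq_iff_eq_mul] at h5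
    exact h5
  have h4 : y' ∈ (Q : Subgroup G).subgroupOf A ⊓ commutator A ⊓ center A :=
    ⟨⟨hy'Q, hy'⟩, hZ⟩
  rw [h3, Subgroup.mem_bot] at h4
  apply hy1
  rw [← hy'y, h4]
  rfl

/-- **Lemma F.** A Sylow `p`-subgroup of `N(Q)` moves every nontrivial element of `Q`. -/
lemma lemF (hqp : q ≠ p) (Q : Sylow q G) (T : Sylow p (normalizer ((Q : Subgroup G) : Set G)))
    {y : G} (hy : y ∈ (Q : Subgroup G)) (hy1 : y ≠ 1) :
    ∃ t ∈ (T : Subgroup (normalizer ((Q : Subgroup G) : Set G))), (t : G) * y * (t : G)⁻¹ ≠ y := by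
  have hc := C.sylow_coprime hqp Q
  set Cen : Subgroup (normalizer ((Q : Subgroup G) : Set G)) := (centralizer ((Q : Subgroup G) : Set G)).subgroupOf (normalizer ((Q : Subgroup G) : Set G)) with hCen
  have hCn : Cen.Normal := by
    refine ⟨fun c hc' a => ?_⟩
    rw [hCen, Subgroup.mem_subgroupOf] at hc' ⊢
    rw [Subgroup.mem_centralizer_iff] at hc' ⊢
    intro x hx
    have hx' : (a : G)⁻¹ * x * (a : G) ∈ (Q : Subgroup G) := by
      have := (Subgroup.mem_normalizer_iff.1 (inv_mem a.2) x).1 hx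
      simpa using this
    have h1 := hc' _ hx'
    simp only [Subgroup.coe_mul, InvMemClass.coe_inv]
    calc x * ((a : G) * c * (a : G)⁻¹)
        = (a : G) * ((a : G)⁻¹ * x * (a : G) * c) * (a : G)⁻¹ := by group
      _ = (a : G) * (c * ((a : G)⁻¹ * x * (a : G))) * (a : G)⁻¹ := by rw [h1]
      _ = _ := by group
  have hpp : ∀ x : (normalizer ((Q : Subgroup G) : Set G)), (orderOf x).Coprime p → x ∈ Cen := by
    intro x hx
    rw [hCen, Subgroup.mem_subgroupOf, Subgroup.mem_centralizer_iff]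
    intro m hm
    have hx' : (orderOf (x : G)).Coprime p := by rwa [Subgroup.orderOf_coe]
    exact (C.pab.commute_of_mem_normalizer hc x.2 hx' hm).symm
  obtain ⟨g, hg, hgy⟩ := C.exists_move hqp Q hy hy1
  obtain ⟨c, hc', t, ht, hct⟩ := exists_mul_of_pprime_mem Cen hpp T ⟨g, hg⟩
  refine ⟨t, ht, fun h => hgy ?_⟩
  have hg' : g = (c : G) * (t : G) := congrArg Subtype.val hct
  rw [hCen, Subgroup.mem_subgroupOf, Subgroup.mem_centralizer_iff] at hc'
  have h2 := hc' y hy
  rw [hg', mul_inv_rev]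
  calc (c : G) * t * y * ((t : G)⁻¹ * (c : G)⁻¹) = (c : G) * (t * y * (t : G)⁻¹) * (c : G)⁻¹ := by group
    _ = (c : G) * y * (c : G)⁻¹ := by rw [h]
    _ = y := by rw [← h2]; group

/-- The `p'`-parts of `|G|` are `1` modulo `p`. -/
lemma card_modEq (hqp : q ≠ p) (Q : Sylow q G) : Nat.card Q ≡ 1 [MOD p] := by
  obtain ⟨T⟩ : Nonempty (Sylow p (normalizer ((Q : Subgroup G) : Set G))) := inferInstance
  set A := normalizer ((Q : Subgroup G) : Set G) with hA
  have hle : (T : Subgroup A).map A.subtype ≤ normalizer ((Q : Subgroup G) : Set G) := by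
    rintro _ ⟨t, -, rfl⟩
    exact t.2
  have h := Cfsg.Agent.Lib.FG85.SylowHall.card_modEq_card_inf_centralizer_of_isPGroup
    ((T : Subgroup A).map A.subtype) (Q : Subgroup G) (T.isPGroup'.map _) hle
  have hbot : (Q : Subgroup G) ⊓ centralizer (((T : Subgroup A).map A.subtype : Subgroup G) : Set G) = ⊥ := by
    rw [eq_bot_iff]
    rintro y ⟨hy, hyc⟩
    by_contra hy1
    obtain ⟨t, ht, hty⟩ := C.lemF hqp Q T hy hy1
    apply hty
    have hyc' : y ∈ centralizer (((T : Subgroup A).map A.subtype : Subgroup G) : Set G) := hyc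
    rw [Subgroup.mem_centralizer_iff] at hyc'
    have := hyc' t ⟨t, ht, rfl⟩
    rw [this]
    group
  rw [hbot, Subgroup.card_bot] at h
  exact h

end

section

variable (C : MinCE p G)

include C

/-- `|G : P| ≡ 1 mod p`. -/
lemma index_modEq (P : Sylow p G) : (P : Subgroup G).index ≡ 1 [MOD p] := by
  classical
  set n := Nat.card G with hn
  have hn0 : n ≠ 0 := Nat.card_pos.ne'
  have hidx : (P : Subgroup G).index = ordCompl[p] n := by
    have h1 := (P : Subgroup G).card_mul_index
    rw [P.card_eq_multiplicity] at h1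
    have h2 := Nat.ordProj_mul_ordCompl_eq_self n p
    have h3 : p ^ n.factorization p ≠ 0 := pow_ne_zero _ hp.out.ne_zero
    apply Nat.eq_of_mul_eq_mul_left (Nat.pos_of_ne_zero h3)
    rw [h1, h2]
  rw [hidx]
  set m := ordCompl[p] n with hm
  have hm0 : m ≠ 0 := (Nat.ordCompl_pos p hn0).ne'
  have hprod := Nat.factorization_prod_pow_eq_self hm0
  have hcast : (m : ZMod p) = 1 := by
    rw [← hprod, Finsupp.prod, Nat.cast_prod]
    apply Finset.prod_eq_one
    intro q hq
    have hqprime : q.Prime := Nat.prime_of_mem_primeFactors (by simpa using hq)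
    have hqm : q ∣ m := Nat.dvd_of_mem_primeFactors (by simpa using hq)
    have hqp : q ≠ p := by
      rintro rfl
      exact Nat.not_dvd_ordCompl hp.out hn0 hqm
    haveI : Fact q.Prime := ⟨hqprime⟩
    obtain ⟨Q⟩ : Nonempty (Sylow q G) := inferInstance
    have h1 := C.card_modEq hqp Q
    rw [Q.card_eq_multiplicity] at h1
    have h2 : m.factorization q = n.factorization q := by
      rw [hm, Nat.factorization_ordCompl]
      simp [Finsupp.erase_ne hqp]
    rw [h2]
    have h3 := (ZMod.natCast_eq_natCast_iff _ _ _).2 h1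
    push_cast at h3 ⊢
    exact h3
  have : (m : ZMod p) = ((1 : ℕ) : ZMod p) := by simpa using hcast
  exact (ZMod.natCast_eq_natCast_iff _ _ _).1 this

end

end Cfsg.Agent.Lib.Blk89.PAb2.MinCE
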