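import Mathlib
import Cfsg.Agent.Lib.Blk89.PAb3

/-!
# Minimal counterexamples: `J`, the eigenvector `z`, uniqueness, residuals
-/

set_option autoImplicit false
set_option linter.style.haveILetI false

namespace Cfsg.Agent.Lib.Blk89.PAb2.MinCE

open Subgroup Cfsg Cfsg.Agent.Lib.Blk89.PAb0 Cfsg.Agent.Lib.Blk89.PAb1 Cfsg.Agent.Lib.Blk89.PAb2

universe u

variable {p : ℕ} [hp : Fact p.Prime] {G : Type u} [Group G] [Finite G]

/-- The residual of a group all of whose `p'`-elements centralize the `p`-elements of the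
residual is a `p'`-group. -/
theorem coprime_pResidual_of_commute {X : Type*} [Group X] [Finite X] (S : Subgroup X)
    (hall : ∀ a ∈ pResidual p X, ∀ k : ℕ, a ^ p ^ k = 1 → a ∈ S)
    (hcen : ∀ x : X, (orderOf x).Coprime p → ∀ s ∈ S, x * s = s * x) :
    (Nat.card (pResidual p X)).Coprime p := by
  by_contra hnc
  have hdvd : p ∣ Nat.card (pResidual p X) := by
    by_contra h
    exact hnc ((hp.out.coprime_iff_not_dvd).2 h).symm
  obtain ⟨P₀⟩ : Nonempty (Sylow p (pResidual p X)) := inferInstance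
  apply P₀.ne_bot_of_dvd_card hdvd
  apply sylow_eq_bot_of_central pResidual_pResidual
  intro t ht g
  obtain ⟨k, hk⟩ := P₀.isPGroup' ⟨t, ht⟩
  have hk' : t ^ p ^ k = 1 := congrArg Subtype.val hk
  have htS : (t : X) ∈ S := hall _ t.2 k (by
    have := congrArg Subtype.val hk'
    simpa using this)
  apply Subtype.ext
  simp only [Subgroup.coe_mul]
  have hg : (g : X) ∈ closure {g : X | Nat.Coprime (orderOf g) p} := g.2
  generalize (g : X) = y at hg ⊢
  induction hg using Subgroup.closure_induction with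
  | mem x hx => exact hcen x hx _ htS
  | one => simp
  | mul x y _ _ hx hy => rw [mul_assoc, hy, ← mul_assoc, hx, mul_assoc]
  | inv x _ hx => rw [inv_mul_eq_iff_eq_mul, ← mul_assoc, hx, mul_assoc, mul_inv_cancel, mul_one]

section

variable (C : MinCE p G)

include C

/-- The residual of a proper subgroup. -/
lemma residual (X : Subgroup G) (hX : X ≠ ⊤) : ∃ R S : Subgroup G, R ≤ X ∧ S ≤ R ∧ IsPGroup p S ∧
    (∀ x ∈ X, (orderOf x).Coprime p → x ∈ R) ∧ (∀ x ∈ X, ∀ r ∈ R, x * r * x⁻¹ ∈ R) ∧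
    (∀ x ∈ X, ∀ s ∈ S, x * s * x⁻¹ ∈ S) ∧ (∀ a ∈ R, ∀ k : ℕ, a ^ p ^ k = 1 → a ∈ S) ∧
    ((∀ x ∈ X, (orderOf x).Coprime p → ∀ s ∈ S, x * s = s * x) → (Nat.card R).Coprime p) := by
  haveI := C.solv X hX
  have hXp := C.pab.subgroup X
  obtain ⟨S', hS'n, hS'p, hS'R, hS'all⟩ := exists_residual_sylow hXp
  have hRn : (pResidual p X).Normal := inferInstance
  refine ⟨(pResidual p X).map X.subtype, S'.map X.subtype, ?_, Subgroup.map_mono hS'R, hS'p.map _,
    ?_, ?_, ?_, ?_, ?_⟩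
  · rintro _ ⟨x, -, rfl⟩
    exact x.2
  · intro x hx hxc
    refine ⟨⟨x, hx⟩, mem_pResidual ?_, rfl⟩
    rwa [Subgroup.orderOf_mk]
  · rintro x hx _ ⟨r, hr, rfl⟩
    exact ⟨_, hRn.conj_mem r hr ⟨x, hx⟩, by simp⟩
  · rintro x hx _ ⟨s, hs, rfl⟩
    exact ⟨_, hS'n.conj_mem s hs ⟨x, hx⟩, by simp⟩
  · rintro _ ⟨a, ha, rfl⟩ k hk
    refine ⟨a, hS'all a ha k ?_, rfl⟩
    apply Subtype.ext
    simpa using hk
  · intro hcen
    rw [Subgroup.card_map_of_injective X.subtype_injective]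
    refine coprime_pResidual_of_commute S' hS'all ?_
    rintro x hx s hs
    apply Subtype.ext
    have hx' : (orderOf (x : G)).Coprime p := by rwa [Subgroup.orderOf_coe]
    exact hcen x x.2 hx' s ⟨s, hs, rfl⟩

/-- The eigenvector. -/
lemma exists_z (P : Sylow p G) (J : Subgroup G)
    (hJN : J ≤ normalizer ((P : Subgroup G) : Set G)) (hJc : (Nat.card J).Coprime p) :
    ∃ z ∈ (P : Subgroup G), z ≠ 1 ∧ z ^ p = 1 ∧ (∀ t ∈ (P : Subgroup G), t * z = z * t) ∧
      ∀ j ∈ J, ∃ c : ℕ, j * z * j⁻¹ = z ^ c := by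
  classical
  have hconj : ∀ j ∈ J, ∀ t : G, t ∈ (P : Subgroup G) ↔ j * t * j⁻¹ ∈ (P : Subgroup G) :=
    fun j hj t => Subgroup.mem_normalizer_iff.1 (hJN hj) t
  have hJcomm : ∀ a ∈ J, ∀ b ∈ J, a * b = b * a := fun a ha b hb => C.pab.comm hJc ha hb
  -- good subgroups
  let Good : Subgroup G → Prop := fun W => W ≠ ⊥ ∧ W ≤ (P : Subgroup G) ∧
    (∀ x ∈ W, (∀ t ∈ (P : Subgroup G), t * x = x * t) ∧ x ^ p = 1) ∧
    ∀ j ∈ J, ∀ x ∈ W, j * x * j⁻¹ ∈ W
  have hE : ∃ W, Good W := by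
    let E₀ : Subgroup G :=
      { carrier := {x | x ∈ (P : Subgroup G) ∧ (∀ t ∈ (P : Subgroup G), t * x = x * t) ∧ x ^ p = 1}
        one_mem' := ⟨one_mem _, by simp, one_pow _⟩
        mul_mem' := by
          rintro a b ⟨ha, ha', ha''⟩ ⟨hb, hb', hb''⟩
          refine ⟨mul_mem ha hb, fun t ht => ?_, ?_⟩
          · rw [← mul_assoc, ha' t ht, mul_assoc, hb' t ht, mul_assoc]
          · have hc : Commute a b := (ha' b hb).symm
            rw [hc.mul_pow, ha'', hb'', one_mul]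
        inv_mem' := by
          rintro a ⟨ha, ha', ha''⟩
          refine ⟨inv_mem ha, fun t ht => ?_, ?_⟩
          · have h1 := ha' t ht
            calc t * a⁻¹ = a⁻¹ * (a * t) * a⁻¹ := by group
              _ = a⁻¹ * (t * a) * a⁻¹ := by rw [h1]
              _ = _ := by group
          · rw [inv_pow, ha'', inv_one] }
    refine ⟨E₀, ?_, fun x hx => hx.1, fun x hx => hx.2, ?_⟩
    · haveI : Nontrivial (P : Subgroup G) :=
        (Subgroup.nontrivial_iff_ne_bot _).2 (C.sylow_ne_bot P)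
      obtain ⟨z, -, hzZ, hzo⟩ := Cfsg.Agent.Lib.PGroups.Basic.exists_central_orderOf_eq
        P.isPGroup' (⊤ : Subgroup (P : Subgroup G)) top_ne_bot
      intro hbot
      have hzE : (z : G) ∈ E₀ := by
        refine ⟨z.2, fun t ht => ?_, ?_⟩
        · have := Subgroup.mem_center_iff.1 hzZ ⟨t, ht⟩
          exact congrArg Subtype.val this
        · have := pow_orderOf_eq_one z
          rw [hzo] at this
          have := congrArg Subtype.val this
          simpa using this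
      rw [hbot, Subgroup.mem_bot] at hzE
      have hz1 : z = 1 := Subtype.ext hzE
      rw [hz1, orderOf_one] at hzo
      exact hp.out.one_lt.ne hzo
    · rintro j hj x ⟨hx, hx', hx''⟩
      refine ⟨(hconj j hj x).1 hx, fun t ht => ?_, ?_⟩
      · have ht' : j⁻¹ * t * j ∈ (P : Subgroup G) := by
          have := (hconj j⁻¹ (inv_mem hj) t).1 ht
          simpa using this
        have := hx' _ ht'
        calc t * (j * x * j⁻¹) = j * ((j⁻¹ * t * j) * x) * j⁻¹ := by group
          _ = j * (x * (j⁻¹ * t * j)) * j⁻¹ := by rw [this]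
          _ = _ := by group
      · rw [conj_pow, hx'']
        simp
  -- a minimal good subgroup
  obtain ⟨W, hW⟩ := hE
  have hwf : WellFoundedLT (Subgroup G) := inferInstance
  obtain ⟨W, hWg, hmin⟩ := hwf.wf.has_min {W : Subgroup G | Good W} ⟨W, hW⟩
  obtain ⟨hW1, hWP, hWz, hWJ⟩ := hWg
  obtain ⟨z, hzW, hz1⟩ : ∃ z ∈ W, z ≠ 1 := by
    haveI : Nontrivial W := (Subgroup.nontrivial_iff_ne_bot W).2 hW1
    obtain ⟨⟨z, hz⟩, hz1⟩ := exists_ne (1 : W)
    exact ⟨z, hz, fun h => hz1 (Subtype.ext h)⟩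
  refine ⟨z, hWP hzW, hz1, (hWz z hzW).2, (hWz z hzW).1, fun j hj => ?_⟩
  -- `W` is abelian
  have hWc : ∀ a ∈ W, ∀ b ∈ W, a * b = b * a := fun a ha b hb => ((hWz b hb).1 a (hWP ha))
  letI : CommGroup W := { (inferInstance : Group W) with
    mul_comm := fun a b => Subtype.ext (hWc a a.2 b b.2) }
  haveI : Nontrivial W := (Subgroup.nontrivial_iff_ne_bot W).2 hW1
  have hjexp : j ^ (p - 1) = 1 := C.pab.exp hJc hj
  let φ : W →* W :=
    { toFun := fun x => ⟨j * x * j⁻¹, hWJ j hj x x.2⟩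
      map_one' := Subtype.ext (by simp)
      map_mul' := fun a b => Subtype.ext (by
        show j * ((a : G) * (b : G)) * j⁻¹ = (j * a * j⁻¹) * (j * b * j⁻¹)
        group) }
  have hφn : ∀ (n : ℕ) (x : W), ((φ^[n] x : W) : G) = j ^ n * x * (j ^ n)⁻¹ := by
    intro n x
    induction n generalizing x with
    | zero => simp
    | succ n ih =>
      rw [Function.iterate_succ_apply, ih]
      show j ^ n * (j * x * j⁻¹) * (j ^ n)⁻¹ = _
      rw [pow_succ]
      group
  have hφ : ∀ x, φ^[p - 1] x = x := by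
    intro x
    apply Subtype.ext
    rw [hφn, hjexp]
    simp
  obtain ⟨c, x, hx1, hxc⟩ := exists_eigen_mul (p := p) (fun x : W => Subtype.ext (by
    show (x : G) ^ p = 1
    exact (hWz x x.2).2)) φ hφ
  refine ⟨c, ?_⟩
  -- the eigenspace
  let Wc : Subgroup G :=
    { carrier := {w | w ∈ W ∧ j * w * j⁻¹ = w ^ c}
      one_mem' := ⟨one_mem _, by simp⟩
      mul_mem' := by
        rintro a b ⟨ha, ha'⟩ ⟨hb, hb'⟩
        refine ⟨mul_mem ha hb, ?_⟩
        have hab : Commute a b := hWc a ha b hb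
        rw [hab.mul_pow, ← ha', ← hb']
        group
      inv_mem' := by
        rintro a ⟨ha, ha'⟩
        refine ⟨inv_mem ha, ?_⟩
        rw [inv_pow, ← ha']
        group }
  have hWcW : Wc ≤ W := fun w hw => hw.1
  have hWcgood : Good Wc := by
    refine ⟨?_, hWcW.trans hWP, fun x hx => hWz x hx.1, ?_⟩
    · intro hbot
      have hxW : (x : G) ∈ Wc := ⟨x.2, congrArg Subtype.val hxc⟩
      rw [hbot, Subgroup.mem_bot] at hxW
      exact hx1 (Subtype.ext hxW)
    · rintro j' hj' w ⟨hw, hw'⟩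
      refine ⟨hWJ j' hj' w hw, ?_⟩
      have hjj : j * j' = j' * j := hJcomm j hj j' hj'
      rw [conj_pow, ← hw']
      calc j * (j' * w * j'⁻¹) * j⁻¹ = (j * j') * w * (j * j')⁻¹ := by group
        _ = (j' * j) * w * (j' * j)⁻¹ := by rw [hjj]
        _ = _ := by group
  have hWcEq : Wc = W := by
    by_contra hne
    exact hmin Wc hWcgood (lt_of_le_of_ne hWcW hne)
  have hzWc : z ∈ Wc := by rw [hWcEq]; exact hzW
  exact hzWc.2

end

end Cfsg.Agent.Lib.Blk89.PAb2.MinCE
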