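import Mathlib
import Cfsg.Agent.Lib.Blk89.PAb4

/-!
# Minimal counterexamples: the data `P, J, z`
-/

set_option autoImplicit false
set_option linter.style.haveILetI false

namespace Cfsg.Agent.Lib.Blk89.PAb2.MinCE

open Subgroup Cfsg Cfsg.Agent.Lib.Blk89.PAb0 Cfsg.Agent.Lib.Blk89.PAb1 Cfsg.Agent.Lib.Blk89.PAb2

universe u

variable {p : ℕ} [hp : Fact p.Prime] {G : Type u} [Group G] [Finite G]

/-- The data: Sylow subgroup `P`, complement `J` in `N(P)`, eigenvector `z`. -/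
structure Dat (P : Sylow p G) (J : Subgroup G) (z : G) : Prop where
  hJN : J ≤ normalizer ((P : Subgroup G) : Set G)
  hJc : (Nat.card J).Coprime p
  hidx : (P : Subgroup G).index = Nat.card J * (normalizer ((P : Subgroup G) : Set G)).index
  hdec : ∀ n ∈ normalizer ((P : Subgroup G) : Set G), ∃ u ∈ (P : Subgroup G), ∃ j ∈ J, n = u * j
  hzP : z ∈ (P : Subgroup G)
  hz1 : z ≠ 1
  hzp : z ^ p = 1
  hzc : ∀ t ∈ (P : Subgroup G), t * z = z * t
  hzJ : ∀ j ∈ J, ∃ c : ℕ, j * z * j⁻¹ = z ^ c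

lemma eq_one_of_mem_of_coprime {H : Subgroup G} (hc : (Nat.card H).Coprime p) {x : G} (hxH : x ∈ H)
    {k : ℕ} (hk : x ^ p ^ k = 1) : x = 1 := by
  have h1 : orderOf x ∣ p ^ k := orderOf_dvd_of_pow_eq_one hk
  have h2 : orderOf x ∣ Nat.card H := Subgroup.orderOf_dvd_natCard H hxH
  have c : (p ^ k).Coprime (Nat.card H) := Nat.Coprime.pow_left _ hc.symm
  exact orderOf_eq_one_iff.1 (Nat.eq_one_of_dvd_coprimes c h1 h2)

lemma orderOf_coprime_of_mem {H : Subgroup G} (hc : (Nat.card H).Coprime p) {x : G} (hxH : x ∈ H) :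
    (orderOf x).Coprime p :=
  Nat.Coprime.coprime_dvd_left (Subgroup.orderOf_dvd_natCard H hxH) hc

lemma conj_mem_normalizer_zpowers {g z : G} (h : g * z * g⁻¹ ∈ zpowers z) :
    g ∈ normalizer ((zpowers z : Subgroup G) : Set G) := by
  apply mem_normalizer_of_conj_mem
  rintro _ ⟨k, rfl⟩
  simp only
  rw [← conj_zpow]
  exact zpow_mem h k

/-- An automorphism which is both of `p`-power and `p'` order is trivial. -/
lemma commute_of_conj_eq {x u : G} {S : Subgroup G} (hxS : ∀ a ∈ S, x * a * x⁻¹ ∈ S)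
    (hua : ∀ a ∈ S, u * a * u⁻¹ = x * a * x⁻¹) (hxc : (orderOf x).Coprime p) {k : ℕ}
    (hu : u ^ p ^ k = 1) {a : G} (ha : a ∈ S) : x * a = a * x := by
  have hi : ∀ (i : ℕ), ∀ a ∈ S, x ^ i * a * (x ^ i)⁻¹ = u ^ i * a * (u ^ i)⁻¹ := by
    intro i
    induction i with
    | zero => simp
    | succ i ih =>
      intro a ha
      have h1 := ih _ (hxS a ha)
      have h2 := hua a ha
      calc x ^ (i + 1) * a * (x ^ (i + 1))⁻¹ = x ^ i * (x * a * x⁻¹) * (x ^ i)⁻¹ := by
            rw [pow_succ]; group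
        _ = u ^ i * (x * a * x⁻¹) * (u ^ i)⁻¹ := h1
        _ = u ^ i * (u * a * u⁻¹) * (u ^ i)⁻¹ := by rw [h2]
        _ = _ := by rw [pow_succ]; group
  have h3 := hi (orderOf x) a ha
  rw [pow_orderOf_eq_one] at h3
  simp only [one_mul, inv_one, mul_one] at h3
  have h4 : u ^ orderOf x * a = a * u ^ orderOf x := by
    rw [eq_mul_inv_iff_mul_eq] at h3
    exact h3.symm
  have hcop : (orderOf x).Coprime (orderOf u) :=
    Nat.Coprime.coprime_dvd_right (orderOf_dvd_of_pow_eq_one hu) (Nat.Coprime.pow_right _ hxc)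
  obtain ⟨m, hm⟩ := exists_pow_eq_self_of_coprime hcop
  have h5 : Commute u a := by
    have : Commute (u ^ orderOf x) a := h4
    have h6 := this.pow_left m
    rwa [hm] at h6
  have h7 := hua a ha
  have h8 : u * a * u⁻¹ = a := by rw [h5.eq]; group
  rw [h8] at h7
  rw [eq_mul_inv_iff_mul_eq] at h7
  exact h7.symm

namespace Dat

variable {P : Sylow p G} {J : Subgroup G} {z : G} (D : Dat P J z) (C : MinCE p G)

include D

lemma orderOf_z : orderOf z = p := orderOf_eq_prime D.hzp D.hz1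

lemma isPGroup_zpowers : IsPGroup p (zpowers z) := by
  rw [IsPGroup.iff_card, Nat.card_zpowers, D.orderOf_z]
  exact ⟨1, (pow_one p).symm⟩

lemma orderOf_J {j : G} (hj : j ∈ J) : (orderOf j).Coprime p := orderOf_coprime_of_mem D.hJc hj

lemma inf_J {x : G} (hx : x ∈ (P : Subgroup G)) (hxJ : x ∈ J) : x = 1 := by
  obtain ⟨k, hk⟩ := P.isPGroup' ⟨x, hx⟩
  exact eq_one_of_mem_of_coprime D.hJc hxJ (k := k) (congrArg Subtype.val hk)

include C

lemma J_comm {a b : G} (ha : a ∈ J) (hb : b ∈ J) : a * b = b * a := C.pab.comm D.hJc ha hb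

lemma J_exp {a : G} (ha : a ∈ J) : a ^ (p - 1) = 1 := C.pab.exp D.hJc ha

lemma card_J_modEq : Nat.card J ≡ 1 [MOD p] := by
  have h1 := C.index_modEq P
  have h2 := card_sylow_modEq_one p G
  rw [P.card_eq_index_normalizer] at h2
  rw [D.hidx] at h1
  have h3 : Nat.card J * (normalizer ((P : Subgroup G) : Set G)).index ≡ Nat.card J * 1 [MOD p] :=
    Nat.ModEq.mul_left _ h2
  rw [mul_one] at h3
  exact h3.symm.trans h1

lemma J_ne_bot : J ≠ ⊥ := by
  rintro rfl
  have hNP : normalizer ((P : Subgroup G) : Set G) ≤ (P : Subgroup G) := by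
    intro n hn
    obtain ⟨u, hu, j, hj, rfl⟩ := D.hdec n hn
    rw [Subgroup.mem_bot] at hj
    rw [hj, mul_one]
    exact hu
  have h1 := C.le_commutator_normalizer P
  have h2 : (P : Subgroup G) ≤ ⁅(P : Subgroup G), (P : Subgroup G)⁆ :=
    h1.trans (Subgroup.commutator_mono hNP hNP)
  haveI : Nontrivial (P : Subgroup G) := (Subgroup.nontrivial_iff_ne_bot _).2 (C.sylow_ne_bot P)
  haveI : Group.IsNilpotent (P : Subgroup G) := P.isPGroup'.isNilpotent
  apply Cfsg.Agent.Lib.Transfer.Frobenius.commutator_ne_top_of_isNilpotent (K := (P : Subgroup G))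
  rw [eq_top_iff]
  intro x _
  have h3 : (x : G) ∈ ⁅(P : Subgroup G), (P : Subgroup G)⁆ := h2 x.2
  rw [← Subgroup.map_subtype_commutator] at h3
  obtain ⟨y, hy, hxy⟩ := h3
  have : y = x := Subtype.ext hxy
  exact this ▸ hy

lemma lt_card_J : p < Nat.card J := by
  have h1 := D.card_J_modEq C
  have h2 : Nat.card J ≠ 1 := by
    intro h
    exact D.J_ne_bot C (Subgroup.eq_bot_of_card_eq _ h)
  have h3 : 0 < Nat.card J := Nat.card_pos
  have h4 : 1 < Nat.card J := by omega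
  have h5 := (Nat.modEq_iff_dvd' h4.le).1 h1.symm
  have h6 := Nat.le_of_dvd (by omega) h5
  omega

lemma normalizer_le_zpowers : normalizer ((P : Subgroup G) : Set G) ≤
    normalizer ((zpowers z : Subgroup G) : Set G) := by
  intro n hn
  apply conj_mem_normalizer_zpowers
  obtain ⟨u, hu, j, hj, rfl⟩ := D.hdec n hn
  obtain ⟨c, hc⟩ := D.hzJ j hj
  have h1 : (u * j) * z * (u * j)⁻¹ = u * (j * z * j⁻¹) * u⁻¹ := by group
  rw [h1, hc]
  have h2 : Commute u (z ^ c) := Commute.pow_right (D.hzc u hu) c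
  rw [h2.eq, mul_inv_cancel_right]
  exact pow_mem (mem_zpowers z) c

lemma normalizer_zpowers_eq : normalizer ((zpowers z : Subgroup G) : Set G) =
    normalizer ((P : Subgroup G) : Set G) := by
  refine C.eq_normalizer_of_le (D.normalizer_le_zpowers C) ?_
  exact C.normalizer_ne_top (by simpa using D.hz1) (C.not_isPGroup_top D.isPGroup_zpowers)

/-- **Uniqueness.** -/
lemma uniq {g : G} (hg : g * z * g⁻¹ ∈ (P : Subgroup G)) :
    g ∈ normalizer ((P : Subgroup G) : Set G) := by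
  obtain ⟨n, hn, hna⟩ := C.ctrl P {z} (Set.singleton_subset_iff.2 D.hzP) g (by
    rintro a (rfl : a = z)
    exact hg)
  have h1 : n * z * n⁻¹ ∈ zpowers z :=
    (Subgroup.mem_normalizer_iff.1 (D.normalizer_le_zpowers C hn) z).1 (mem_zpowers z)
  rw [hna z rfl] at h1
  rw [← D.normalizer_zpowers_eq C]
  exact conj_mem_normalizer_zpowers h1

/-- Every `p`-subgroup containing `z` lies in `P`. -/
lemma pgroup_le {S : Subgroup G} (hS : IsPGroup p S) (hz : z ∈ S) : S ≤ (P : Subgroup G) := by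
  obtain ⟨P', hP'⟩ := hS.exists_le_sylow
  obtain ⟨g, hg⟩ := MulAction.exists_smul_eq G P P'
  have hz' : z ∈ ((g • P : Sylow p G) : Subgroup G) := by
    rw [hg]
    exact hP' hz
  rw [Sylow.coe_subgroup_smul, Cfsg.Agent.Lib.Solvable.Hall.mem_conj_smul_iff] at hz'
  have h1 : g⁻¹ ∈ normalizer ((P : Subgroup G) : Set G) := D.uniq C (by simpa using hz')
  have h2 : g ∈ normalizer ((P : Subgroup G) : Set G) := by simpa using inv_mem h1
  have h3 : g • P = P := Sylow.smul_eq_iff_mem_normalizer.2 h2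
  rw [h3] at hg
  rw [hg]
  exact hP'

end Dat

lemma mem_sylow_of_mem_normalizer (P : Sylow p G) {x : G}
    (hx : x ∈ normalizer ((P : Subgroup G) : Set G)) {k : ℕ} (hk : x ^ p ^ k = 1) :
    x ∈ (P : Subgroup G) := by
  have h1 : IsPGroup p (zpowers x) := by
    rw [IsPGroup.iff_card, Nat.card_zpowers]
    obtain ⟨i, -, hi⟩ := (Nat.dvd_prime_pow hp.out).1 (orderOf_dvd_of_pow_eq_one hk)
    exact ⟨i, hi⟩
  have h2 : zpowers x ≤ normalizer ((P : Subgroup G) : Set G) := by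
    rwa [Subgroup.zpowers_le]
  have h3 : IsPGroup p ((P : Subgroup G) ⊔ zpowers x : Subgroup G) :=
    IsPGroup.to_sup_of_normal_left' P.isPGroup' h1 h2
  have h4 := P.is_maximal' h3 le_sup_left
  rw [← h4]
  exact mem_sup_right (mem_zpowers x)

end Cfsg.Agent.Lib.Blk89.PAb2.MinCE
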