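import Mathlib
import Cfsg.Agent.Lib.Blk89.PAb5

/-!
# Minimal counterexamples: the case where `J` centralizes `z`
-/

set_option autoImplicit false
set_option linter.style.haveILetI false

namespace Cfsg.Agent.Lib.Blk89.PAb2.MinCE

open Subgroup Cfsg Cfsg.Agent.Lib.Blk89.PAb0 Cfsg.Agent.Lib.Blk89.PAb1 Cfsg.Agent.Lib.Blk89.PAb2
open Cfsg.Agent.Lib.Solvable.Hall Cfsg.Agent.Lib.Solvable.HallRel
open scoped Pointwise

universe u

variable {p : ℕ} [hp : Fact p.Prime] {G : Type u} [Group G] [Finite G]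

omit hp [Finite G] in
lemma centralizer_subgroupOf_normal (Q : Subgroup G) :
    ((centralizer (Q : Set G)).subgroupOf (normalizer (Q : Set G))).Normal := by
  refine ⟨fun c hc' a => ?_⟩
  rw [Subgroup.mem_subgroupOf] at hc' ⊢
  rw [Subgroup.mem_centralizer_iff] at hc' ⊢
  intro x hx
  have hx' : (a : G)⁻¹ * x * (a : G) ∈ Q := by
    have := (Subgroup.mem_normalizer_iff.1 (inv_mem a.2) x).1 hx
    simpa using this
  have h1 := hc' _ hx'
  simp only [Subgroup.coe_mul, InvMemClass.coe_inv]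
  calc x * ((a : G) * c * (a : G)⁻¹)
      = (a : G) * ((a : G)⁻¹ * x * (a : G) * c) * (a : G)⁻¹ := by group
    _ = (a : G) * (c * ((a : G)⁻¹ * x * (a : G))) * (a : G)⁻¹ := by rw [h1]
    _ = _ := by group

namespace Dat

variable {P : Sylow p G} {J : Subgroup G} {z : G} (D : Dat P J z) (C : MinCE p G)

include D C

/-- The `p'`-elements of `C_G(J)` form an abelian maximal `p'`-subgroup when `J` centralizes `z`. -/
lemma exists_maxR (hcent : ∀ j ∈ J, j * z = z * j) : ∃ R : Subgroup G, (Nat.card R).Coprime p ∧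
    J ≤ R ∧ (∀ r ∈ R, z * r * z⁻¹ ∈ R) ∧ ∀ L : Subgroup G, R ≤ L → (Nat.card L).Coprime p → L ≤ R := by
  classical
  set V := centralizer (J : Set G) with hV
  obtain ⟨y, hyJ, hy1⟩ : ∃ y ∈ J, y ≠ 1 := by
    have h1 := D.J_ne_bot C
    haveI : Nontrivial J := (Subgroup.nontrivial_iff_ne_bot J).2 h1
    obtain ⟨⟨z, hz⟩, hz1⟩ := exists_ne (1 : J)
    exact ⟨z, hz, fun h => hz1 (Subtype.ext h)⟩
  have hVne : V ≠ ⊤ := by
    intro hV'
    apply C.centralizer_ne_top hy1
    rw [eq_top_iff]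
    intro g _
    have hg : g ∈ V := by rw [hV']; trivial
    rw [hV, Subgroup.mem_centralizer_iff] at hg
    rw [Subgroup.mem_centralizer_iff]
    rintro _ (rfl : _ = y)
    exact hg _ hyJ
  obtain ⟨R, S, hRV, hSR, hSp, hpR, hRconj, hSconj, hRS, hcop⟩ := C.residual V hVne
  have hzV : z ∈ V := by
    rw [hV, Subgroup.mem_centralizer_iff]
    exact hcent
  have hSP : S ≤ (P : Subgroup G) := by
    have hzn : zpowers z ≤ normalizer (S : Set G) := by
      rw [Subgroup.zpowers_le]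
      exact mem_normalizer_of_conj_mem (hSconj z hzV)
    have h := IsPGroup.to_sup_of_normal_left' hSp D.isPGroup_zpowers hzn
    exact le_sup_left.trans (D.pgroup_le C h (mem_sup_right (mem_zpowers z)))
  have hcen : ∀ x ∈ V, (orderOf x).Coprime p → ∀ s ∈ S, x * s = s * x := by
    intro x hxV hxc s hs
    obtain ⟨n, hn, hna⟩ := C.ctrl P (S : Set G) (fun a ha => hSP ha) x
      (fun a ha => hSP (hSconj x hxV a ha))
    obtain ⟨u, hu, j, hj, rfl⟩ := D.hdec n hn
    have hua : ∀ a ∈ S, u * a * u⁻¹ = x * a * x⁻¹ := by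
      intro a ha
      rw [← hna a ha]
      have haV : a ∈ V := hRV (hSR ha)
      rw [hV, Subgroup.mem_centralizer_iff] at haV
      have h1 := haV j hj
      calc u * a * u⁻¹ = u * (a * j * j⁻¹) * u⁻¹ := by group
        _ = u * (j * a * j⁻¹) * u⁻¹ := by rw [h1]
        _ = _ := by group
    obtain ⟨k, hk⟩ := P.isPGroup' ⟨u, hu⟩
    exact commute_of_conj_eq (hSconj x hxV) hua hxc (k := k) (congrArg Subtype.val hk) hs
  have hRc := hcop hcen
  have hJR : J ≤ R := by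
    intro j hj
    apply hpR j _ (D.orderOf_J hj)
    rw [hV, Subgroup.mem_centralizer_iff]
    intro j' hj'
    exact D.J_comm C hj' hj
  refine ⟨R, hRc, hJR, hRconj z hzV, fun L hRL hL x hx => ?_⟩
  apply hpR x _ (orderOf_coprime_of_mem hL hx)
  rw [hV, Subgroup.mem_centralizer_iff]
  intro j hj
  exact C.pab.comm hL (hRL (hJR hj)) hx

/-- The main contradiction of the central case. -/
theorem false_of_maxR (R : Subgroup G) (hRc : (Nat.card R).Coprime p) (hJR : J ≤ R)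
    (hRz : ∀ r ∈ R, z * r * z⁻¹ ∈ R)
    (hmax : ∀ L : Subgroup G, R ≤ L → (Nat.card L).Coprime p → L ≤ R) : False := by
  classical
  have hpp := hp.out
  obtain ⟨q, hq, hqd⟩ : ∃ q, q.Prime ∧ q ∣ Nat.card J := by
    apply Nat.exists_prime_and_dvd
    intro h
    exact D.J_ne_bot C (Subgroup.eq_bot_of_card_eq _ h)
  haveI : Fact q.Prime := ⟨hq⟩
  obtain ⟨⟨y, hyJ⟩, hyo⟩ := exists_prime_orderOf_dvd_card' q hqd
  have hyo' : orderOf y = q := by rwa [Subgroup.orderOf_mk] at hyo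
  have hy1 : y ≠ 1 := by
    rintro rfl
    rw [orderOf_one] at hyo'
    exact hq.one_lt.ne hyo'
  have hqp : q ≠ p := by
    rintro rfl
    have := Nat.Coprime.coprime_dvd_left hqd D.hJc
    rw [Nat.coprime_self] at this
    exact hq.one_lt.ne' this
  have hyR : y ∈ R := hJR hyJ
  have hRab : ∀ a ∈ R, ∀ b ∈ R, a * b = b * a := fun a ha b hb => C.pab.comm hRc ha hb
  -- the Sylow subgroup
  have hyq : IsPGroup q (zpowers (⟨y, hyR⟩ : R)) := by
    rw [IsPGroup.iff_card, Nat.card_zpowers, Subgroup.orderOf_mk, hyo']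
    exact ⟨1, (pow_one q).symm⟩
  obtain ⟨Q₂, hQ₂⟩ := hyq.exists_le_sylow
  set Q₃ : Subgroup G := (Q₂ : Subgroup R).map R.subtype with hQ₃
  have hyQ₃ : y ∈ Q₃ := ⟨⟨y, hyR⟩, hQ₂ (mem_zpowers _), rfl⟩
  have hQ₃p : IsPGroup q Q₃ := Q₂.isPGroup'.map _
  have hQ₃R : Q₃ ≤ R := by
    rintro _ ⟨x, -, rfl⟩
    exact x.2
  obtain ⟨Q₁, hQ₁⟩ := hQ₃p.exists_le_sylow
  have hQ₁c := C.sylow_coprime hqp Q₁
  set D₀ := centralizer (Q₃ : Set G) with hD₀
  have hD₀ne : D₀ ≠ ⊤ := by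
    intro hD'
    apply C.centralizer_ne_top hy1
    rw [eq_top_iff]
    intro g _
    have hg : g ∈ D₀ := by rw [hD']; trivial
    rw [hD₀, Subgroup.mem_centralizer_iff] at hg
    rw [Subgroup.mem_centralizer_iff]
    rintro _ (rfl : _ = y)
    exact hg _ hyQ₃
  have hRD₀ : R ≤ D₀ := by
    intro r hr
    rw [hD₀, Subgroup.mem_centralizer_iff]
    intro x hx
    exact hRab x (hQ₃R hx) r hr
  have hQ₁D₀ : (Q₁ : Subgroup G) ≤ D₀ := by
    intro r hr
    rw [hD₀, Subgroup.mem_centralizer_iff]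
    intro x hx
    exact C.pab.comm hQ₁c (hQ₁ hx) hr
  have hDs : Group.IsSolvable D₀ := C.solv D₀ hD₀ne
  -- `R` is a Hall subgroup of `D₀`
  set n := Nat.card D₀ with hn
  have hn0 : n ≠ 0 := Nat.card_pos.ne'
  have hfac : n = (n / p ^ n.factorization p) * p ^ n.factorization p :=
    by rw [mul_comm]; exact (Nat.ordProj_mul_ordCompl_eq_self n p).symm
  have hmc : (n / p ^ n.factorization p).Coprime (p ^ n.factorization p) :=
    Nat.Coprime.pow_right _ (Nat.coprime_ordCompl hpp hn0).symm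
  have hcardK : Nat.card (R.subgroupOf D₀) = Nat.card R := card_subgroupOf_of_le hRD₀
  obtain ⟨H₁, hH₁c, hKH₁⟩ := exists_card_eq_le (G := D₀) (n / p ^ n.factorization p)
    (p ^ n.factorization p) hfac hmc (R.subgroupOf D₀)
    (by rw [hcardK]; exact Nat.Coprime.pow_right _ hRc)
  have hcardL : Nat.card (H₁.map D₀.subtype) = n / p ^ n.factorization p := by
    rw [Subgroup.card_map_of_injective D₀.subtype_injective, hH₁c]
  have hRL : R ≤ H₁.map D₀.subtype := by
    intro r hr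
    exact ⟨⟨r, hRD₀ hr⟩, hKH₁ (by rw [Subgroup.mem_subgroupOf]; exact hr), rfl⟩
  have hLc : (Nat.card (H₁.map D₀.subtype)).Coprime p := by
    rw [hcardL]
    exact (Nat.coprime_ordCompl hpp hn0).symm
  have hLR := hmax _ hRL hLc
  have hRL' : R = H₁.map D₀.subtype := le_antisymm hRL hLR
  have hcardR : Nat.card R = n / p ^ n.factorization p := by rw [hRL', hcardL]
  have hcardD : n = Nat.card R * p ^ n.factorization p := by rw [hcardR]; exact hfac
  have hrel : R.relIndex D₀ = p ^ n.factorization p := by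
    have h1 := (R.subgroupOf D₀).card_mul_index
    rw [hcardK, ← hn] at h1
    have hRpos : 0 < Nat.card R := Nat.card_pos
    apply Nat.eq_of_mul_eq_mul_left hRpos
    rw [← hcardD]
    exact h1
  have hRcop : (Nat.card R).Coprime (R.relIndex D₀) := by
    rw [hrel]
    exact Nat.Coprime.pow_right _ hRc
  -- `|Q₁|` divides `|R|`
  have hQ₁dvd : Nat.card (Q₁ : Subgroup G) ∣ Nat.card R := by
    have h1 : Nat.card (Q₁ : Subgroup G) ∣ n := Subgroup.card_dvd_of_le hQ₁D₀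
    rw [hcardD] at h1
    exact Nat.Coprime.dvd_of_dvd_mul_right (Nat.Coprime.pow_right _ hQ₁c) h1
  have hQeq : Q₃ = (Q₁ : Subgroup G) := by
    apply Subgroup.eq_of_le_of_card_ge hQ₁
    have hcQ₃ : Nat.card Q₃ = Nat.card (Q₂ : Subgroup R) :=
      Subgroup.card_map_of_injective R.subtype_injective
    rw [hcQ₃, Q₂.card_eq_multiplicity]
    obtain ⟨e, he⟩ := IsPGroup.iff_card.1 Q₁.isPGroup'
    rw [he] at hQ₁dvd ⊢
    have hRne : Nat.card R ≠ 0 := Nat.card_pos.ne'
    have h2 : e ≤ (Nat.card R).factorization q :=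
      (hq.pow_dvd_iff_le_factorization hRne).1 hQ₁dvd
    exact Nat.pow_le_pow_right hq.pos h2
  have hQ₁R : (Q₁ : Subgroup G) ≤ R := hQeq ▸ hQ₃R
  have hyQ₁ : y ∈ (Q₁ : Subgroup G) := hQ₁ hyQ₃
  have hD₀' : D₀ = centralizer ((Q₁ : Subgroup G) : Set G) := by rw [hD₀, hQeq]
  -- the `p`-element moving `y`
  obtain ⟨T⟩ : Nonempty (Sylow p (normalizer ((Q₁ : Subgroup G) : Set G))) := inferInstance
  obtain ⟨t, ht, hty⟩ := C.lemF hqp Q₁ T hyQ₁ hy1
  have hτN : (t : G) ∈ normalizer ((Q₁ : Subgroup G) : Set G) := t.2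
  set τ : G := (t : G) with hτ
  -- `τ` normalizes `D₀`
  have hτD : ∀ d ∈ D₀, τ * d * τ⁻¹ ∈ D₀ := by
    intro d hd
    rw [hD₀'] at hd ⊢
    rw [Subgroup.mem_centralizer_iff] at hd ⊢
    intro x hx
    have hx' : τ⁻¹ * x * τ ∈ (Q₁ : Subgroup G) := by
      have := (Subgroup.mem_normalizer_iff.1 (inv_mem hτN) x).1 hx
      simpa using this
    have h1 := hd _ hx'
    calc x * (τ * d * τ⁻¹) = τ * ((τ⁻¹ * x * τ) * d) * τ⁻¹ := by group
      _ = τ * (d * (τ⁻¹ * x * τ)) * τ⁻¹ := by rw [h1]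
      _ = _ := by group
  have hK'D₀ : MulAut.conj τ • R ≤ D₀ := by
    intro x hx
    rw [mem_conj_smul_iff] at hx
    have := hτD _ (hRD₀ hx)
    simpa [mul_assoc] using this
  obtain ⟨l, hl, hlR⟩ := exists_conj_eq_of_le hDs hRD₀ hK'D₀ hRcop (card_conj_smul τ R)
  set w := l⁻¹ * τ with hw
  have hwR : w ∈ normalizer (R : Set G) := by
    apply mem_normalizer_of_conj_mem
    intro r hr
    have h1 : τ * r * τ⁻¹ ∈ MulAut.conj τ • R := by
      rw [mem_conj_smul_iff]
      simpa [mul_assoc] using hr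
    rw [← hlR, mem_conj_smul_iff] at h1
    have h2 : w * r * w⁻¹ = l⁻¹ * (τ * r * τ⁻¹) * l := by rw [hw]; group
    rw [h2]
    exact h1
  have hwy : w * y * w⁻¹ ≠ y := by
    have h2 : w * y * w⁻¹ = l⁻¹ * (τ * y * τ⁻¹) * l := by rw [hw]; group
    rw [h2]
    have h3 : τ * y * τ⁻¹ ∈ (Q₁ : Subgroup G) := (Subgroup.mem_normalizer_iff.1 hτN y).1 hyQ₁
    have hl' : l ∈ centralizer ((Q₁ : Subgroup G) : Set G) := hD₀' ▸ hl
    rw [Subgroup.mem_centralizer_iff] at hl'
    have h4 := hl' _ h3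
    rw [mul_assoc, h4, inv_mul_cancel_left]
    exact hty
  -- `N(R)` centralizes `y`
  have hzA : z ∈ normalizer (R : Set G) := mem_normalizer_of_conj_mem hRz
  have hzq : IsPGroup p (zpowers (⟨z, hzA⟩ : normalizer (R : Set G))) := by
    rw [IsPGroup.iff_card, Nat.card_zpowers, Subgroup.orderOf_mk, D.orderOf_z]
    exact ⟨1, (pow_one p).symm⟩
  obtain ⟨T', hT'⟩ := hzq.exists_le_sylow
  have hT₁P : (T' : Subgroup (normalizer (R : Set G))).map (normalizer (R : Set G)).subtype ≤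
      (P : Subgroup G) := by
    apply D.pgroup_le C (T'.isPGroup'.map _)
    exact ⟨⟨z, hzA⟩, hT' (mem_zpowers _), rfl⟩
  haveI hCn := centralizer_subgroupOf_normal R
  have hpp' : ∀ x : normalizer (R : Set G), (orderOf x).Coprime p →
      x ∈ (centralizer (R : Set G)).subgroupOf (normalizer (R : Set G)) := by
    intro x hx
    rw [Subgroup.mem_subgroupOf, Subgroup.mem_centralizer_iff]
    intro m hm
    have hx' : (orderOf (x : G)).Coprime p := by rwa [Subgroup.orderOf_coe]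
    exact (C.pab.commute_of_mem_normalizer hRc x.2 hx' hm).symm
  obtain ⟨c, hc, t', ht', hct⟩ := exists_mul_of_pprime_mem _ hpp' T' ⟨w, hwR⟩
  have hw' : w = (c : G) * (t' : G) := congrArg Subtype.val hct
  have ht'P : (t' : G) ∈ (P : Subgroup G) := hT₁P ⟨t', ht', rfl⟩
  have hty' : (t' : G) * y * (t' : G)⁻¹ = y := by
    have he1 : (t' : G) * y * (t' : G)⁻¹ * y⁻¹ ∈ R :=
      mul_mem ((Subgroup.mem_normalizer_iff.1 t'.2 y).1 hyR) (inv_mem hyR)
    have he2 : (t' : G) * y * (t' : G)⁻¹ * y⁻¹ ∈ (P : Subgroup G) := by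
      have h1 : y * (t' : G)⁻¹ * y⁻¹ ∈ (P : Subgroup G) :=
        (Subgroup.mem_normalizer_iff.1 (D.hJN hyJ) _).1 (inv_mem ht'P)
      have h2 := mul_mem ht'P h1
      have h3 : (t' : G) * y * (t' : G)⁻¹ * y⁻¹ = (t' : G) * (y * (t' : G)⁻¹ * y⁻¹) := by group
      rw [h3]
      exact h2
    obtain ⟨k, hk⟩ := P.isPGroup' ⟨_, he2⟩
    have h4 := eq_one_of_mem_of_coprime hRc he1 (k := k) (congrArg Subtype.val hk)
    rwa [mul_inv_eq_one] at h4
  apply hwy
  rw [Subgroup.mem_subgroupOf, Subgroup.mem_centralizer_iff] at hc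
  have hcy := hc y hyR
  rw [hw']
  calc (c : G) * t' * y * ((c : G) * t')⁻¹ = c * ((t' : G) * y * (t' : G)⁻¹) * (c : G)⁻¹ := by group
    _ = c * y * (c : G)⁻¹ := by rw [hty']
    _ = y := by rw [← hcy]; group

theorem false_of_central (hcent : ∀ j ∈ J, j * z = z * j) : False := by
  obtain ⟨R, hRc, hJR, hRz, hmax⟩ := D.exists_maxR C hcent
  exact D.false_of_maxR C R hRc hJR hRz hmax

end Dat

end Cfsg.Agent.Lib.Blk89.PAb2.MinCE
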