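import Mathlib
import Cfsg.Agent.Lib.Blk89.PAb6

/-!
# Minimal counterexamples: the case where `J` does not centralize `z`
-/

set_option autoImplicit false
set_option linter.style.haveILetI false

namespace Cfsg.Agent.Lib.Blk89.PAb2.MinCE

open Subgroup Cfsg Cfsg.Agent.Lib.Blk89.PAb0 Cfsg.Agent.Lib.Blk89.PAb1 Cfsg.Agent.Lib.Blk89.PAb2
open Cfsg.Agent.Lib.Solvable.Hall Cfsg.Agent.Lib.Solvable.HallRel
open scoped Pointwise

universe u

lemma arith_false {p q a b : ℕ} (hp : p.Prime) (hq : q.Prime) (hp2 : p ≠ 2) (hp3 : p ≠ 3)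
    (hqp : q + 1 ≤ p) (hba : b < a) (ha : a ≤ 2) (h : q ^ a ≡ q ^ b [MOD p]) : False := by
  have hq2 := hq.two_le
  have hnd1 : ¬ p ∣ q - 1 := fun hd => by
    have := Nat.le_of_dvd (by omega) hd
    omega
  have hnd2 : ¬ p ∣ q := fun hd => by
    have := Nat.le_of_dvd (by omega) hd
    omega
  have hcases : (a = 1 ∧ b = 0) ∨ (a = 2 ∧ b = 0) ∨ (a = 2 ∧ b = 1) := by omega
  rcases hcases with ⟨rfl, rfl⟩ | ⟨rfl, rfl⟩ | ⟨rfl, rfl⟩
  · simp only [pow_one, pow_zero] at h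
    exact hnd1 ((Nat.modEq_iff_dvd' (by omega)).1 h.symm)
  · simp only [pow_zero] at h
    have hd := (Nat.modEq_iff_dvd' (Nat.one_le_pow _ _ (by omega))).1 h.symm
    have he : q ^ 2 - 1 = (q - 1) * (q + 1) := by
      obtain ⟨m, rfl⟩ : ∃ m, q = m + 1 := ⟨q - 1, by omega⟩
      simp only [Nat.add_sub_cancel]
      have : (m + 1) ^ 2 = m * (m + 1 + 1) + 1 := by ring
      omega
    rw [he, hp.dvd_mul] at hd
    rcases hd with hd | hd
    · exact hnd1 hd
    · have h1 := Nat.le_of_dvd (by omega) hd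
      have h2 : p = q + 1 := by omega
      rcases hq.eq_two_or_odd' with h3 | h3
      · subst h3
        exact hp3 h2
      · rcases hp.eq_two_or_odd' with h4 | h4
        · exact hp2 h4
        · subst h2
          rcases h3 with ⟨k, rfl⟩
          rcases h4 with ⟨l, hl⟩
          omega
  · simp only [pow_one] at h
    have hd := (Nat.modEq_iff_dvd' (by nlinarith)).1 h.symm
    have he : q ^ 2 - q = q * (q - 1) := by
      obtain ⟨m, rfl⟩ : ∃ m, q = m + 1 := ⟨q - 1, by omega⟩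
      simp only [Nat.add_sub_cancel]
      have : (m + 1) ^ 2 = (m + 1) * m + (m + 1) := by ring
      omega
    rw [he, hp.dvd_mul] at hd
    rcases hd with hd | hd
    · exact hnd2 hd
    · exact hnd1 hd

variable {p : ℕ} [hp : Fact p.Prime] {G : Type u} [Group G] [Finite G]

namespace Dat

variable {P : Sylow p G} {J : Subgroup G} {z : G} (D : Dat P J z) (C : MinCE p G)

include D C

/-- **Lemma M.** -/
lemma lemM {j₀ : G} (hj₀ : j₀ ∈ J) (hj₀z : j₀ * z ≠ z * j₀) {y : G} (hyJ : y ∈ J) (hy1 : y ≠ 1)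
    (hyz : y * z = z * y) {x : G} (hx : x * y = y * x) :
    x ∈ normalizer ((P : Subgroup G) : Set G) := by
  obtain ⟨R, S, hRX, hSR, hSp, hpR, hRconj, hSconj, hRS, -⟩ :=
    C.residual _ (C.centralizer_ne_top hy1)
  have hmemX : ∀ g : G, y * g = g * y → g ∈ centralizer ({y} : Set G) := by
    intro g hg
    rw [Subgroup.mem_centralizer_iff]
    rintro _ (rfl : _ = y)
    exact hg
  have hj₀X := hmemX j₀ (D.J_comm C hyJ hj₀)
  have hj₀R := hpR j₀ hj₀X (D.orderOf_J hj₀)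
  have hzX := hmemX z hyz
  have h1 := hRconj z hzX _ (inv_mem hj₀R)
  have hwR : j₀ * (z * j₀⁻¹ * z⁻¹) ∈ R := mul_mem hj₀R h1
  obtain ⟨c, hc⟩ := D.hzJ j₀ hj₀
  set w := j₀ * (z * j₀⁻¹ * z⁻¹) with hw
  have hw2 : w = (j₀ * z * j₀⁻¹) * z⁻¹ := by rw [hw]; group
  have hwz : w ∈ zpowers z := by
    rw [hw2, hc]
    exact mul_mem (pow_mem (mem_zpowers z) c) (inv_mem (mem_zpowers z))
  have hw1 : w ≠ 1 := by
    intro h
    rw [h, eq_comm, mul_inv_eq_one, mul_inv_eq_iff_eq_mul] at hw2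
    exact hj₀z hw2
  have hzw : z ∈ zpowers w := by
    have hle : zpowers w ≤ zpowers z := by rwa [Subgroup.zpowers_le]
    have heq : zpowers w = zpowers z := by
      apply Subgroup.eq_of_le_of_card_ge hle
      rw [Nat.card_zpowers, Nat.card_zpowers, D.orderOf_z]
      have h2 : orderOf w ∣ p := by
        have := Subgroup.card_dvd_of_le hle
        rwa [Nat.card_zpowers, Nat.card_zpowers, D.orderOf_z] at this
      rcases (Nat.dvd_prime hp.out).1 h2 with h3 | h3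
      · exact absurd (orderOf_eq_one_iff.1 h3) hw1
      · exact h3.ge
    rw [heq]
    exact mem_zpowers z
  have hzR : z ∈ R := (Subgroup.zpowers_le.2 hwR) hzw
  have hzS : z ∈ S := hRS z hzR 1 (by simpa using D.hzp)
  have hSP := D.pgroup_le C hSp hzS
  exact D.uniq C (hSP (hSconj x (hmemX x hx.symm) z hzS))

/-- There is a nontrivial element of `J` centralizing `z`. -/
lemma exists_kernel : ∃ y ∈ J, y ≠ 1 ∧ y * z = z * y := by
  classical
  by_contra hcon
  push Not at hcon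
  let f : J → zpowers z := fun j => ⟨j * z * (j : G)⁻¹, by
    obtain ⟨c, hc⟩ := D.hzJ j j.2
    rw [hc]
    exact pow_mem (mem_zpowers z) c⟩
  have hf : Function.Injective f := by
    intro a b hab
    have h1 : (a : G) * z * (a : G)⁻¹ = b * z * (b : G)⁻¹ := congrArg Subtype.val hab
    by_contra hne
    have h2 : (b : G)⁻¹ * a ≠ 1 := by
      intro h
      rw [inv_mul_eq_one] at h
      exact hne (Subtype.ext h.symm)
    apply hcon _ (mul_mem (inv_mem b.2) a.2) h2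
    calc (b : G)⁻¹ * a * z = (b : G)⁻¹ * ((a : G) * z * (a : G)⁻¹) * a := by group
      _ = (b : G)⁻¹ * (b * z * (b : G)⁻¹) * a := by rw [h1]
      _ = _ := by group
  have h1 : (1 : zpowers z) ∉ Set.range f := by
    rintro ⟨j, hj⟩
    have h2 : (j : G) * z * (j : G)⁻¹ = 1 := congrArg Subtype.val hj
    apply D.hz1
    rw [mul_inv_eq_one] at h2
    exact mul_left_cancel (h2.trans (mul_one _).symm)
  haveI := Fintype.ofFinite J
  haveI := Fintype.ofFinite (zpowers z)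
  have h3 := Fintype.card_lt_of_injective_of_notMem f hf h1
  rw [← Nat.card_eq_fintype_card, ← Nat.card_eq_fintype_card, Nat.card_zpowers, D.orderOf_z] at h3
  have h4 := D.lt_card_J C
  omega

/-- The case where `J` does not centralize `z`. -/
theorem false_of_noncentral {j₀ : G} (hj₀ : j₀ ∈ J) (hj₀z : j₀ * z ≠ z * j₀) : False := by
  classical
  have hpp := hp.out
  obtain ⟨y₀, hy₀J, hy₀1, hy₀z⟩ := D.exists_kernel C
  -- an element of prime order
  obtain ⟨q, hq, hqd⟩ : ∃ q, q.Prime ∧ q ∣ orderOf y₀ := by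
    apply Nat.exists_prime_and_dvd
    intro h
    exact hy₀1 (orderOf_eq_one_iff.1 h)
  haveI : Fact q.Prime := ⟨hq⟩
  set y := y₀ ^ (orderOf y₀ / q) with hy
  have hyo : orderOf y = q := orderOf_pow_orderOf_div (orderOf_pos y₀).ne' hqd
  have hyJ : y ∈ J := pow_mem hy₀J _
  have hy1 : y ≠ 1 := by
    intro h
    rw [h, orderOf_one] at hyo
    exact hq.one_lt.ne hyo
  have hyz : y * z = z * y := (Commute.pow_left hy₀z _).eq
  have hqp : q ≠ p := by
    rintro rfl
    have := orderOf_coprime_of_mem D.hJc hyJ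
    rw [hyo, Nat.coprime_self] at this
    exact hq.one_lt.ne' this
  have hqle : q + 1 ≤ p := by
    have h1 : orderOf y ∣ p - 1 := orderOf_dvd_of_pow_eq_one (D.J_exp C hyJ)
    rw [hyo] at h1
    have h2 := Nat.le_of_dvd (Nat.sub_pos_of_lt hpp.one_lt) h1
    have := hpp.one_lt
    omega
  -- the Sylow subgroup of `J`
  have hyq : IsPGroup q (zpowers (⟨y, hyJ⟩ : J)) := by
    rw [IsPGroup.iff_card, Nat.card_zpowers, Subgroup.orderOf_mk, hyo]
    exact ⟨1, (pow_one q).symm⟩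
  obtain ⟨Q₂, hQ₂⟩ := hyq.exists_le_sylow
  set Q₃ : Subgroup G := (Q₂ : Subgroup J).map J.subtype with hQ₃
  have hyQ₃ : y ∈ Q₃ := ⟨⟨y, hyJ⟩, hQ₂ (mem_zpowers _), rfl⟩
  have hQ₃p : IsPGroup q Q₃ := Q₂.isPGroup'.map _
  have hQ₃J : Q₃ ≤ J := by
    rintro _ ⟨x, -, rfl⟩
    exact x.2
  obtain ⟨Q, hQ⟩ := hQ₃p.exists_le_sylow
  have hQc := C.sylow_coprime hqp Q
  have hyQ : y ∈ (Q : Subgroup G) := hQ hyQ₃
  have hQN : (Q : Subgroup G) ≤ normalizer ((P : Subgroup G) : Set G) := by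
    intro x hx
    exact D.lemM C hj₀ hj₀z hyJ hy1 hyz (C.pab.comm hQc hx hyQ)
  -- `|N(P)| = |P| |J|`
  have hcardN : Nat.card (normalizer ((P : Subgroup G) : Set G)) =
      Nat.card (P : Subgroup G) * Nat.card J := by
    have h1 := (P : Subgroup G).card_mul_index
    have h2 := (normalizer ((P : Subgroup G) : Set G)).card_mul_index
    rw [D.hidx, ← h2] at h1
    have hpos : 0 < (normalizer ((P : Subgroup G) : Set G)).index := by
      exact Nat.pos_of_ne_zero Subgroup.FiniteIndex.index_ne_zero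
    apply Nat.eq_of_mul_eq_mul_right hpos
    rw [← h1]
    ring
  have hQdvd : Nat.card (Q : Subgroup G) ∣ Nat.card J := by
    have h1 := Subgroup.card_dvd_of_le hQN
    rw [hcardN] at h1
    refine Nat.Coprime.dvd_of_dvd_mul_left ?_ h1
    obtain ⟨k, hk⟩ := IsPGroup.iff_card.1 P.isPGroup'
    rw [hk]
    exact Nat.Coprime.pow_right _ hQc
  have hQeq : Q₃ = (Q : Subgroup G) := by
    apply Subgroup.eq_of_le_of_card_ge hQ
    have hcQ₃ : Nat.card Q₃ = Nat.card (Q₂ : Subgroup J) :=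
      Subgroup.card_map_of_injective J.subtype_injective
    rw [hcQ₃, Q₂.card_eq_multiplicity]
    obtain ⟨e, he⟩ := IsPGroup.iff_card.1 Q.isPGroup'
    rw [he] at hQdvd ⊢
    have hJne : Nat.card J ≠ 0 := Nat.card_pos.ne'
    have h2 : e ≤ (Nat.card J).factorization q :=
      (hq.pow_dvd_iff_le_factorization hJne).1 hQdvd
    exact Nat.pow_le_pow_right hq.pos h2
  have hQJ : (Q : Subgroup G) ≤ J := hQeq ▸ hQ₃J
  -- the `p`-element
  obtain ⟨T⟩ : Nonempty (Sylow p (normalizer ((Q : Subgroup G) : Set G))) := inferInstance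
  obtain ⟨t, ht, hty⟩ := C.lemF hqp Q T hyQ hy1
  have hτN : (t : G) ∈ normalizer ((Q : Subgroup G) : Set G) := t.2
  obtain ⟨k, hk⟩ := T.isPGroup' ⟨t, ht⟩
  have hτk : (t : G) ^ p ^ k = 1 := by
    have := congrArg (fun x => ((x : normalizer ((Q : Subgroup G) : Set G)) : G)) (congrArg Subtype.val hk)
    simpa using this
  set τ : G := (t : G) with hτ
  -- injectivity
  have hinj : ∀ e ∈ (Q : Subgroup G), e * z = z * e → (τ⁻¹ * e * τ) * z = z * (τ⁻¹ * e * τ) →
      e = 1 := by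
    intro e he he1 he2
    by_contra hne
    have hx : (τ * z * τ⁻¹) * e = e * (τ * z * τ⁻¹) := by
      calc (τ * z * τ⁻¹) * e = τ * (z * (τ⁻¹ * e * τ)) * τ⁻¹ := by group
        _ = τ * ((τ⁻¹ * e * τ) * z) * τ⁻¹ := by rw [he2]
        _ = _ := by group
    have h1 := D.lemM C hj₀ hj₀z (hQJ he) hne he1 hx
    have h2 : τ * z * τ⁻¹ ∈ (P : Subgroup G) := by
      refine mem_sylow_of_mem_normalizer P h1 (k := 1) ?_
      rw [pow_one, conj_pow, D.hzp]
      simp
    have h3 := D.uniq C h2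
    have h4 : τ ∈ (P : Subgroup G) := mem_sylow_of_mem_normalizer P h3 hτk
    apply hty
    have h5 : τ * y * τ⁻¹ * y⁻¹ ∈ (Q : Subgroup G) :=
      mul_mem ((Subgroup.mem_normalizer_iff.1 hτN y).1 hyQ) (inv_mem hyQ)
    have h6 : τ * y * τ⁻¹ * y⁻¹ ∈ (P : Subgroup G) := by
      have h7 : y * τ⁻¹ * y⁻¹ ∈ (P : Subgroup G) :=
        (Subgroup.mem_normalizer_iff.1 (D.hJN hyJ) _).1 (inv_mem h4)
      have h8 : τ * y * τ⁻¹ * y⁻¹ = τ * (y * τ⁻¹ * y⁻¹) := by group
      rw [h8]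
      exact mul_mem h4 h7
    have h9 := D.inf_J h6 (hQJ h5)
    rwa [mul_inv_eq_one] at h9
  -- the subgroup `W`
  have hQab : ∀ a ∈ (Q : Subgroup G), ∀ b ∈ (Q : Subgroup G), a * b = b * a :=
    fun a ha b hb => C.pab.comm hQc ha hb
  let W : Subgroup G :=
    { carrier := {x | x ∈ (Q : Subgroup G) ∧ x ^ q = 1}
      one_mem' := ⟨one_mem _, one_pow _⟩
      mul_mem' := by
        rintro a b ⟨ha, ha'⟩ ⟨hb, hb'⟩
        refine ⟨mul_mem ha hb, ?_⟩
        have hc : Commute a b := hQab a ha b hb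
        rw [hc.mul_pow, ha', hb', one_mul]
      inv_mem' := by
        rintro a ⟨ha, ha'⟩
        exact ⟨inv_mem ha, by rw [inv_pow, ha', inv_one]⟩ }
  have hWQ : W ≤ (Q : Subgroup G) := fun x hx => hx.1
  have hyW : y ∈ W := ⟨hyQ, by rw [← hyo]; exact pow_orderOf_eq_one y⟩
  have hWτ : ∀ x ∈ W, τ * x * τ⁻¹ ∈ W := by
    rintro x ⟨hx, hx'⟩
    refine ⟨(Subgroup.mem_normalizer_iff.1 hτN x).1 hx, ?_⟩
    rw [conj_pow, hx']
    simp
  have hWτ' : ∀ x ∈ W, τ⁻¹ * x * τ ∈ W := by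
    rintro x ⟨hx, hx'⟩
    have h1 := (Subgroup.mem_normalizer_iff.1 (inv_mem hτN) x).1 hx
    refine ⟨by simpa using h1, ?_⟩
    have h2 : (τ⁻¹ * x * τ) ^ q = τ⁻¹ * x ^ q * τ := by
      have := conj_pow (a := τ⁻¹) (b := x) (i := q)
      simpa using this
    rw [h2, hx']
    simp
  -- the root set
  let rs : Finset G := ((Polynomial.nthRoots q (1 : ZMod p)).toFinset).image (fun c => z ^ c.val)
  have hrs : rs.card ≤ q :=
    Finset.card_image_le.trans ((Multiset.toFinset_card_le _).trans (Polynomial.card_nthRoots q 1))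
  have hmem : ∀ x ∈ W, x * z * x⁻¹ ∈ rs := by
    rintro x ⟨hxQ, hxq⟩
    obtain ⟨c, hc⟩ := D.hzJ x (hQJ hxQ)
    have hi : ∀ i : ℕ, x ^ i * z * (x ^ i)⁻¹ = z ^ (c ^ i) := by
      intro i
      induction i with
      | zero => simp
      | succ i ih =>
        calc x ^ (i + 1) * z * (x ^ (i + 1))⁻¹ = x ^ i * (x * z * x⁻¹) * (x ^ i)⁻¹ := by
              rw [pow_succ]; group
          _ = x ^ i * z ^ c * (x ^ i)⁻¹ := by rw [hc]
          _ = (x ^ i * z * (x ^ i)⁻¹) ^ c := by rw [conj_pow]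
          _ = z ^ (c ^ i * c) := by rw [ih, pow_mul]
          _ = _ := by rw [pow_succ]
    have h1 := hi q
    rw [hxq] at h1
    simp only [one_mul, inv_one, mul_one] at h1
    have h2 : z ^ 1 = z ^ (c ^ q) := by rw [pow_one]; exact h1
    rw [pow_eq_pow_iff_modEq, D.orderOf_z] at h2
    have h3 : ((c : ℕ) : ZMod p) ^ q = 1 := by
      have := (ZMod.natCast_eq_natCast_iff _ _ _).2 h2
      push_cast at this
      exact this.symm
    refine Finset.mem_image.2 ⟨(c : ZMod p), ?_, ?_⟩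
    · rw [Multiset.mem_toFinset, Polynomial.mem_nthRoots hq.pos]
      exact h3
    · rw [ZMod.val_natCast, hc, ← D.orderOf_z, pow_mod_orderOf]
  -- `|W| ≤ q²`
  have hWcard : Nat.card W ≤ q * q := by
    let f : W → {g // g ∈ rs} × {g // g ∈ rs} := fun x =>
      (⟨x * z * (x : G)⁻¹, hmem x x.2⟩,
        ⟨(τ⁻¹ * x * τ) * z * (τ⁻¹ * x * τ)⁻¹, hmem _ (hWτ' x x.2)⟩)
    have hf : Function.Injective f := by
      intro a b hab
      have h1 : (a : G) * z * (a : G)⁻¹ = b * z * (b : G)⁻¹ :=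
        congrArg (fun w => ((w.1 : {g // g ∈ rs}) : G)) hab
      have h2 : (τ⁻¹ * a * τ) * z * (τ⁻¹ * a * τ)⁻¹ = (τ⁻¹ * b * τ) * z * (τ⁻¹ * b * τ)⁻¹ :=
        congrArg (fun w => ((w.2 : {g // g ∈ rs}) : G)) hab
      have he : (a : G)⁻¹ * b ∈ (Q : Subgroup G) := mul_mem (inv_mem (hWQ a.2)) (hWQ b.2)
      have he1 : ((a : G)⁻¹ * b) * z = z * ((a : G)⁻¹ * b) := by
        calc ((a : G)⁻¹ * b) * z = (a : G)⁻¹ * ((b : G) * z * (b : G)⁻¹) * b := by group
          _ = (a : G)⁻¹ * ((a : G) * z * (a : G)⁻¹) * b := by rw [h1]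
          _ = _ := by group
      have he2 : (τ⁻¹ * ((a : G)⁻¹ * b) * τ) * z = z * (τ⁻¹ * ((a : G)⁻¹ * b) * τ) := by
        calc (τ⁻¹ * ((a : G)⁻¹ * b) * τ) * z
            = (τ⁻¹ * a * τ)⁻¹ * ((τ⁻¹ * b * τ) * z * (τ⁻¹ * b * τ)⁻¹) * (τ⁻¹ * b * τ) := by group
          _ = (τ⁻¹ * a * τ)⁻¹ * ((τ⁻¹ * a * τ) * z * (τ⁻¹ * a * τ)⁻¹) * (τ⁻¹ * b * τ) := by rw [h2]
          _ = _ := by group
      have h3 := hinj _ he he1 he2
      rw [inv_mul_eq_one] at h3
      exact Subtype.ext h3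
    have h4 := Nat.card_le_card_of_injective f hf
    rw [Nat.card_prod, Nat.card_eq_fintype_card (α := {g // g ∈ rs}), Fintype.card_coe] at h4
    exact h4.trans (Nat.mul_le_mul hrs hrs)
  -- the congruence
  have hzτ : IsPGroup p (zpowers τ) := by
    rw [IsPGroup.iff_card, Nat.card_zpowers]
    obtain ⟨i, -, hi⟩ := (Nat.dvd_prime_pow hpp).1 (orderOf_dvd_of_pow_eq_one hτk)
    exact ⟨i, hi⟩
  have hzτN : zpowers τ ≤ normalizer (W : Set G) := by
    rw [Subgroup.zpowers_le]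
    exact mem_normalizer_of_conj_mem hWτ
  have hmod := Cfsg.Agent.Lib.FG85.SylowHall.card_modEq_card_inf_centralizer_of_isPGroup
    (zpowers τ) W hzτ hzτN
  have hWp : IsPGroup q W := Q.isPGroup'.to_le hWQ
  have hFp : IsPGroup q (W ⊓ centralizer ((zpowers τ : Subgroup G) : Set G) : Subgroup G) :=
    hWp.to_le inf_le_left
  obtain ⟨a, ha⟩ := IsPGroup.iff_card.1 hWp
  obtain ⟨b, hb⟩ := IsPGroup.iff_card.1 hFp
  have hlt : Nat.card (W ⊓ centralizer ((zpowers τ : Subgroup G) : Set G) : Subgroup G) < Nat.card W := by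
    apply lt_of_le_of_ne (Subgroup.card_le_of_le inf_le_left)
    intro heq
    have h1 : W ≤ W ⊓ centralizer ((zpowers τ : Subgroup G) : Set G) :=
      (Subgroup.eq_of_le_of_card_ge inf_le_left heq.ge).ge
    have h2 : y ∈ centralizer ((zpowers τ : Subgroup G) : Set G) := (h1 hyW).2
    rw [Subgroup.mem_centralizer_iff] at h2
    have h3 := h2 τ (mem_zpowers τ)
    apply hty
    rw [h3]
    group
  rw [ha, hb] at hlt hmod
  have hba : b < a := (Nat.pow_lt_pow_iff_right hq.one_lt).1 hlt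
  have ha2 : a ≤ 2 := by
    rw [ha, ← pow_two] at hWcard
    exact (Nat.pow_le_pow_iff_right hq.one_lt).1 hWcard
  exact arith_false hpp hq C.hp2 C.hp3 hqle hba ha2 hmod

end Dat

/-- A minimal counterexample does not exist. -/
theorem false_of_minCE (C : MinCE p G) : False := by
  obtain ⟨P⟩ : Nonempty (Sylow p G) := inferInstance
  obtain ⟨J, hJN, hJc, hidx, hdec⟩ := C.exists_complement P
  obtain ⟨z, hzP, hz1, hzp, hzc, hzJ⟩ := C.exists_z P J hJN hJc
  have D : Dat P J z := ⟨hJN, hJc, hidx, hdec, hzP, hz1, hzp, hzc, hzJ⟩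
  by_cases hcent : ∀ j ∈ J, j * z = z * j
  · exact D.false_of_central C hcent
  · push Not at hcent
    obtain ⟨j₀, hj₀, hj₀z⟩ := hcent
    exact D.false_of_noncentral C hj₀ hj₀z

end Cfsg.Agent.Lib.Blk89.PAb2.MinCE
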