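import Mathlib
import Cfsg.Agent.Lib.Blk89.PAb7
import Cfsg.Agent.Lib.Char.Burnside

/-!
# Groups whose `p'`-subgroups are abelian of exponent dividing `p - 1` are solvable
-/

set_option autoImplicit false
set_option linter.style.haveILetI false

namespace Cfsg.Agent.Lib.Blk89.PAb8

open Subgroup Cfsg Cfsg.Agent.Lib.Blk89.PAb0 Cfsg.Agent.Lib.Blk89.PAb2

universe u

variable {p : ℕ} [hp : Fact p.Prime]

theorem solvable_of_PAb : ∀ (n : ℕ) {G : Type u} [Group G] [Finite G], Nat.card G = n → PAb p G →
    Group.IsSolvable G := by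
  intro n
  induction n using Nat.strong_induction_on with
  | _ n ih =>
  intro G _ _ hn hG
  have hpp := hp.out
  by_contra hns
  have hnt : Nontrivial G := by
    by_contra h
    rw [not_nontrivial_iff_subsingleton] at h
    exact hns inferInstance
  have hlt : ∀ U : Subgroup G, U ≠ ⊤ → Nat.card U < n := by
    intro U hU
    rw [← hn]
    apply lt_of_le_of_ne (Subgroup.card_le_card_group U)
    intro h
    exact hU (Subgroup.eq_top_of_card_eq U h)
  have hsolv : ∀ U : Subgroup G, U ≠ ⊤ → Group.IsSolvable U :=
    fun U hU => ih _ (hlt U hU) rfl (hG.subgroup U)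
  have hsimple : ∀ N : Subgroup G, N.Normal → N = ⊥ ∨ N = ⊤ := by
    intro N hN
    by_contra hcon
    push Not at hcon
    obtain ⟨h1, h2⟩ := hcon
    haveI := hsolv N h2
    have hq : Nat.card (G ⧸ N) < n := by
      rw [← hn, Subgroup.card_eq_card_quotient_mul_card_subgroup N]
      have h3 : 1 < Nat.card N := by
        have : Nontrivial N := (Subgroup.nontrivial_iff_ne_bot N).2 h1
        exact Finite.one_lt_card
      exact lt_mul_of_one_lt_right Nat.card_pos h3
    haveI : Group.IsSolvable (G ⧸ N) :=
      ih _ hq rfl (hG.of_surjective (QuotientGroup.mk' N) (QuotientGroup.mk'_surjective N))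
    apply hns
    refine solvable_of_ker_le_range N.subtype (QuotientGroup.mk' N) ?_
    rw [QuotientGroup.ker_mk', Subgroup.range_subtype]
  have hperfect : commutator G = ⊤ := by
    rcases hsimple (commutator G) inferInstance with h | h
    · exfalso
      apply hns
      rw [isSolvable_def]
      exact ⟨1, by rw [derivedSeries_one]; exact h⟩
    · exact h
  -- the primes dividing `|G|`
  have hq : ∀ q : ℕ, q.Prime → q ∣ Nat.card G → q ≠ p → q ∣ p - 1 := by
    intro q hq hd hqp
    haveI : Fact q.Prime := ⟨hq⟩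
    obtain ⟨x, hx⟩ := exists_prime_orderOf_dvd_card' q hd
    have hc : (Nat.card (zpowers x)).Coprime p := by
      rw [Nat.card_zpowers, hx]
      exact (Nat.coprime_primes hq hpp).2 hqp
    have h1 := hG.exp hc (mem_zpowers x)
    rw [← hx]
    exact orderOf_dvd_of_pow_eq_one h1
  have hcard0 : Nat.card G ≠ 0 := Nat.card_pos.ne'
  have hp2 : p ≠ 2 := by
    rintro rfl
    apply hns
    have hP : IsPGroup 2 G := by
      rw [IsPGroup.iff_card]
      refine ⟨_, Nat.eq_prime_pow_of_unique_prime_dvd hcard0 (fun {d} hd hdd => ?_)⟩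
      by_contra hne
      have := hq d hd hdd hne
      simp only [Nat.add_one_sub_one, Nat.dvd_one] at this
      exact hd.one_lt.ne' this
    have : Group.IsNilpotent G := hP.isNilpotent
    exact inferInstance
  have hp3 : p ≠ 3 := by
    rintro rfl
    apply hns
    set m := Nat.card G with hm
    have hm' : ordCompl[2] m ≠ 0 := (Nat.ordCompl_pos 2 hcard0).ne'
    have h3 := Nat.eq_prime_pow_of_unique_prime_dvd (p := 3) hm' (fun {d} hd hdd => by
      have hdm : d ∣ m := hdd.trans (Nat.ordCompl_dvd m 2)
      have hd2 : d ≠ 2 := by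
        rintro rfl
        exact Nat.not_dvd_ordCompl Nat.prime_two hcard0 hdd
      by_contra hne
      have h4 := hq d hd hdm hne
      have h5 : d ∣ 2 := h4
      have h6 := (Nat.prime_dvd_prime_iff_eq hd Nat.prime_two).1 h5
      exact hd2 h6)
    refine Cfsg.Agent.Lib.Char.Burnside.isSolvable_of_card_eq 2 3 (m.factorization 2)
      (ordCompl[2] m).primeFactorsList.length Nat.prime_two Nat.prime_three ?_
    rw [← h3]
    exact (Nat.ordProj_mul_ordCompl_eq_self m 2).symm
  exact MinCE.false_of_minCE ⟨hG, hsimple, hperfect, hsolv, hnt, hp2, hp3⟩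

end Cfsg.Agent.Lib.Blk89.PAb8
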