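import Cfsg.Agent.Lib.Blk89.Basic
import Cfsg.Agent.Lib.Blk89.ItoMichler
import Cfsg.Agent.Lib.Blocks.General
import Cfsg.Agent.Lib.BlockP.Stable
import Cfsg.Agent.Lib.BlockH.Idem
import Cfsg.Agent.Lib.BlockT.GaloisPrime
import Cfsg.Agent.Lib.BlockT.Inflate2
import Cfsg.Agent.Lib.OddChar.GaloisConj
import Cfsg.Agent.Lib.Core.Basic
import Cfsg.Agent.Lib.Core.PSolvable

/-!
# The principal block: Galois conjugates and inflation from `G / O_{p'}(G)`

* `powI`, `powI_mem_principal`: the principal block is stable under the power twists.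
* `exists_nat_sum_normSq`: `∑_{χ ∈ B₀} |χ(x)|²` is a positive integer.
* `inflate`, `inflate_mem_principal_iff`, `exists_inflate_of_mem_principal`.
* `sameBlock_of_centralizer_le`: a group with a normal `p`-subgroup containing its centralizer has
  just one block.
* `mem_principal_iff_of_isPSolvable`.
-/

set_option autoImplicit false
set_option linter.style.haveILetI false
set_option linter.unusedSectionVars false

namespace Cfsg.Agent.Lib.Blk89.PrinBlock

open Cfsg MonoidAlgebra
open Cfsg.Agent.Lib.Blocks.Local Cfsg.Agent.Lib.Blocks.Central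
open Cfsg.Agent.Lib.Blocks.General Cfsg.Agent.Lib.Blocks.Third
open Cfsg.Agent.Lib.Blk89.Basic Cfsg.Agent.Lib.Char.Basic Cfsg.Agent.Lib.Char.Ortho
open Cfsg.Agent.Lib.Char.Complete
open Cfsg.Agent.Lib.Char.Galois Cfsg.Agent.Lib.OddChar.GaloisConj
open Cfsg.Agent.Lib.BlockT.GaloisPrime
open scoped ComplexConjugate

universe u

section Galois

variable {G : Type u} [Group G] [Fintype G]

/-- The power twist of an irreducible character. -/
noncomputable def powI {k : ℕ} (hk : k.Coprime (Nat.card G)) (χ : IrrCharacter G) : IrrCharacter G :=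
  ⟨fun g => (χ : G → ℂ) (g ^ k), isIrrCharacter_pow hk χ.2⟩

@[simp] theorem powI_apply {k : ℕ} (hk : k.Coprime (Nat.card G)) (χ : IrrCharacter G) (g : G) :
    ((powI hk χ : IrrCharacter G) : G → ℂ) g = (χ : G → ℂ) (g ^ k) := rfl

theorem powI_injective {k : ℕ} (hk : k.Coprime (Nat.card G)) :
    Function.Injective (powI (G := G) hk) := by
  intro χ ψ h
  apply Subtype.ext
  funext g
  obtain ⟨a, rfl⟩ := (pow_bijective_of_coprime hk).2 g
  exact congrFun (congrArg Subtype.val h) a

theorem centralChar_powI {k : ℕ} (hk : k.Coprime (Nat.card G)) (χ : IrrCharacter G) (g : G) :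
    centralChar ((powI hk χ : IrrCharacter G) : G → ℂ) g = centralChar (χ : G → ℂ) (g ^ k) := by
  simp only [centralChar, powI_apply, one_pow]
  rw [centralizer_pow_coprime g hk]

theorem powI_mem_principal {M : Ideal AlgInt} {k : ℕ} (hk : k.Coprime (Nat.card G)) {χ : IrrCharacter G}
    (hχ : χ ∈ principalBlock M G) : powI hk χ ∈ principalBlock M G := by
  intro g
  have h1 := hχ (g ^ k)
  rw [centralChar_powI]
  have h2 : centralChar (fun _ : G => (1 : ℂ)) g = centralChar (fun _ : G => (1 : ℂ)) (g ^ k) := by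
    simp only [centralChar]
    rw [centralizer_pow_coprime g hk]
  rw [h2]
  exact h1

theorem irr_mem_Kn (χ : IrrCharacter G) (g : G) : (χ : G → ℂ) g ∈ Kn (Nat.card G) := by
  obtain ⟨χ, n, ρ, hρ, rfl⟩ := χ
  exact character_mem_Kn ρ Nat.card_pos.ne' (pow_card_eq_one' (x := g))

theorem algHom_irr (χ : IrrCharacter G) (g : G) {σ : Kn (Nat.card G) →ₐ[ℚ] ℂ} {k : ℕ}
    (hk : ∀ z : Kn (Nat.card G), z ^ (Nat.card G) = 1 → σ z = (z : ℂ) ^ k) :
    σ ⟨(χ : G → ℂ) g, irr_mem_Kn χ g⟩ = (χ : G → ℂ) (g ^ k) := by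
  obtain ⟨χ, n, ρ, hρ, rfl⟩ := χ
  exact algHom_character ρ Nat.card_pos.ne' hk (pow_card_eq_one' (x := g))

/-- The sum over the principal block of `|χ(x)|²` is a positive integer. -/
theorem exists_nat_sum_normSq {M : Ideal AlgInt} {p : ℕ} (hM : IsPModular p M) (x : G) :
    ∃ n : ℕ, 0 < n ∧ ∑ᶠ χ ∈ principalBlock M G, Complex.normSq ((χ : G → ℂ) x) = n := by
  classical
  haveI := isPrime_of_pModular hM
  haveI := finite_irrCharacter (G := G)
  letI := Fintype.ofFinite (IrrCharacter G)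
  set N := Nat.card G with hN
  have hN0 : N ≠ 0 := Nat.card_pos.ne'
  haveI : NeZero N := ⟨hN0⟩
  haveI := isCyclotomicExtension_Kn N
  haveI : IsGalois ℚ (Kn N) := IsCyclotomicExtension.isGalois {N} ℚ (Kn N)
  set S : Finset (IrrCharacter G) := Finset.univ.filter (· ∈ principalBlock M G) with hS
  have hSm : ∀ χ, χ ∈ S ↔ χ ∈ principalBlock M G := fun χ => by simp [hS]
  have hsum : ∑ᶠ χ ∈ principalBlock M G, Complex.normSq ((χ : G → ℂ) x) =
      ∑ χ ∈ S, Complex.normSq ((χ : G → ℂ) x) := by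
    rw [finsum_mem_def, finsum_eq_sum_of_fintype, hS, Finset.sum_filter]
    refine Finset.sum_congr rfl fun χ _ => ?_
    rw [Set.indicator_apply]
  rw [hsum]
  set R : ℝ := ∑ χ ∈ S, Complex.normSq ((χ : G → ℂ) x) with hR
  have hRc : (R : ℂ) = ∑ χ ∈ S, (χ : G → ℂ) x * (χ : G → ℂ) x⁻¹ := by
    rw [hR]
    push_cast
    refine Finset.sum_congr rfl fun χ _ => ?_
    rw [char_inv (isCharacter_of_isIrrCharacter χ.2), Complex.mul_conj]
  let E : IrrCharacter G → G → Kn N := fun χ g => ⟨(χ : G → ℂ) g, irr_mem_Kn χ g⟩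
  let T : Kn N := ∑ χ ∈ S, E χ x * E χ x⁻¹
  have hT : (T : ℂ) = (R : ℂ) := by
    rw [hRc]
    simp [T, E]
  have hfix : ∀ σ : Kn N ≃ₐ[ℚ] Kn N, σ T = T := by
    intro σ
    let σ' : Kn N →ₐ[ℚ] ℂ := (Kn N).val.comp σ.toAlgHom
    obtain ⟨k, hk, hσ⟩ := exists_pow_of_algHom N σ'
    have h2 : σ' T = ((σ T : Kn N) : ℂ) := rfl
    apply Subtype.ext
    rw [← h2]
    have h3 : σ' T = ∑ χ ∈ S, (χ : G → ℂ) (x ^ k) * (χ : G → ℂ) (x⁻¹ ^ k) := by
      simp only [T, map_sum, map_mul]
      refine Finset.sum_congr rfl fun χ _ => ?_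
      rw [algHom_irr χ x hσ, algHom_irr χ x⁻¹ hσ]
    rw [h3, hT, hRc]
    -- the twist permutes the principal block
    have hmaps : ∀ χ ∈ S, powI hk χ ∈ S := fun χ hχ => (hSm _).mpr (powI_mem_principal hk ((hSm _).mp hχ))
    have himg : S.image (powI hk) = S := by
      apply Finset.eq_of_subset_of_card_le
      · intro ψ hψ
        obtain ⟨χ, hχ, rfl⟩ := Finset.mem_image.mp hψ
        exact hmaps χ hχ
      · rw [Finset.card_image_of_injective _ (powI_injective hk)]
    conv_rhs => rw [← himg]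
    rw [Finset.sum_image (fun a _ b _ h => powI_injective hk h)]
    rfl
  have hbot := (IsGalois.mem_bot_iff_fixed T).2 hfix
  rw [IntermediateField.mem_bot] at hbot
  obtain ⟨q, hq⟩ := hbot
  have hq' : (q : ℂ) = (R : ℂ) := by
    rw [← hT, ← hq]
    simp
  have hint : IsIntegral ℤ (q : ℂ) := by
    rw [hq', hRc]
    refine IsIntegral.sum _ fun χ _ => IsIntegral.mul ?_ ?_
    · exact Cfsg.Agent.Lib.BlockP.Stable.isIntegral_irr χ x
    · exact Cfsg.Agent.Lib.BlockP.Stable.isIntegral_irr χ x⁻¹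
  have hint2 : IsIntegral ℤ q := by
    have : IsIntegral ℤ (algebraMap ℚ ℂ q) := by simpa using hint
    exact (isIntegral_algebraMap_iff (algebraMap ℚ ℂ).injective).1 this
  obtain ⟨n, hn⟩ := IsIntegrallyClosed.isIntegral_iff.1 hint2
  have hRn : R = (n : ℝ) := by
    have h1 : ((n : ℝ) : ℂ) = (R : ℂ) := by
      rw [← hq', ← hn]
      simp
    exact (Complex.ofReal_injective h1).symm
  have hone : oneIrr G ∈ S := (hSm _).mpr (mem_blockOf_self (oneIrr G))
  have hR1 : 1 ≤ R := by
    have h1 : Complex.normSq (((oneIrr G : IrrCharacter G) : G → ℂ) x) ≤ R :=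
      Finset.single_le_sum (f := fun χ : IrrCharacter G => Complex.normSq ((χ : G → ℂ) x))
        (fun χ _ => Complex.normSq_nonneg _) hone
    simpa using h1
  have hn1 : 1 ≤ n := by
    have : (1 : ℝ) ≤ n := by rw [← hRn]; exact hR1
    exact_mod_cast this
  refine ⟨n.toNat, by omega, ?_⟩
  rw [hRn]
  have : ((n.toNat : ℤ) : ℝ) = (n : ℝ) := by
    rw [Int.toNat_of_nonneg (by omega)]
  exact_mod_cast this.symm

end Galois

section Unique

variable {G : Type u} [Group G] [Fintype G] {M : Ideal AlgInt} {p : ℕ}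

/-- A group with a normal `p`-subgroup containing its centralizer has just one block. -/
theorem sameBlock_of_centralizer_le [Fact p.Prime] (hM : IsPModular p M) (Q : Subgroup G) (hQn : Q.Normal)
    (hQp : IsPGroup p Q) (hC : Subgroup.centralizer (Q : Set G) ≤ Q) (χ ψ : IrrCharacter G) :
    SameBlock M (χ : G → ℂ) (ψ : G → ℂ) := by
  classical
  haveI := isPrime_of_pModular hM
  haveI := finite_irrCharacter (G := G)
  letI := Fintype.ofFinite (IrrCharacter G)
  set B := blockOf M (χ : G → ℂ) with hB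
  have hBb : IsPBlock M B := ⟨χ, rfl⟩
  have hzero : ∀ g : G, g ≠ 1 → blockCoeff B g = 0 := by
    intro g hg
    by_cases hgC : g ∈ Subgroup.centralizer (Q : Set G)
    · have hgQ := hC hgC
      obtain ⟨k, hk⟩ := (IsPGroup.iff_orderOf.mp hQp) ⟨g, hgQ⟩
      have hk' : orderOf g = p ^ k := by
        rw [← hk]
        have := Subgroup.orderOf_coe (⟨g, hgQ⟩ : Q)
        exact this.symm ▸ rfl
      refine Cfsg.Agent.Lib.BlockT.Inflate2.blockCoeff_eq_zero hM hBb ?_
      rw [hk']
      refine dvd_pow_self p ?_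
      rintro rfl
      rw [pow_zero, orderOf_eq_one_iff] at hk'
      exact hg hk'
    · exact Cfsg.Agent.Lib.BlockH.Idem.blockCoeff_eq_zero_of_not_mem_centralizer hM Q hQn hQp hBb hgC
  set c := blockCoeff B 1 with hc
  have hid : idem B = algebraMap ℂ (Subalgebra.center ℂ (GA G)) c := by
    apply Subtype.ext
    have e : ((algebraMap ℂ (Subalgebra.center ℂ (GA G)) c : Subalgebra.center ℂ (GA G)) : GA G) =
        c • (1 : GA G) := by
      rw [Algebra.algebraMap_eq_smul_one]
      rfl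
    rw [e]
    ext g
    rw [coeff_smul', coeff_one']
    have h1 : ((idem B : Subalgebra.center ℂ (GA G)) : GA G).coeff g = blockCoeff B g := coeff_idem B g
    rw [h1]
    by_cases hg : g = 1
    · subst hg
      simp [hc]
    · rw [hzero g hg, if_neg hg, mul_zero]
  have h1 : omegaHom χ (idem B) = 1 := by
    rw [omegaHom_idem, if_pos (mem_blockOf_self χ)]
  rw [hid, AlgHom.commutes] at h1
  have h2 : omegaHom ψ (idem B) = c := by
    rw [hid, AlgHom.commutes]
    rfl
  have h3 : c = 1 := h1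
  rw [omegaHom_idem, h3] at h2
  by_contra hne
  have hψ : ψ ∉ B := hne
  rw [if_neg hψ] at h2
  exact zero_ne_one h2

end Unique

section Inflate

variable {G : Type u} [Group G] {M : Ideal AlgInt} {p : ℕ}

theorem mk_surj (p : ℕ) (G : Type u) [Group G] :
    Function.Surjective (QuotientGroup.mk' (pPrimeCore p G)) :=
  QuotientGroup.mk'_surjective _

/-- Inflation of irreducible characters from `G / O_{p'}(G)`. -/
noncomputable def inflate (φ : IrrCharacter (G ⧸ pPrimeCore p G)) : IrrCharacter G :=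
  ⟨(φ : G ⧸ pPrimeCore p G → ℂ) ∘ QuotientGroup.mk' (pPrimeCore p G),
    Cfsg.Agent.Lib.Char.Linear.isIrrCharacter_comp _ (mk_surj p G) φ.2⟩

@[simp] theorem inflate_apply (φ : IrrCharacter (G ⧸ pPrimeCore p G)) (g : G) :
    ((inflate φ : IrrCharacter G) : G → ℂ) g = (φ : G ⧸ pPrimeCore p G → ℂ) (QuotientGroup.mk g) := rfl

theorem inflate_injective : Function.Injective (inflate (p := p) (G := G)) := by
  intro φ ψ h
  apply Subtype.ext
  funext q
  obtain ⟨g, rfl⟩ := QuotientGroup.mk_surjective q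
  exact congrFun (congrArg Subtype.val h) g

variable [Finite G]

theorem not_dvd_card_pPrimeCore [Fact p.Prime] : ¬ p ∣ Nat.card (pPrimeCore p G) := by
  intro hdvd
  have hcop := Cfsg.Agent.Lib.Core.Basic.pPrimeCore_coprime (p := p) (G := G)
  have := Nat.dvd_gcd hdvd (dvd_refl p)
  rw [Nat.Coprime.gcd_eq_one hcop] at this
  exact (Fact.out : p.Prime).one_lt.ne' (Nat.dvd_one.mp this)

theorem inflate_mem_principal_iff [Fact p.Prime] (hM : IsPModular p M) (φ : IrrCharacter (G ⧸ pPrimeCore p G)) :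
    inflate φ ∈ principalBlock M G ↔ φ ∈ principalBlock M (G ⧸ pPrimeCore p G) := by
  classical
  cases nonempty_fintype G
  haveI := isPrime_of_pModular hM
  letI : Fintype (G ⧸ pPrimeCore p G) := Fintype.ofFinite _
  have h1 : IsClassFunction (G ⧸ pPrimeCore p G) (fun _ => (1 : ℂ)) := fun _ _ => rfl
  constructor
  · intro h
    refine Cfsg.Agent.Lib.BlockT.Inflate.sameBlock_of_comp_coprime (QuotientGroup.mk' (pPrimeCore p G))
      (mk_surj p G) hM ?_ h1 (isClassFunction_of_isIrrCharacter φ.2) h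
    rw [QuotientGroup.ker_mk']
    exact not_dvd_card_pPrimeCore
  · intro h
    exact Cfsg.Agent.Lib.BlockT.Inflate.sameBlock_comp (QuotientGroup.mk' (pPrimeCore p G))
      (mk_surj p G) h1 (isClassFunction_of_isIrrCharacter φ.2) h

theorem exists_inflate_of_trivial {χ : IrrCharacter G}
    (h : ∀ n ∈ pPrimeCore p G, (χ : G → ℂ) n = (χ : G → ℂ) 1) :
    ∃ φ : IrrCharacter (G ⧸ pPrimeCore p G), inflate φ = χ := by
  obtain ⟨φ, hφ, he⟩ := Cfsg.Agent.Lib.Char.Linear.isIrrCharacter_descend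
    (QuotientGroup.mk' (pPrimeCore p G)) (mk_surj p G) χ.2 (by
      intro k hk
      rw [QuotientGroup.ker_mk'] at hk
      exact h k hk)
  exact ⟨⟨φ, hφ⟩, Subtype.ext he.symm⟩

theorem trivial_of_mem_principal [Fact p.Prime] (hM : IsPModular p M) {χ : IrrCharacter G}
    (hχ : χ ∈ principalBlock M G) : ∀ n ∈ pPrimeCore p G, (χ : G → ℂ) n = (χ : G → ℂ) 1 := by
  cases nonempty_fintype G
  haveI := isPrime_of_pModular hM
  intro n hn
  exact eq_one_of_mem_principal hM (pPrimeCore_normal p G) not_dvd_card_pPrimeCore hχ hn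

theorem bijOn_inflate [Fact p.Prime] (hM : IsPModular p M) :
    Set.BijOn (inflate (p := p) (G := G)) (principalBlock M (G ⧸ pPrimeCore p G)) (principalBlock M G) := by
  refine ⟨fun φ hφ => (inflate_mem_principal_iff hM φ).mpr hφ, inflate_injective.injOn, ?_⟩
  intro χ hχ
  obtain ⟨φ, rfl⟩ := exists_inflate_of_trivial (trivial_of_mem_principal hM hχ)
  exact ⟨φ, (inflate_mem_principal_iff hM φ).mp hχ, rfl⟩

theorem charDegree_inflate (φ : IrrCharacter (G ⧸ pPrimeCore p G)) :
    charDegree ((inflate φ : IrrCharacter G) : G → ℂ) = charDegree (φ : G ⧸ pPrimeCore p G → ℂ) := by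
  have h1 : ((inflate φ : IrrCharacter G) : G → ℂ) 1 = (φ : G ⧸ pPrimeCore p G → ℂ) 1 := rfl
  simp only [charDegree, h1]

/-- In a `p`-solvable group the principal block consists of all the characters trivial on
`O_{p'}(G)`. -/
theorem mem_principal_iff_of_isPSolvable [Fact p.Prime] (hM : IsPModular p M) (hsolv : IsPSolvable p G)
    (χ : IrrCharacter G) :
    χ ∈ principalBlock M G ↔ ∀ n ∈ pPrimeCore p G, (χ : G → ℂ) n = (χ : G → ℂ) 1 := by
  refine ⟨trivial_of_mem_principal hM, fun h => ?_⟩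
  obtain ⟨φ, rfl⟩ := exists_inflate_of_trivial h
  rw [inflate_mem_principal_iff hM]
  classical
  letI : Fintype (G ⧸ pPrimeCore p G) := Fintype.ofFinite _
  have hs : IsPSolvable p (G ⧸ pPrimeCore p G) :=
    Cfsg.Agent.Lib.Core.PSolvable.isPSolvable_of_surjective _ (mk_surj p G) hsolv
  have hb := Cfsg.Agent.Lib.Core.Basic.pPrimeCore_quotient_eq_bot (p := p) (G := G)
  have hC := Cfsg.Agent.Lib.Core.PSolvable.centralizer_pCore_le_of_isPSolvable hs hb
  exact sameBlock_of_centralizer_le hM _ (pCore_normal p _)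
    Cfsg.Agent.Lib.Core.Basic.pCore_isPGroup hC (oneIrr _) φ

end Inflate

end Cfsg.Agent.Lib.Blk89.PrinBlock
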